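import Cfsg.Agent.Lib.Leech.Index

/-!
# The lattice is generated by its vectors of norm 32

* `minGen` : the subgroup generated by the minimal vectors;  `minGen_eq : minGen = leechLattice`
* `oddMin` : the minimal vector `(-3, 1²³)`;  `four_pair_minimal`;  `row_minimal`
-/

set_option autoImplicit false

namespace Cfsg.Agent.Leech

/-- The subgroup generated by the vectors of norm 32. -/
def minGen : AddSubgroup (GolayPt → ℤ) :=
  AddSubgroup.closure {x : GolayPt → ℤ | x ∈ leechLattice ∧ sqNorm x = 32}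

theorem minGen_le : minGen ≤ leechLattice := (AddSubgroup.closure_le _).2 fun _ h => h.1

theorem mem_minGen {x : GolayPt → ℤ} (hx : x ∈ leechLattice) (hn : sqNorm x = 32) : x ∈ minGen :=
  AddSubgroup.subset_closure ⟨hx, hn⟩

theorem four_pair_minimal {i j : GolayPt} (hij : i ≠ j) (s t : ℤ) (hs : s = 1 ∨ s = -1)
    (ht : t = 1 ∨ t = -1) :
    (Pi.single i (4 * s) + Pi.single j (4 * t) : GolayPt → ℤ) ∈ leechLattice ∧
      sqNorm (Pi.single i (4 * s) + Pi.single j (4 * t) : GolayPt → ℤ) = 32 := by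
  refine ⟨four_single_add_mem i j s t (by rcases hs with rfl | rfl <;> rcases ht with rfl | rfl <;>
    norm_num), ?_⟩
  rw [sqNorm_add, sqNorm_single, sqNorm_single, dotInt_single, Pi.single_eq_of_ne hij.symm]
  rcases hs with rfl | rfl <;> rcases ht with rfl | rfl <;> norm_num

theorem four_diff_mem (i j : GolayPt) :
    (Pi.single i 4 - Pi.single j 4 : GolayPt → ℤ) ∈ minGen := by
  by_cases h : i = j
  · subst h; rw [sub_self]; exact minGen.zero_mem
  · obtain ⟨h1, h2⟩ := four_pair_minimal h 1 (-1) (Or.inl rfl) (Or.inr rfl)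
    have := mem_minGen h1 h2
    rwa [mul_one, mul_neg_one, Pi.single_neg, ← sub_eq_add_neg] at this

theorem eight_mem (i : GolayPt) : (Pi.single i 8 : GolayPt → ℤ) ∈ minGen := by
  obtain ⟨j, hj⟩ := exists_ne i
  obtain ⟨h1, h2⟩ := four_pair_minimal hj.symm 1 1 (Or.inl rfl) (Or.inl rfl)
  have := minGen.add_mem (mem_minGen h1 h2) (four_diff_mem i j)
  rwa [mul_one, add_add_sub_cancel, ← Pi.single_add] at this

theorem four_mem (b : GolayPt → ℤ) (h : (2 : ℤ) ∣ ∑ i, b i) : (4 : ℤ) • b ∈ minGen := by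
  obtain ⟨k, hk⟩ := h
  have he : (4 : ℤ) • b = ∑ i, b i • (Pi.single i 4 - Pi.single none 4 : GolayPt → ℤ)
      + k • (Pi.single none 8 : GolayPt → ℤ) := by
    funext l
    simp only [Pi.smul_apply, Pi.add_apply, Finset.sum_apply, Pi.sub_apply, smul_eq_mul, mul_sub,
      Finset.sum_sub_distrib, Pi.single_apply, mul_ite, mul_zero]
    rw [Finset.sum_ite_eq]
    by_cases hl : l = none
    · subst hl; simp only [Finset.mem_univ, if_true, ← Finset.sum_mul, hk]; ring
    · simp [hl, mul_comm]
  rw [he]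
  exact minGen.add_mem (minGen.sum_mem fun i _ => minGen.zsmul_mem (four_diff_mem i none) _)
    (minGen.zsmul_mem (eight_mem none) _)

/-- Code words having an even lift in `minGen`. -/
def liftable : AddSubgroup (GolayPt → ZMod 2) where
  carrier := {w | ∃ a : GolayPt → ℤ, mod2 a = w ∧ (4 : ℤ) ∣ ∑ i, a i ∧ (2 : ℤ) • a ∈ minGen}
  zero_mem' := ⟨0, mod2_zero, by simp, by rw [smul_zero]; exact minGen.zero_mem⟩
  add_mem' := by
    rintro _ _ ⟨a, rfl, ha, ha'⟩ ⟨b, rfl, hb, hb'⟩
    exact ⟨a + b, mod2_add a b, by simpa [Finset.sum_add_distrib] using dvd_add ha hb,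
      by rw [smul_add]; exact minGen.add_mem ha' hb'⟩
  neg_mem' := by
    rintro _ ⟨a, rfl, ha, ha'⟩
    exact ⟨-a, mod2_neg a, by
      simp only [Pi.neg_apply, Finset.sum_neg_distrib]; exact dvd_neg.2 ha, by rw [smul_neg]; exact minGen.neg_mem ha'⟩

theorem row_mem_liftable : ∀ g ∈ Golay.rows, Golay.word g ∈ liftable := by
  intro g hg
  have hc : ∀ g ∈ Golay.rows, Golay.popcount g = 8 := by decide +kernel
  set w := Golay.word g with hwdef
  have hw : w ∈ golayCode := Golay.rows_mem g hg
  have h8 : (support₂ w).card = 8 := by rw [hwdef, Golay.support₂_word, Golay.card_pts, hc g hg]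
  set a : GolayPt → ℤ := fun i => if w i ≠ 0 then 1 else 0 with hadef
  have hmod : mod2 a = w := by
    funext i
    simp only [hadef, mod2]
    split_ifs with h
    · rw [zmod2_one h]; rfl
    · rw [not_not.1 h]; rfl
  have hsum : ∑ i, a i = 8 := by
    simp only [hadef]
    rw [← Finset.sum_filter, Finset.sum_const, show (Finset.univ.filter fun i => w i ≠ 0) = support₂ w from rfl, h8]
    rfl
  have hn : sqNorm ((2 : ℤ) • a) = 32 := by
    rw [sqNorm_zsmul, sqNorm, show ∑ i, a i ^ 2 = ∑ i, a i from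
      Finset.sum_congr rfl fun i _ => by simp only [hadef]; split_ifs <;> rfl, hsum]
    rfl
  exact ⟨a, hmod, by rw [hsum]; norm_num,
    mem_minGen (mem_mk_even a (by rw [hsum]; norm_num) (hmod ▸ hw)) hn⟩
where
  zmod2_one {p : ZMod 2} (h : p ≠ 0) : p = 1 := by revert p; decide

theorem encAux_mem_liftable (gs : List ℕ) (h : ∀ g ∈ gs, Golay.word g ∈ liftable) :
    ∀ x, Golay.word (Golay.encAux gs x) ∈ liftable := by
  induction gs with
  | nil => intro x; simp [Golay.encAux, Golay.word_zero, liftable.zero_mem]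
  | cons g gs ih =>
    intro x
    rw [Golay.encAux, Golay.word_xor]
    refine liftable.add_mem ?_ (ih (fun a ha => h a (List.mem_cons_of_mem _ ha)) _)
    split
    · exact h g List.mem_cons_self
    · simp [Golay.word_zero, liftable.zero_mem]

/-- The minimal vector `(-3, 1²³)`. -/
def oddMin : GolayPt → ℤ := fun i => if i = none then -3 else 1

theorem oddMin_mem : oddMin ∈ leechLattice :=
  mem_leechLattice.2 (Spor.mem_leechSet_of_const_mod_four oddMin 1 1 (by decide) (by decide)
    (by decide +kernel))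

theorem sqNorm_oddMin : sqNorm oddMin = 32 := by decide +kernel

theorem even_mem_minGen {x : GolayPt → ℤ} (hx : x ∈ leechLattice) (h : (2 : ℤ) ∣ x none) :
    x ∈ minGen := by
  obtain ⟨m, a, hm, h1, h2, h3⟩ := exists_rep hx
  have hm0 : m = 0 := by have := h1 none; omega
  subst hm0
  obtain ⟨y, -, hy⟩ := Golay.mem_golayCode_iff.1 h3
  obtain ⟨a', ha1, ha2, ha3⟩ := hy ▸ encAux_mem_liftable Golay.rows row_mem_liftable y
  have hd : ∀ i, (2 : ℤ) ∣ a i - a' i := fun i => by
    have h0 : ((a i - a' i : ℤ) : ZMod 2) = 0 := by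
      have := congrFun ha1 i
      simp only [mod2] at this
      rw [Int.cast_sub, this, sub_self]
    exact (ZMod.intCast_zmod_eq_zero_iff_dvd _ 2).1 h0
  choose b hb using hd
  have hbs : (2 : ℤ) ∣ ∑ i, b i := by
    have : ∑ i, a i - ∑ i, a' i = 2 * ∑ i, b i := by
      rw [← Finset.sum_sub_distrib, Finset.mul_sum]; exact Finset.sum_congr rfl fun i _ => hb i
    simp only [Int.ModEq] at h2
    omega
  have hx' : x = (2 : ℤ) • a' + (4 : ℤ) • b := funext fun i => by
    have := hb i
    simp only [Pi.add_apply, Pi.smul_apply, smul_eq_mul, h1 i]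
    omega
  rw [hx']
  exact minGen.add_mem ha3 (four_mem b hbs)

theorem minGen_eq : minGen = leechLattice := by
  refine le_antisymm minGen_le fun x hx => ?_
  by_cases h : (2 : ℤ) ∣ x none
  · exact even_mem_minGen hx h
  · have h' := even_mem_minGen (leechLattice.sub_mem hx oddMin_mem) (by
      simp only [Pi.sub_apply, oddMin, if_true]; omega)
    simpa using minGen.add_mem h' (mem_minGen oddMin_mem sqNorm_oddMin)

end Cfsg.Agent.Leech
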