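import Cfsg.Agent.Lib.Leech.Co0Basic
import Cfsg.Agent.Lib.Leech.Generation
import Cfsg.Agent.Lib.LargeExtraspecial.LeechQuad

/-!
# The centre of `Co0`, faithfulness modulo two

* `center_eq : g ∈ center ↔ g = 1 ∨ g = negOne`,  `natCard_center` (= 2)
* `eq_one_or_negOne_of_congr` : an element trivial modulo `2·leechLattice` is `±1`
* `mem_M24_of_comp`, `shift_mem_M24`, `projInv_mem_M24`, `exists_sep_supp`
-/

set_option autoImplicit false
open scoped Pointwise

namespace Cfsg.Agent.Leech

theorem mem_M24_of_comp {σ : Equiv.Perm GolayPt} (h : ∀ w ∈ golayCode, w ∘ σ ∈ golayCode)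
    (h' : ∀ w ∈ golayCode, w ∘ σ.symm ∈ golayCode) : σ ∈ M24 := by
  rw [MulAction.mem_stabilizer_iff]
  ext b
  rw [Set.mem_smul_set_iff_inv_smul_mem]
  have hs : ∀ (τ : Equiv.Perm GolayPt) (w : GolayPt → ZMod 2),
      τ⁻¹ • support₂ w = support₂ (w ∘ τ) := by
    intro τ w; ext i
    rw [Finset.mem_inv_smul_finset_iff]
    simp [support₂]
  constructor
  · rintro ⟨w, hw, he⟩
    refine ⟨w ∘ σ.symm, h' w hw, ?_⟩
    have := hs σ⁻¹ w
    rw [inv_inv, he, smul_inv_smul] at this
    exact this.symm
  · rintro ⟨w, hw, rfl⟩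
    exact ⟨w ∘ σ, h w hw, (hs σ w).symm⟩

theorem shift_mem_M24 (t : ZMod 23) : LeechQuad.shift t ∈ M24 :=
  mem_M24_of_comp (LeechQuad.shift_code t) (LeechQuad.shift_code_symm t)

theorem projInv_mem_M24 : projInv ∈ M24 :=
  mem_M24_of_comp LeechQuad.projInv_code (by
    have : projInv.symm = projInv := Equiv.ext fun _ => rfl
    rw [this]; exact LeechQuad.projInv_code)

theorem exists_sep_supp {i j : GolayPt} (hij : i ≠ j) :
    ∃ c ∈ supports (golayCode : Set (GolayPt → ZMod 2)), i ∉ c ∧ j ∈ c := by
  obtain ⟨w, hw, h1, h2⟩ := LeechQuad.exists_sep i j hij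
  exact ⟨support₂ w, ⟨w, hw, rfl⟩, by simp [support₂, h1], by simp [support₂, h2]⟩

/-- If `8 eᵢ ↦ 8 sᵢ eᵢ` then coordinates are multiplied by `sᵢ`. -/
theorem vec_of_diag {g : Co0} {s : GolayPt → ℤ}
    (h : ∀ i, ((g • eightVec i : leechLattice) : GolayPt → ℤ) = Pi.single i (8 * s i))
    (v : leechLattice) (l : GolayPt) :
    ((g • v : leechLattice) : GolayPt → ℤ) l = s l * (v : GolayPt → ℤ) l := by
  have e : (8 : ℤ) • (g • v) = ∑ i, (v : GolayPt → ℤ) i • (g • eightVec i) := by
    rw [← smul_zsmul, eight_smul_eq_sum, ← addHom_apply, map_sum]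
    exact Finset.sum_congr rfl fun i _ => by rw [addHom_apply, smul_zsmul]
  have e' := congrFun (congrArg Subtype.val e) l
  rw [AddSubgroup.val_finsetSum, Finset.sum_apply] at e'
  simp only [AddSubgroup.coe_zsmul, Pi.smul_apply, smul_eq_mul, h, Pi.single_apply, mul_ite, mul_zero,
    Finset.sum_ite_eq, Finset.mem_univ, if_true] at e'
  linarith

theorem eq_one_or_negOne_of_const {g : Co0} {t : ℤ} (ht : t = 1 ∨ t = -1)
    (h : ∀ i, ((g • eightVec i : leechLattice) : GolayPt → ℤ) = Pi.single i (8 * t)) :
    g = 1 ∨ g = negOne := by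
  rcases ht with rfl | rfl
  · refine Or.inl (ext_frame fun i => ?_)
    rw [one_smul]
    exact Subtype.ext (by rw [h i, mul_one, coe_eightVec])
  · refine Or.inr (ext_frame fun i => ?_)
    exact Subtype.ext (by rw [h i, vec_negOne, coe_eightVec, mul_neg_one, Pi.single_neg])

/-- A diagonal element changes signs on a code word. -/
theorem sign_set_mem {g : Co0} {s : GolayPt → ℤ} (hs : ∀ i, s i = 1 ∨ s i = -1)
    (h : ∀ i, ((g • eightVec i : leechLattice) : GolayPt → ℤ) = Pi.single i (8 * s i)) :
    (Finset.univ.filter fun i => s i = -1) ∈ supports (golayCode : Set (GolayPt → ZMod 2)) := by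
  let u : leechLattice := ⟨oddMin, oddMin_mem⟩
  have hu : ∀ l, ((g • u : leechLattice) : GolayPt → ℤ) l = s l * oddMin l :=
    vec_of_diag h u
  obtain ⟨m, -, -, hk⟩ := mem_leechLattice.1 (g • u).2
  convert hk 3 using 1
  refine Finset.filter_congr fun l _ => ?_
  rw [hu l, Int.ModEq]
  rcases hs l with e | e <;> simp only [e, oddMin] <;> split_ifs <;> norm_num

theorem center_eq {g : Co0} (hg : g ∈ Subgroup.center Co0) : g = 1 ∨ g = negOne := by
  rw [Subgroup.mem_center_iff] at hg
  have hd : ∀ i, ∃ t : ℤ, (t = 1 ∨ t = -1) ∧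
      ((g • eightVec i : leechLattice) : GolayPt → ℤ) = Pi.single i (8 * t) := by
    intro i
    set u := ((g • eightVec i : leechLattice) : GolayPt → ℤ) with hu
    have h0 : ∀ j, j ≠ i → u j = 0 := by
      intro j hj
      obtain ⟨c, hc, hic, hjc⟩ := exists_sep_supp hj.symm
      have hfix : signEl c hc • eightVec i = eightVec i := Subtype.ext (funext fun l => by
        rw [vec_signEl, coe_eightVec]
        by_cases hl : l = i
        · subst hl; simp [hic]
        · simp [hl])
      have h2 : signEl c hc • (g • eightVec i) = g • eightVec i := by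
        rw [← mul_smul, hg (signEl c hc), mul_smul, hfix]
      have h3 := congrFun (congrArg Subtype.val h2) j
      rw [vec_signEl] at h3
      simp only [hjc, if_true] at h3
      change -u j = u j at h3
      omega
    have hsingle : u = Pi.single i (u i) := funext fun l => by
      by_cases hl : l = i
      · subst hl; simp
      · simp [hl, h0 l hl]
    have hn := sqNorm_smul g (eightVec i)
    rw [sqNorm_eightVec, ← hu, hsingle, sqNorm_single] at hn
    rcases mul_self_eq_mul_self_iff.1 (show u i * u i = 8 * 8 by omega) with h | h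
    · exact ⟨1, Or.inl rfl, by rw [hsingle, h]; rfl⟩
    · exact ⟨-1, Or.inr rfl, by rw [hsingle, h]; rfl⟩
  choose s hs hse using hd
  have hshift : ∀ (t : ZMod 23) (i : GolayPt), s (LeechQuad.shift t i) = s i := by
    intro t i
    let m := mono (LeechQuad.shift t) (shift_mem_M24 t) ∅ Golay.empty_mem
    have hm : ∀ k, m • eightVec k = eightVec (LeechQuad.shift t k) := fun k =>
      Subtype.ext (by rw [vec_mono, coe_eightVec, signedPerm_single]; simp [coe_eightVec])
    have h2 : m • (g • eightVec i) = g • (m • eightVec i) := by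
      rw [← mul_smul, ← mul_smul, hg m]
    rw [hm] at h2
    have h3 := congrFun (congrArg Subtype.val h2) (LeechQuad.shift t i)
    rw [vec_mono, hse, hse, signedPerm_single] at h3
    simp only [Finset.notMem_empty, if_false, Pi.single_eq_same] at h3
    omega
  set D := Finset.univ.filter fun i => s i = -1 with hD
  have hDmem := sign_set_mem hs hse
  have hres : ∀ a : ZMod 23, s (some a) = s (some 0) := by
    intro a
    have := hshift a (some 0)
    simpa [LeechQuad.shift] using this
  have hc := Golay.card_mem_weights hDmem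
  have hall : ∀ i, s i = s (some 0) := by
    intro i
    rcases i with - | a
    · by_contra hne
      have hcard : D.card = 1 ∨ D.card = 23 := by
        rcases hs (some 0) with h0 | h0
        · left
          rw [Finset.card_eq_one]
          refine ⟨none, Finset.ext fun k => ?_⟩
          rcases k with - | b
          · rcases hs none with hn | hn
            · exact absurd (hn.trans h0.symm) hne
            · simp [hD, hn]
          · simp [hD, hres b, h0]
        · right
          have he : D = (Finset.univ : Finset GolayPt).erase none := Finset.ext fun k => by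
            rcases k with - | b
            · rcases hs none with hn | hn
              · simp [hD, hn]
              · exact absurd (hn.trans h0.symm) hne
            · simp [hD, hres b, h0]
          rw [he, Finset.card_erase_of_mem (Finset.mem_univ _), Finset.card_univ, card_pt]
      rw [← hD] at hc
      omega
    · exact hres a
  exact eq_one_or_negOne_of_const (hs (some 0)) fun i => by rw [hse i, hall i]

theorem negOne_ne_one : negOne ≠ 1 := by
  intro h
  have h2 := congrFun (congrArg (fun g : Co0 => ((g • eightVec none : leechLattice) : GolayPt → ℤ)) h) none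
  simp [vec_negOne, coe_eightVec] at h2

theorem natCard_center : Nat.card (Subgroup.center Co0) = 2 := by
  have hset : (Subgroup.center Co0 : Set Co0) = {1, negOne} := Set.ext fun g => by
    refine ⟨fun h => center_eq h, ?_⟩
    rintro (rfl | rfl)
    · exact Subgroup.one_mem _
    · exact negOne_mem_center
  show Nat.card ((Subgroup.center Co0 : Set Co0) : Type _) = 2
  rw [Nat.card_coe_set_eq, hset, Set.ncard_pair negOne_ne_one.symm]

theorem eq_one_or_negOne_of_congr {g : Co0}
    (h : ∀ v : leechLattice, Congr ((g • v : leechLattice) : GolayPt → ℤ) (v : GolayPt → ℤ)) :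
    g = 1 ∨ g = negOne := by
  have hmin : ∀ v : leechLattice, sqNorm (v : GolayPt → ℤ) = 32 →
      ((g • v : leechLattice) : GolayPt → ℤ) = v ∨
      ((g • v : leechLattice) : GolayPt → ℤ) = -(v : GolayPt → ℤ) := by
    intro v hv
    rcases congr_short (g • v).2 (h v) (by rw [sqNorm_smul, hv]; norm_num) (by rw [hv]; norm_num)
      with e | e | ⟨e, -⟩
    · exact Or.inl e
    · exact Or.inr e
    · rw [sqNorm_smul, hv] at e; norm_num at e
  have hpair : ∀ i j : GolayPt, i ≠ j → ∀ s : ℤ, (s = 1 ∨ s = -1) → ∃ u : leechLattice,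
      (u : GolayPt → ℤ) = Pi.single i 4 + Pi.single j (4 * s) ∧
      sqNorm (u : GolayPt → ℤ) = 32 := by
    intro i j hij s hs
    obtain ⟨h1, h2⟩ := four_pair_norm hij s hs
    exact ⟨⟨_, h1⟩, rfl, h2⟩
  set G := fun i => ((g • eightVec i : leechLattice) : GolayPt → ℤ)
  have hG : ∀ i j, i ≠ j → (∀ l, l ≠ i → l ≠ j → G i l = 0) := by
    intro i j hij
    obtain ⟨u, hu, hun⟩ := hpair i j hij 1 (Or.inl rfl)
    obtain ⟨w, hw, hwn⟩ := hpair i j hij (-1) (Or.inr rfl)
    have he : eightVec i = u + w := Subtype.ext (funext fun l => by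
      rw [AddSubgroup.coe_add, hu, hw, coe_eightVec]
      simp only [Pi.add_apply, Pi.single_apply]
      split_ifs <;> ring)
    intro l hli hlj
    show ((g • eightVec i : leechLattice) : GolayPt → ℤ) l = 0
    rw [he, smul_vadd, AddSubgroup.coe_add, Pi.add_apply]
    rcases hmin u hun with e | e <;> rcases hmin w hwn with e' | e' <;>
      simp [e, e', hu, hw, hli, hlj]
  have h0 : ∀ i l, l ≠ i → G i l = 0 := by
    intro i l hl
    obtain ⟨j, hj⟩ : (({i, l} : Finset GolayPt)ᶜ).Nonempty := Finset.card_pos.1 (by
      have := Finset.card_le_two (a := i) (b := l)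
      rw [Finset.card_compl, card_pt]; omega)
    simp only [Finset.mem_compl, Finset.mem_insert, Finset.mem_singleton, not_or] at hj
    obtain ⟨hji, hjl⟩ := hj
    exact hG i j (Ne.symm hji) l hl (Ne.symm hjl)
  have hsum : ∀ i j, i ≠ j → G i i = G j j ∧ (G i i = 8 ∨ G i i = -8) := by
    intro i j hij
    obtain ⟨u, hu, hun⟩ := hpair i j hij 1 (Or.inl rfl)
    have he : (2 : ℤ) • u = eightVec i + eightVec j := Subtype.ext (funext fun l => by
      rw [AddSubgroup.coe_add, AddSubgroup.coe_zsmul, hu, coe_eightVec, coe_eightVec]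
      simp only [Pi.smul_apply, Pi.add_apply, Pi.single_apply, smul_eq_mul]
      split_ifs <;> ring)
    have he2 := congrArg (fun t : leechLattice => ((g • t : leechLattice) : GolayPt → ℤ)) he
    simp only [smul_zsmul, smul_vadd, AddSubgroup.coe_zsmul, AddSubgroup.coe_add] at he2
    have a := congrFun he2 i
    have b := congrFun he2 j
    simp only [Pi.add_apply, Pi.smul_apply, smul_eq_mul] at a b
    change _ = G i i + G j i at a
    change _ = G i j + G j j at b
    rw [h0 j i hij] at a
    rw [h0 i j hij.symm] at b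
    rcases hmin u hun with e | e <;>
      (rw [e, hu] at a b; simp [hij, hij.symm] at a b; omega)
  obtain ⟨k, hk⟩ := exists_ne (none : GolayPt)
  have hall : ∀ i, G i = Pi.single i (G none none) := by
    intro i
    funext l
    by_cases hl : l = i
    · subst hl
      rw [Pi.single_eq_same]
      by_cases hln : l = none
      · subst hln; rfl
      · exact (hsum l none hln).1
    · rw [Pi.single_eq_of_ne hl, h0 i l hl]
  rcases (hsum none k hk.symm).2 with e | e
  · exact eq_one_or_negOne_of_const (Or.inl rfl) fun i => by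
      show G i = _
      rw [hall i, e, mul_one]
  · exact eq_one_or_negOne_of_const (Or.inr rfl) fun i => by
      show G i = _
      rw [hall i, e]; rfl
where
  four_pair_norm {i j : GolayPt} (hij : i ≠ j) (s : ℤ) (hs : s = 1 ∨ s = -1) :
      (Pi.single i 4 + Pi.single j (4 * s) : GolayPt → ℤ) ∈ leechLattice ∧
        sqNorm (Pi.single i 4 + Pi.single j (4 * s) : GolayPt → ℤ) = 32 := by
    refine ⟨by simpa using four_single_add_mem i j 1 s (by rcases hs with rfl | rfl <;> norm_num), ?_⟩
    rw [sqNorm_add, sqNorm_single, sqNorm_single, dotInt_single, Pi.single_eq_of_ne hij.symm]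
    rcases hs with rfl | rfl <;> norm_num

end Cfsg.Agent.Leech
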