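import Cfsg.Agent.Lib.Leech.Monomial
import Cfsg.Agent.Lib.Golay.Count

/-!
# Existence of octads in prescribed position

* `exists_octad_avoid_two`, `exists_octad_meet`, `exists_disjoint_octad`,
  `exists_disjoint_octad_avoid`, `exists_octad_meet_dodecad`
-/

set_option autoImplicit false

open scoped Pointwise

namespace Cfsg.Agent.Leech

theorem exists_octad_avoid_two {a b : GolayPt} (hab : a ≠ b) : ∃ o ∈ octads, a ∉ o ∧ b ∉ o := by
  obtain ⟨c, hc⟩ : (({a, b} : Finset GolayPt)ᶜ).Nonempty := Finset.card_pos.1 (by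
    have := Finset.card_le_two (a := a) (b := b)
    rw [Finset.card_compl, card_pt]; omega)
  simp only [Finset.mem_compl, Finset.mem_insert, Finset.mem_singleton, not_or] at hc
  obtain ⟨σ, hσ, ha, hb, -⟩ := exists_map_three (a := Golay.pt 0) (b := Golay.pt 1) (c := Golay.pt 2)
    (by decide +kernel) ⟨hab, Ne.symm hc.2, Ne.symm hc.1⟩
  have h0 : Golay.pt 0 ∉ Golay.pts 0xd4b004 ∧ Golay.pt 1 ∉ Golay.pts 0xd4b004 := by decide +kernel
  refine ⟨σ • Golay.pts 0xd4b004,
    Golay.smul_mem_octads hσ (Golay.rows_octads _ (by decide +kernel)), ?_, ?_⟩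
  · rw [← ha, ← Equiv.Perm.smul_def, Finset.smul_mem_smul_finset_iff]; exact h0.1
  · rw [← hb, ← Equiv.Perm.smul_def, Finset.smul_mem_smul_finset_iff]; exact h0.2

theorem exists_octad_meet {o S : Finset GolayPt} (ho : o ∈ octads) (hS : S ⊆ o) (h4 : S.card = 4)
    {p : GolayPt} (hp : p ∉ o) : ∃ O ∈ octads, p ∈ O ∧ O ∩ o = S := by
  have h5 : (insert p S).card = 5 := by
    rw [Finset.card_insert_of_notMem (fun h => hp (hS h)), h4]
  obtain ⟨O, hO, hsub⟩ := Golay.exists_octad h5
  have hpO : p ∈ O := hsub (Finset.mem_insert_self p S)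
  have hSO : S ⊆ O ∩ o :=
    Finset.subset_inter ((Finset.subset_insert p S).trans hsub) hS
  refine ⟨O, hO, hpO, (Finset.eq_of_subset_of_card_le hSO ?_).symm⟩
  rcases Golay.octad_inter_octad hO ho with h | h | h | h
  · omega
  · omega
  · omega
  · exact absurd (h ▸ hpO) hp

theorem base_disjoint_octad : ∃ x : Fin 4096,
    (Golay.popcount (Golay.enc x.val) == 8 && Golay.enc x.val &&& Golay.octad0 == 0 &&
      (Golay.enc x.val).testBit 4) = true := by
  have h : Golay.countSpan (fun m => Golay.popcount m == 8 && m &&& Golay.octad0 == 0 &&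
      m.testBit 4) Golay.rows 0 ≠ 0 := by decide +kernel
  rw [Golay.countSpan_eq, Finset.card_ne_zero] at h
  obtain ⟨x, hx⟩ := h
  rw [Finset.mem_filter, Finset.mem_range] at hx
  exact ⟨⟨x, hx.1⟩, by simpa [Golay.enc] using hx.2⟩

theorem exists_frame_of_octad {o : Finset GolayPt} (ho : o ∈ octads) {p : GolayPt} (hp : p ∉ o) :
    ∃ x : Fin 7 → GolayPt, Golay.IsFrame x ∧ x 6 = p ∧ ∀ i : Fin 7, i.val < 6 → x i ∈ o := by
  have hc : Fintype.card (Fin 6) ≤ Fintype.card o := by
    rw [Fintype.card_coe, show o.card = 8 from ho.2]; simp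
  obtain ⟨e⟩ := Function.Embedding.nonempty_of_card_le hc
  let x : Fin 7 → GolayPt := fun i => if h : i.val < 6 then (e ⟨i.val, h⟩ : GolayPt) else p
  refine ⟨x, ⟨fun i j hij => ?_, o, ho, fun i hi => ?_, ?_⟩, rfl, fun i hi => ?_⟩
  · simp only [x] at hij
    split_ifs at hij with h1 h2 h3
    · exact Fin.ext (by simpa using congrArg Fin.val (e.injective (Subtype.ext hij)))
    · exact absurd (hij ▸ (e _).2) hp
    · exact absurd (hij.symm ▸ (e _).2) hp
    · exact Fin.ext (by omega)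
  · simp only [x, dif_pos hi]; exact (e _).2
  · show p ∉ o
    exact hp
  · simp only [x, dif_pos hi]; exact (e _).2

theorem exists_disjoint_octad {o : Finset GolayPt} (ho : o ∈ octads) {p : GolayPt} (hp : p ∉ o) :
    ∃ O ∈ octads, Disjoint O o ∧ p ∈ O := by
  obtain ⟨x, hx, hx6, hxo⟩ := exists_frame_of_octad ho hp
  obtain ⟨σ, hσ, hσx⟩ := Golay.exists_frame_map Golay.isFrame_base hx
  obtain ⟨y, hy⟩ := base_disjoint_octad
  simp only [Bool.and_eq_true, beq_iff_eq] at hy
  have hbase : ∀ i : Fin 7, i.val < 6 → Golay.base i ∈ Golay.pts Golay.octad0 := by decide +kernel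
  have hset : σ • Golay.pts Golay.octad0 = o := by
    refine Golay.octad_eq_of_five (Golay.smul_mem_octads hσ Golay.octad0_mem) ho ?_
    let f : Fin 5 → GolayPt := fun i => x (Fin.castLE (by norm_num) i)
    have hf : Function.Injective f := fun i j h => Fin.castLE_injective _ (hx.1 h)
    have h5 : (Finset.univ.image f).card = 5 := by
      rw [Finset.card_image_of_injective _ hf]; rfl
    rw [← h5]
    refine Finset.card_le_card fun q hq => ?_
    obtain ⟨i, -, rfl⟩ := Finset.mem_image.1 hq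
    refine Finset.mem_inter.2 ⟨?_, hxo _ (by simp; omega)⟩
    simp only [f]
    rw [← hσx, ← Equiv.Perm.smul_def, Finset.smul_mem_smul_finset_iff]
    exact hbase _ (by simp; omega)
  refine ⟨σ • Golay.pts (Golay.enc y.val), Golay.smul_mem_octads hσ
    (Golay.pts_mem_octads (by simp [Golay.isCode_enc, hy.1.1])), ?_, ?_⟩
  · rw [← hset, Finset.disjoint_left]
    intro q h1 h2
    rw [Finset.mem_smul_finset] at h1 h2
    obtain ⟨q1, hq1, rfl⟩ := h1
    obtain ⟨q2, hq2, he⟩ := h2
    rw [MulAction.injective σ he, Golay.mem_pts] at hq2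
    rw [Golay.mem_pts] at hq1
    have := congrArg (fun m : ℕ => m.testBit (Golay.idx q1)) hy.1.2
    simp [hq1, hq2] at this
  · rw [← hx6, ← hσx, ← Equiv.Perm.smul_def, Finset.smul_mem_smul_finset_iff, Golay.mem_pts]
    have : Golay.idx (Golay.base 6) = 4 := by decide +kernel
    rw [this]; exact hy.2

theorem exists_disjoint_octad_avoid {o : Finset GolayPt} (ho : o ∈ octads) {p : GolayPt}
    (hp : p ∉ o) : ∃ O ∈ octads, Disjoint O o ∧ p ∉ O := by
  obtain ⟨O, hO, hd, hpO⟩ := exists_disjoint_octad ho hp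
  have hu : o ∪ O = symmDiff o O := by
    rw [hd.symm.symmDiff_eq_sup]; rfl
  refine ⟨(o ∪ O)ᶜ, ⟨?_, ?_⟩, ?_, ?_⟩
  · rw [hu]; exact Golay.compl_mem (Golay.symmDiff_mem ho.1 hO.1)
  · rw [Finset.card_compl, Finset.card_union_of_disjoint hd.symm, show o.card = 8 from ho.2,
      show O.card = 8 from hO.2]; rfl
  · rw [Finset.disjoint_left]
    intro q hq hq'
    exact Finset.mem_compl.1 hq (Finset.mem_union_left _ hq')
  · simp [hpO]

theorem exists_octad_meet_dodecad {d : Finset GolayPt} (hd : d ∈ dodecads) {p : GolayPt}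
    (hp : p ∈ d) : ∃ O ∈ octads, p ∈ O ∧ (O ∩ d).card = 6 := by
  obtain ⟨S, hpS, hSd, hS⟩ := Finset.exists_subsuperset_card_eq
    (show {p} ⊆ d by simpa using hp) (by simp : ({p} : Finset GolayPt).card ≤ 5)
    (show 5 ≤ d.card by rw [hd.2]; norm_num)
  obtain ⟨O, hO, hsub⟩ := Golay.exists_octad hS
  refine ⟨O, hO, hsub (hpS (Finset.mem_singleton_self p)), ?_⟩
  have h5 : 5 ≤ (O ∩ d).card := hS ▸ Finset.card_le_card (Finset.subset_inter hsub hSd)
  rcases Golay.octad_inter_dodecad hO hd with h | h | h <;> omega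

end Cfsg.Agent.Leech
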