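import Cfsg.Agent.Lib.Leech.CrossMax
import Cfsg.Agent.Lib.Leech.Octads
import Cfsg.Agent.Lib.Leech.Co0Center
import Cfsg.Agent.Lib.Golay.Mathieu

/-!
# The quotient of `Co0` by its centre is simple

* `signGroup`, `normalClosure_signs`, `commutator_co0`, `eq_top_of_normal`, `isSimpleGroup_co1`
-/

set_option autoImplicit false

open scoped Pointwise symmDiff commutatorElement

namespace Cfsg.Agent.Leech

theorem signEl_mul_signEl {c d : Finset GolayPt}
    (hc : c ∈ supports (golayCode : Set (GolayPt → ZMod 2)))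
    (hd : d ∈ supports (golayCode : Set (GolayPt → ZMod 2))) :
    signEl c hc * signEl d hd = signEl (c ∆ d) (Golay.symmDiff_mem hc hd) := by
  refine co0_ext fun v => Subtype.ext (funext fun i => ?_)
  rw [mul_smul, vec_signEl, vec_signEl, vec_signEl]
  by_cases h2 : i ∈ c <;> by_cases h3 : i ∈ d <;> simp [Finset.mem_symmDiff, h2, h3]

theorem signEl_congr {c d : Finset GolayPt}
    {hc : c ∈ supports (golayCode : Set (GolayPt → ZMod 2))}
    {hd : d ∈ supports (golayCode : Set (GolayPt → ZMod 2))} (h : c = d) :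
    signEl c hc = signEl d hd := by
  subst h; rfl

theorem signEl_empty : signEl ∅ Golay.empty_mem = 1 := by
  refine co0_ext fun v => Subtype.ext (funext fun i => ?_)
  rw [vec_signEl, one_smul]; simp

theorem signEl_inv {c : Finset GolayPt} (hc : c ∈ supports (golayCode : Set (GolayPt → ZMod 2))) :
    (signEl c hc)⁻¹ = signEl c hc := by
  refine inv_eq_of_mul_eq_one_right ?_
  rw [signEl_mul_signEl, ← signEl_empty]
  exact signEl_congr (symmDiff_self c)

/-- The sign changes on code words. -/
def signGroup : Subgroup Co0 where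
  carrier := {g | ∃ c hc, g = signEl c hc}
  one_mem' := ⟨∅, Golay.empty_mem, signEl_empty.symm⟩
  mul_mem' := by
    rintro _ _ ⟨c, hc, rfl⟩ ⟨d, hd, rfl⟩
    exact ⟨_, _, signEl_mul_signEl hc hd⟩
  inv_mem' := by
    rintro _ ⟨c, hc, rfl⟩
    exact ⟨c, hc, signEl_inv hc⟩

theorem signEl_mem_signGroup (c : Finset GolayPt)
    (hc : c ∈ supports (golayCode : Set (GolayPt → ZMod 2))) : signEl c hc ∈ signGroup :=
  ⟨c, hc, rfl⟩

theorem signGroup_le : signGroup ≤ stdStab := by
  rintro _ ⟨c, hc, rfl⟩
  exact signEl_mem_stdStab c hc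

theorem signGroup_comm {a b : Co0} (ha : a ∈ signGroup) (hb : b ∈ signGroup) : a * b = b * a := by
  obtain ⟨c, hc, rfl⟩ := ha
  obtain ⟨d, hd, rfl⟩ := hb
  rw [signEl_mul_signEl, signEl_mul_signEl]
  exact signEl_congr (symmDiff_comm c d)

theorem mem_smul_iff_symm (σ : Equiv.Perm GolayPt) (c : Finset GolayPt) (i : GolayPt) :
    i ∈ σ • c ↔ σ.symm i ∈ c := by
  rw [← Finset.inv_smul_mem_iff]; rfl

theorem mono_mul_signEl {σ : Equiv.Perm GolayPt} (hσ : σ ∈ M24) {c d : Finset GolayPt}
    (hc : c ∈ supports (golayCode : Set (GolayPt → ZMod 2)))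
    (hd : d ∈ supports (golayCode : Set (GolayPt → ZMod 2))) :
    mono σ hσ c hc * signEl d hd =
      signEl (σ • d) (Golay.smul_mem_supports hσ hd) * mono σ hσ c hc := by
  refine co0_ext fun v => Subtype.ext (funext fun i => ?_)
  rw [mul_smul, mul_smul, vec_mono, vec_signEl, vec_signEl, vec_mono]
  simp only [signedPerm, mem_smul_iff_symm]
  split_ifs <;> simp

theorem mono_eq_signEl_mul {σ : Equiv.Perm GolayPt} (hσ : σ ∈ M24) {c : Finset GolayPt}
    (hc : c ∈ supports (golayCode : Set (GolayPt → ZMod 2))) :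
    mono σ hσ c hc = signEl c hc * permEl σ hσ := by
  refine co0_ext fun v => Subtype.ext (funext fun i => ?_)
  rw [mul_smul, vec_signEl, vec_mono]
  simp only [signedPerm, vec_permEl]

theorem conj_mem_signGroup {g e : Co0} (hg : g ∈ stdStab) (he : e ∈ signGroup) :
    g * e * g⁻¹ ∈ signGroup := by
  obtain ⟨σ, hσ, c, hc, rfl⟩ := exists_mono_of_mem hg
  obtain ⟨d, hd, rfl⟩ := he
  rw [mono_mul_signEl, mul_inv_cancel_right]
  exact ⟨_, _, rfl⟩

/-- The permutations as elements of `Co0`. -/
def permHom : M24 →* Co0 where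
  toFun σ := permEl σ.1 σ.2
  map_one' := by
    refine co0_ext fun v => Subtype.ext (funext fun i => ?_)
    rw [vec_permEl, one_smul]; rfl
  map_mul' σ τ := by
    refine co0_ext fun v => Subtype.ext (funext fun i => ?_)
    rw [mul_smul, vec_permEl, vec_permEl, vec_permEl]; rfl

/-- The four-coordinate vector `(4⁴, 0²⁰)`. -/
def fourVec (a b c d : GolayPt) : leechLattice :=
  pairVec a b 1 1 (by norm_num) + pairVec c d 1 1 (by norm_num)

theorem fourVec_apply (a b c d : GolayPt) (i : GolayPt) :
    (fourVec a b c d : GolayPt → ℤ) i =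
      (if i = a then 4 else 0) + (if i = b then 4 else 0) +
        ((if i = c then 4 else 0) + (if i = d then 4 else 0)) := by
  rw [fourVec, AddSubgroup.coe_add, coe_pairVec, coe_pairVec]
  simp only [Pi.add_apply, Pi.single_apply, mul_one]

theorem sqNorm_fourVec {a b c d : GolayPt} (hab : a ≠ b) (hac : a ≠ c) (had : a ≠ d)
    (hbc : b ≠ c) (hbd : b ≠ d) (hcd : c ≠ d) :
    sqNorm (fourVec a b c d : GolayPt → ℤ) = 64 := by
  rw [fourVec, AddSubgroup.coe_add, sqNorm_add, sqNorm_pairVec hab _ (Or.inl rfl) (Or.inl rfl),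
    sqNorm_pairVec hcd _ (Or.inl rfl) (Or.inl rfl), dotInt_pairVec]
  simp [coe_pairVec, Ne.symm hac, Ne.symm had, Ne.symm hbc, Ne.symm hbd]

theorem exists_octad_sep {a b : GolayPt} (h : a ≠ b) : ∃ o ∈ octads, a ∈ o ∧ b ∉ o := by
  obtain ⟨c, hc⟩ : (({a, b} : Finset GolayPt)ᶜ).Nonempty := Finset.card_pos.1 (by
    have := Finset.card_le_two (a := a) (b := b)
    rw [Finset.card_compl, card_pt]; omega)
  simp only [Finset.mem_compl, Finset.mem_insert, Finset.mem_singleton, not_or] at hc
  have h0 : Golay.pt 2 ∈ Golay.pts 0xd4b004 ∧ Golay.pt 1 ∉ Golay.pts 0xd4b004 := by decide +kernel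
  obtain ⟨σ, hσ, ha, hb, -⟩ := exists_map_three (a := Golay.pt 2) (b := Golay.pt 1)
    (c := Golay.pt 0) (by decide +kernel) ⟨h, Ne.symm hc.2, Ne.symm hc.1⟩
  refine ⟨σ • Golay.pts 0xd4b004,
    Golay.smul_mem_octads hσ (Golay.rows_octads _ (by decide +kernel)), ?_, ?_⟩
  · rw [← ha, ← Equiv.Perm.smul_def, Finset.smul_mem_smul_finset_iff]; exact h0.1
  · rw [← hb, ← Equiv.Perm.smul_def, Finset.smul_mem_smul_finset_iff]; exact h0.2

/-- A normal subgroup inside the monomial group is central. -/
theorem le_center_of_le_stdStab {M : Subgroup Co0} (hM : M.Normal) (h : M ≤ stdStab) :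
    M ≤ Subgroup.center Co0 := by
  -- every cross is fixed by `M`
  have hfix : ∀ g ∈ M, ∀ x : leechLattice, sqNorm (x : GolayPt → ℤ) = 64 →
      Congr ((g • x : leechLattice) : GolayPt → ℤ) (x : GolayPt → ℤ) := by
    intro g hg x hx
    obtain ⟨k, hk⟩ := exists_to_stdCross golayUnique x hx
    have hm : k * g * k⁻¹ ∈ stdStab := h (hM.conj_mem g hg k)
    have h1 := congr_of_mem_stdCross (mem_stdStab_iff.1 hm _ hk) hk
    rw [mul_smul, inv_smul_smul, mul_smul] at h1
    have := congr_smul k⁻¹ h1
    rwa [inv_smul_smul, inv_smul_smul] at this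
  -- diagonal elements of `M` are central
  have hdiag : ∀ d hd, signEl d hd ∈ M → d = ∅ ∨ d = Finset.univ := by
    intro d hd hdM
    by_contra hcon
    rw [not_or] at hcon
    obtain ⟨a, ha⟩ : d.Nonempty := Finset.nonempty_iff_ne_empty.2 hcon.1
    obtain ⟨b, hb⟩ : ∃ b, b ∉ d := by
      by_contra h'
      push Not at h'
      exact hcon.2 (Finset.eq_univ_iff_forall.2 h')
    have hab : a ≠ b := fun e => hb (e ▸ ha)
    obtain ⟨p, hp, q, hq, hpq⟩ := Finset.one_lt_card.1 (show 1 < ({a, b} : Finset GolayPt)ᶜ.card by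
      rw [Finset.card_compl, Finset.card_pair hab, card_pt]; norm_num)
    obtain ⟨r, hr⟩ : (({a, b, p, q} : Finset GolayPt)ᶜ).Nonempty := Finset.card_pos.1 (by
      have := Finset.card_le_four (a := a) (b := b) (c := p) (d := q)
      rw [Finset.card_compl, card_pt]; omega)
    simp only [Finset.mem_compl, Finset.mem_insert, Finset.mem_singleton, not_or] at hp hq hr
    -- a vector `(4⁴)` meeting `d` oddly
    obtain ⟨u, v, w, t, huv, huw, hut, hvw, hvt, hwt, hodd⟩ : ∃ u v w t : GolayPt, u ≠ v ∧ u ≠ w ∧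
        u ≠ t ∧ v ≠ w ∧ v ≠ t ∧ w ≠ t ∧
        ((u ∈ d ∧ v ∉ d ∧ w ∉ d ∧ t ∉ d) ∨ (u ∈ d ∧ v ∈ d ∧ w ∈ d ∧ t ∉ d)) := by
      by_cases h1 : p ∈ d <;> by_cases h2 : q ∈ d <;> by_cases h3 : r ∈ d
      · exact ⟨a, p, q, b, Ne.symm hp.1, Ne.symm hq.1, hab, hpq, hp.2, hq.2, Or.inr ⟨ha, h1, h2, hb⟩⟩
      · exact ⟨a, p, q, b, Ne.symm hp.1, Ne.symm hq.1, hab, hpq, hp.2, hq.2, Or.inr ⟨ha, h1, h2, hb⟩⟩
      · exact ⟨a, p, r, b, Ne.symm hp.1, Ne.symm hr.1, hab, Ne.symm hr.2.2.1, hp.2, hr.2.1,
          Or.inr ⟨ha, h1, h3, hb⟩⟩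
      · exact ⟨a, b, q, r, hab, Ne.symm hq.1, Ne.symm hr.1, Ne.symm hq.2, Ne.symm hr.2.1,
          Ne.symm hr.2.2.2, Or.inl ⟨ha, hb, h2, h3⟩⟩
      · exact ⟨a, q, r, b, Ne.symm hq.1, Ne.symm hr.1, hab, Ne.symm hr.2.2.2, hq.2, hr.2.1,
          Or.inr ⟨ha, h2, h3, hb⟩⟩
      · exact ⟨a, b, p, r, hab, Ne.symm hp.1, Ne.symm hr.1, Ne.symm hp.2, Ne.symm hr.2.1,
          Ne.symm hr.2.2.1, Or.inl ⟨ha, hb, h1, h3⟩⟩
      · exact ⟨a, b, p, q, hab, Ne.symm hp.1, Ne.symm hq.1, Ne.symm hp.2, Ne.symm hq.2, hpq,
          Or.inl ⟨ha, hb, h1, h2⟩⟩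
      · exact ⟨a, b, p, q, hab, Ne.symm hp.1, Ne.symm hq.1, Ne.symm hp.2, Ne.symm hq.2, hpq,
          Or.inl ⟨ha, hb, h1, h2⟩⟩
    obtain ⟨z, hz, he⟩ := hfix _ hdM (fourVec u v w t) (sqNorm_fourVec huv huw hut hvw hvt hwt)
    -- the difference is `-8` on three or one coordinate, which is not twice a lattice vector
    have hz' : ∀ i, z i = if i ∈ d then -(fourVec u v w t : GolayPt → ℤ) i else 0 := by
      intro i
      have := congrFun he i
      rw [vec_signEl] at this
      simp only [Pi.sub_apply, Pi.smul_apply, nsmul_eq_mul, Nat.cast_ofNat] at this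
      split_ifs at this ⊢ <;> omega
    have hn : sqNorm z = 16 ∨ sqNorm z = 48 := by
      have hs : ∀ i, z i ^ 2 = (if i ∈ d ∧ i = u then 16 else 0) + (if i ∈ d ∧ i = v then 16 else 0)
          + ((if i ∈ d ∧ i = w then 16 else 0) + (if i ∈ d ∧ i = t then 16 else 0)) := by
        intro i
        rw [hz' i, fourVec_apply]
        by_cases hd' : i ∈ d
        · by_cases hu : i = u
          · subst hu; simp [hd', huv, huw, hut]
          by_cases hv : i = v
          · subst hv; simp [hd', Ne.symm huv, hvw, hvt]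
          by_cases hw : i = w
          · subst hw; simp [hd', Ne.symm huw, Ne.symm hvw, hwt]
          by_cases ht : i = t
          · subst ht; simp [hd', Ne.symm hut, Ne.symm hvt, Ne.symm hwt]
          · simp [hd', hu, hv, hw, ht]
        · simp [hd']
      have one : ∀ p : GolayPt, ∑ i, (if i ∈ d ∧ i = p then (16 : ℤ) else 0) =
          if p ∈ d then 16 else 0 := fun p => by
        rw [Finset.sum_congr rfl (g := fun i => if i = p then (if p ∈ d then 16 else 0) else 0)
          fun i _ => by by_cases h : i = p <;> simp [h]]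
        simp
      rw [sqNorm, Finset.sum_congr rfl fun i _ => hs i, Finset.sum_add_distrib,
        Finset.sum_add_distrib, Finset.sum_add_distrib, one, one, one, one]
      rcases hodd with ⟨h1, h2, h3, h4⟩ | ⟨h1, h2, h3, h4⟩ <;> simp [h1, h2, h3, h4]
    rcases hn with hn | hn
    · have h0 : z ≠ 0 := fun e => by rw [e, sqNorm_zero] at hn; omega
      have := min_norm hz h0
      omega
    · -- three coordinates `-4`
      rcases hodd with ⟨h1, h2, h3, h4⟩ | ⟨h1, h2, h3, h4⟩
      · have hu : ∀ i, i ≠ u → z i = 0 := by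
          intro i hi
          rw [hz' i, fourVec_apply]
          by_cases hd' : i ∈ d
          · simp [hd', hi, show i ≠ v from fun e => h2 (e ▸ hd'),
              show i ≠ w from fun e => h3 (e ▸ hd'), show i ≠ t from fun e => h4 (e ▸ hd')]
          · simp [hd']
        have hsingle : sqNorm z = z u ^ 2 := by
          rw [sqNorm]
          exact Finset.sum_eq_single u (fun i _ hi => by simp [hu i hi])
            (fun h' => absurd (Finset.mem_univ u) h')
        rw [hsingle, hz' u, fourVec_apply] at hn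
        simp [h1, huv, huw, hut] at hn
      · have hsum : dotInt (z : GolayPt → ℤ) (baseF : GolayPt → ℤ) % 8 = 0 :=
          Int.emod_eq_zero_of_dvd (dvd_dotInt hz baseF.2)
        have hs : ∀ i, z i = (if i = u then -4 else 0) + (if i = v then -4 else 0) +
            (if i = w then -4 else 0) := by
          intro i
          rw [hz' i, fourVec_apply]
          by_cases hu : i = u
          · subst hu; simp [h1, huv, huw, hut]
          by_cases hv : i = v
          · subst hv; simp [h2, Ne.symm huv, hvw, hvt]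
          by_cases hw : i = w
          · subst hw; simp [h3, Ne.symm huw, Ne.symm hvw, hwt]
          by_cases hd' : i ∈ d
          · simp [hd', hu, hv, hw, show i ≠ t from fun e => h4 (e ▸ hd')]
          · simp [hd', hu, hv, hw]
        rw [dotInt_baseF, Finset.sum_congr rfl fun i _ => hs i, Finset.sum_add_distrib,
          Finset.sum_add_distrib, Finset.sum_ite_eq', Finset.sum_ite_eq', Finset.sum_ite_eq',
          if_pos (Finset.mem_univ _), if_pos (Finset.mem_univ _), if_pos (Finset.mem_univ _),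
          hs none] at hsum
        split_ifs at hsum <;> omega
  intro g hg
  obtain ⟨σ, hσ, c, hc, rfl⟩ := exists_mono_of_mem (h hg)
  -- the permutation part is trivial
  have hσ1 : σ = 1 := by
    have hoct : ∀ o ∈ octads, σ • o = o := by
      intro o ho
      have hmem : signEl ((σ • o) ∆ o)
          (Golay.symmDiff_mem (Golay.smul_mem_supports hσ ho.1) ho.1) ∈ M := by
        rw [← signEl_mul_signEl (Golay.smul_mem_supports hσ ho.1) ho.1]
        have := mul_mem hg (hM.conj_mem _ (inv_mem hg) (signEl o ho.1))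
        rwa [signEl_inv, mul_assoc (signEl o ho.1), ← mul_assoc (mono σ hσ c hc),
          mono_mul_signEl, ← mul_assoc, mul_assoc (signEl (σ • o) _), mul_inv_cancel,
          mul_one] at this
      rcases hdiag _ _ hmem with e | e
      · exact symmDiff_eq_bot.1 e
      · exfalso
        have := Golay.card_symmDiff_add (σ • o) o
        rw [e, Finset.card_univ, card_pt, Finset.card_smul_finset, show o.card = 8 from ho.2] at this
        omega
    refine Equiv.ext fun a => ?_
    by_contra hne
    obtain ⟨o, ho, hao, hbo⟩ := exists_octad_sep (Ne.symm hne)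
    refine hbo ?_
    rw [← hoct o ho, ← Equiv.Perm.smul_def]
    exact Finset.smul_mem_smul_finset hao
  subst hσ1
  rcases hdiag c hc hg with rfl | rfl
  · rw [show mono 1 hσ ∅ hc = 1 from signEl_empty]
    exact one_mem _
  · rw [show mono 1 hσ Finset.univ hc = negOne from co0_ext fun v =>
      Subtype.ext (funext fun i => by rw [vec_mono, vec_negOne]; simp [signedPerm]; rfl)]
    exact negOne_mem_center

theorem exists_nondiag : ∃ (d : Finset GolayPt) (hd : d ∈ supports (golayCode : Set (GolayPt → ZMod 2))),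
    ((signEl d hd • fourVec none pO pI pII : leechLattice) : GolayPt → ℤ) ≠
        (fourVec none pO pI pII : GolayPt → ℤ) ∧
    ((signEl d hd • fourVec none pO pI pII : leechLattice) : GolayPt → ℤ) ≠
        -(fourVec none pO pI pII : GolayPt → ℤ) ∧
    Congr ((signEl d hd • fourVec none pO pI pII : leechLattice) : GolayPt → ℤ)
        (fourVec none pO pI pII : GolayPt → ℤ) := by
  obtain ⟨o, ho, hno, hso⟩ : ∃ o ∈ octads, (none ∈ o ∧ pO ∈ o) ∧ pI ∉ o ∧ pII ∉ o := by
    have h : Golay.countSpan (fun m => Golay.popcount m == 8 && m.testBit 23 && m.testBit 0 &&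
        !m.testBit 1 && !m.testBit 2) Golay.rows 0 ≠ 0 := by decide +kernel
    rw [Golay.countSpan_eq, Finset.card_ne_zero] at h
    obtain ⟨x, hx⟩ := h
    rw [Finset.mem_filter, Finset.mem_range, show (0 : ℕ) ^^^ Golay.encAux Golay.rows x =
      Golay.enc x from Nat.zero_xor _] at hx
    simp only [Bool.and_eq_true, beq_iff_eq, Bool.not_eq_true'] at hx
    obtain ⟨-, ⟨⟨⟨h8, ha⟩, hb⟩, hc⟩, hd⟩ := hx
    have i1 : Golay.idx none = 23 ∧ Golay.idx pO = 0 ∧ Golay.idx pI = 1 ∧ Golay.idx pII = 2 := by
      decide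
    refine ⟨Golay.pts (Golay.enc x), Golay.pts_mem_octads (by simp [Golay.isCode_enc, h8]), ?_⟩
    simp [i1, ha, hb, hc, hd]
  refine ⟨o, ho.1, ?_, ?_, pairVec none pO (-1) (-1) (by norm_num), SetLike.coe_mem _, ?_⟩
  · intro e
    have := congrFun e none
    rw [vec_signEl] at this
    simp only [if_pos hno.1, fourVec_apply] at this
    simp +decide [none_ne_pO] at this
  · intro e
    have := congrFun e pI
    rw [vec_signEl] at this
    simp only [if_neg hso.1, Pi.neg_apply, fourVec_apply] at this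
    simp +decide at this
  · funext i
    rw [Pi.sub_apply, vec_signEl, Pi.smul_apply, coe_pairVec, Pi.add_apply]
    simp only [fourVec_apply, Pi.single_apply]
    by_cases h1 : i = none
    · subst h1; simp +decide [hno.1, none_ne_pO]
    by_cases h2 : i = pO
    · subst h2; simp +decide [hno.2, none_ne_pO.symm]
    by_cases h3 : i = pI
    · subst h3; simp +decide [hso.1]
    by_cases h4 : i = pII
    · subst h4; simp +decide [hso.2]
    · simp [h1, h2, h3, h4]

theorem normalClosure_signs : Subgroup.normalClosure (signGroup : Set Co0) = ⊤ := by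
  set N := Subgroup.normalClosure (signGroup : Set Co0)
  have hsign : signGroup ≤ N := fun g hg => Subgroup.subset_normalClosure hg
  obtain ⟨d, hd, ne1, ne2, hcong⟩ := exists_nondiag
  set x := fourVec none pO pI pII with hx
  have hxn : sqNorm (x : GolayPt → ℤ) = 64 :=
    sqNorm_fourVec none_ne_pO (by decide) (by decide) (by decide) (by decide) (by decide)
  obtain ⟨g, hg⟩ := exists_to_stdCross golayUnique x hxn
  have hn : g * signEl d hd * g⁻¹ ∈ N :=
    Subgroup.normalClosure_normal.conj_mem _ (hsign (signEl_mem_signGroup d hd)) g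
  have hnH : g * signEl d hd * g⁻¹ ∈ stdStab := by
    have him : ((g * signEl d hd * g⁻¹) • (g • x) : leechLattice) = g • (signEl d hd • x) := by
      rw [mul_smul, mul_smul, inv_smul_smul]
    obtain ⟨j, s, hs, hj⟩ := id hg
    refine mem_stdStab_iff.2 fun v hv => stdCross_invariant (i := j) ?_ hv
    have hmem : (((g * signEl d hd * g⁻¹) • (g • x) : leechLattice) : GolayPt → ℤ) ∈ stdCross := by
      rw [him]
      refine smul_mem_stdCross_of_congr j (by rw [sqNorm_smul, sqNorm_smul, hxn]) ?_
      have := (mem_stdCross_iff_congr j).1 hg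
      rw [coe_eightVec] at this
      exact congr_trans (congr_smul g hcong) this.2
    rcases hs with rfl | rfl
    · rwa [show g • x = eightVec j from Subtype.ext hj] at hmem
    · rw [show g • x = -eightVec j from Subtype.ext (by
          rw [hj, AddSubgroup.coe_neg, coe_eightVec, ← Pi.single_neg]), smul_vneg] at hmem
      obtain ⟨k, r, hr, hk⟩ := hmem
      refine ⟨k, -r, by omega, ?_⟩
      rw [AddSubgroup.coe_neg] at hk
      rw [Pi.single_neg, ← hk, neg_neg]
  obtain ⟨σ, hσ, c, hc, he⟩ := exists_mono_of_mem hnH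
  have hσ1 : σ ≠ 1 := by
    rintro rfl
    obtain ⟨j, s, -, hj⟩ := hg
    have h1 : ((g • (signEl d hd • x) : leechLattice) : GolayPt → ℤ) =
        fun i => if i ∈ c then -((g • x : leechLattice) : GolayPt → ℤ) i
          else ((g • x : leechLattice) : GolayPt → ℤ) i := by
      have : g • (signEl d hd • x) = mono 1 hσ c hc • (g • x) := by
        rw [← he, mul_smul, mul_smul, inv_smul_smul]
      rw [this, vec_mono]; rfl
    by_cases hjc : j ∈ c
    · refine ne2 ?_
      have e : g • (signEl d hd • x) = g • (-x) := by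
        rw [smul_vneg]
        refine Subtype.ext (h1.trans (funext fun i => ?_))
        rw [AddSubgroup.coe_neg, Pi.neg_apply, hj]
        by_cases hij : i = j
        · subst hij; simp [hjc]
        · simp [Pi.single_eq_of_ne hij]
      rw [smul_left_cancel g e, AddSubgroup.coe_neg]
    · refine ne1 ?_
      have e : g • (signEl d hd • x) = g • x := by
        refine Subtype.ext (h1.trans (funext fun i => ?_))
        rw [hj]
        by_cases hij : i = j
        · subst hij; simp [hjc]
        · simp [Pi.single_eq_of_ne hij]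
      rw [smul_left_cancel g e]
  have hperm : permEl σ hσ ∈ N := by
    rw [he, mono_eq_signEl_mul] at hn
    exact (Subgroup.mul_mem_cancel_left _ (hsign (signEl_mem_signGroup c hc))).1 hn
  have hle : stdStab ≤ N := by
    have hP : N.comap permHom = ⊤ := by
      have := Golay.isSimpleGroup_m24
      refine ((Subgroup.Normal.comap Subgroup.normalClosure_normal permHom).eq_bot_or_eq_top).resolve_left
        fun hb => hσ1 ?_
      have : (⟨σ, hσ⟩ : M24) ∈ N.comap permHom := hperm
      rw [hb, Subgroup.mem_bot] at this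
      exact congrArg Subtype.val this
    intro h hh
    obtain ⟨τ, hτ, b, hb, rfl⟩ := exists_mono_of_mem hh
    rw [mono_eq_signEl_mul]
    exact mul_mem (hsign (signEl_mem_signGroup b hb))
      (show (⟨τ, hτ⟩ : M24) ∈ N.comap permHom from hP ▸ Subgroup.mem_top _)
  refine (eq_or_lt_of_le hle).elim (fun e => ?_) (fun e => isCoatom_stdStab.2 _ e)
  exfalso
  have hc := le_center_of_le_stdStab Subgroup.normalClosure_normal e.ge hperm
  rcases center_eq hc with h | h <;> have h' := congrArg (fun g : Co0 => g • eightVec none) h <;>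
    have h'' := congrArg Subtype.val h' <;> simp only [vec_negOne, one_smul] at h''
  · refine hσ1 ?_
    refine Equiv.ext fun a => ?_
    have h2 := congrArg (fun g : Co0 => ((g • eightVec a : leechLattice) : GolayPt → ℤ) (σ a)) h
    simp only [vec_permEl, one_smul, Equiv.symm_apply_apply, coe_eightVec, Pi.single_eq_same,
      Pi.single_apply] at h2
    by_contra hne
    rw [if_neg (show ¬σ a = a from hne)] at h2
    omega
  · have := congrFun h'' (σ none)
    simp only [vec_permEl, Equiv.symm_apply_apply, coe_eightVec, Pi.single_eq_same, Pi.neg_apply,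
      Pi.single_apply] at this
    split_ifs at this <;> omega

theorem commutator_co0 : commutator Co0 = ⊤ := by
  rw [eq_top_iff, ← normalClosure_signs]
  refine Subgroup.normalClosure_le_normal fun g hg => ?_
  obtain ⟨c, hc, rfl⟩ := hg
  have hsym : ∀ a b ha hb, signEl a ha ∈ commutator Co0 → signEl b hb ∈ commutator Co0 →
      signEl (a ∆ b) (Golay.symmDiff_mem ha hb) ∈ commutator Co0 := fun a b ha hb x y => by
    rw [← signEl_mul_signEl ha hb]; exact mul_mem x y
  have hoct : ∀ O, ∀ hO : O ∈ octads, signEl O hO.1 ∈ commutator Co0 := by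
    intro O hO
    obtain ⟨S, hS, hS4⟩ := Finset.exists_subset_card_eq (show 4 ≤ O.card by rw [hO.2]; norm_num)
    obtain ⟨p, hp⟩ : (Oᶜ).Nonempty := Finset.card_pos.1 (by
      rw [Finset.card_compl, card_pt, hO.2]; norm_num)
    rw [Finset.mem_compl] at hp
    obtain ⟨o, ho, -, hoO⟩ := exists_octad_meet hO hS hS4 hp
    have ho' : o ∆ O ∈ octads := ⟨Golay.symmDiff_mem ho.1 hO.1, by
      have := Golay.card_symmDiff_add o O
      rw [hoO, hS4, show o.card = 8 from ho.2, show O.card = 8 from hO.2] at this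
      omega⟩
    obtain ⟨σ, hσ, hσo⟩ := Golay.exists_map_octad ho ho'
    have hcm : ⁅permEl σ hσ, signEl o ho.1⁆ = signEl O hO.1 := by
      rw [commutatorElement_def, permEl, mono_mul_signEl, mul_inv_cancel_right, signEl_inv,
        signEl_mul_signEl]
      exact signEl_congr (by rw [hσo, symmDiff_comm o O, symmDiff_assoc, symmDiff_self]; simp)
    rw [← hcm]
    exact Subgroup.commutator_mem_commutator (Subgroup.mem_top _) (Subgroup.mem_top _)
  obtain ⟨x, -, rfl⟩ := Golay.mem_supports_iff_exists.1 hc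
  suffices key : ∀ gs : List ℕ, (∀ r ∈ gs, Golay.pts r ∈ octads) → ∀ x,
      ∃ h, signEl (Golay.pts (Golay.encAux gs x)) h ∈ commutator Co0 by
    obtain ⟨_, hm⟩ := key Golay.rows Golay.rows_octads x
    exact hm
  intro gs
  induction gs with
  | nil =>
    intro _ x
    refine ⟨by simp only [Golay.encAux, Golay.pts_zero]; exact Golay.empty_mem, ?_⟩
    rw [signEl_congr (hd := Golay.empty_mem) (by simp only [Golay.encAux, Golay.pts_zero]),
      signEl_empty]
    exact one_mem _
  | cons r gs ih =>
    intro hr x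
    obtain ⟨h1, m1⟩ := ih (fun a ha => hr a (List.mem_cons_of_mem _ ha)) (x / 2)
    by_cases hx : x % 2 = 1
    · have e : Golay.pts (Golay.encAux (r :: gs) x) =
          Golay.pts r ∆ Golay.pts (Golay.encAux gs (x / 2)) := by
        simp only [Golay.encAux, if_pos hx, Golay.pts_xor]
      refine ⟨e ▸ Golay.symmDiff_mem (hr r List.mem_cons_self).1 h1, ?_⟩
      rw [signEl_congr (hd := Golay.symmDiff_mem (hr r List.mem_cons_self).1 h1) e]
      exact hsym _ _ _ _ (hoct _ (hr r List.mem_cons_self)) m1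
    · have e : Golay.pts (Golay.encAux (r :: gs) x) = Golay.pts (Golay.encAux gs (x / 2)) := by
        simp only [Golay.encAux, if_neg hx, Nat.zero_xor]
      refine ⟨e ▸ h1, ?_⟩
      rw [signEl_congr (hd := h1) e]
      exact m1

/-- A non-central normal subgroup of `Co0` is everything. -/
theorem eq_top_of_normal {M : Subgroup Co0} (hM : M.Normal) (h : ¬M ≤ Subgroup.center Co0) :
    M = ⊤ := by
  have hsup : M ⊔ stdStab = ⊤ := isCoatom_stdStab.2 _
    (lt_of_le_of_ne le_sup_right fun e =>
      h (le_center_of_le_stdStab hM (e.symm ▸ le_sup_left)))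
  have hL : (M ⊔ signGroup).Normal := by
    rw [← Subgroup.normalizer_eq_top_iff, eq_top_iff, ← hsup, sup_le_iff]
    refine ⟨le_sup_left.trans Subgroup.le_normalizer, fun g hg => ?_⟩
    rw [Subgroup.mem_normalizer_iff]
    have key : ∀ g ∈ stdStab, ∀ n ∈ M ⊔ signGroup, g * n * g⁻¹ ∈ M ⊔ signGroup := by
      intro g hg n hn
      rw [Subgroup.mem_sup_of_normal_left] at hn
      obtain ⟨a, ha, b, hb, rfl⟩ := hn
      rw [show g * (a * b) * g⁻¹ = (g * a * g⁻¹) * (g * b * g⁻¹) by group]
      exact mul_mem (Subgroup.mem_sup_left (hM.conj_mem a ha g))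
        (Subgroup.mem_sup_right (conj_mem_signGroup hg hb))
    intro n
    refine ⟨key g hg n, fun hn => ?_⟩
    have := key g⁻¹ (inv_mem hg) _ hn
    rwa [show g⁻¹ * (g * n * g⁻¹) * g⁻¹⁻¹ = n by group] at this
  have htop : M ⊔ signGroup = ⊤ := eq_top_iff.2 (normalClosure_signs ▸
    Subgroup.normalClosure_le_normal (fun g hg => Subgroup.mem_sup_right hg))
  rw [eq_top_iff, ← commutator_co0, commutator_def, Subgroup.commutator_le]
  intro a _ b _
  have hab : ∀ g : Co0, ∃ e ∈ signGroup, (QuotientGroup.mk g : Co0 ⧸ M) = QuotientGroup.mk e := by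
    intro g
    obtain ⟨m, hm, e, he, rfl⟩ := Subgroup.mem_sup_of_normal_left.1
      (htop ▸ Subgroup.mem_top g : g ∈ M ⊔ signGroup)
    exact ⟨e, he, by rw [QuotientGroup.mk_mul, (QuotientGroup.eq_one_iff m).2 hm, one_mul]⟩
  obtain ⟨e, he, hae⟩ := hab a
  obtain ⟨f, hf, hbf⟩ := hab b
  rw [← QuotientGroup.eq_one_iff]
  show QuotientGroup.mk' M ⁅a, b⁆ = 1
  rw [map_commutatorElement]
  show ⁅(QuotientGroup.mk a : Co0 ⧸ M), QuotientGroup.mk b⁆ = 1
  rw [hae, hbf, commutatorElement_eq_one_iff_mul_comm, ← QuotientGroup.mk_mul,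
    ← QuotientGroup.mk_mul, signGroup_comm he hf]

theorem isSimpleGroup_co1 : IsSimpleGroup (Co0 ⧸ Subgroup.center Co0) := by
  have hne : Subgroup.center Co0 ≠ ⊤ := by
    intro e
    have := natCard_center
    rw [e, Subgroup.card_top, card_co0] at this
    norm_num at this
  have : Nontrivial (Co0 ⧸ Subgroup.center Co0) := QuotientGroup.nontrivial_iff.2 hne
  refine ⟨fun N hN => ?_⟩
  set q := QuotientGroup.mk' (Subgroup.center Co0)
  have hq : Function.Surjective q := QuotientGroup.mk'_surjective _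
  by_cases h : N.comap q ≤ Subgroup.center Co0
  · left
    rw [← Subgroup.map_comap_eq_self_of_surjective hq N, Subgroup.map_eq_bot_iff,
      QuotientGroup.ker_mk']
    exact h
  · right
    rw [← Subgroup.map_comap_eq_self_of_surjective hq N,
      eq_top_of_normal (hN.comap q) h, Subgroup.map_top_of_surjective q hq]

end Cfsg.Agent.Leech
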