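import Cfsg.Agent.Lib.Leech.Recognition

/-!
# The shapes of minimal vectors

* `octVec o M` : `±2` on the octad `o`, minus exactly on `M`;  `octVec_mem`, `sqNorm_octVec`,
  `dotInt_octVec`
* `IsPair`, `IsOctad`, `IsOdd` and `min_shape` : the three shapes of vectors of norm 32
-/

set_option autoImplicit false

namespace Cfsg.Agent.Leech

/-- `±2` on the octad, with minus signs on `M`. -/
def octVec (o M : Finset GolayPt) : GolayPt → ℤ :=
  fun i => if i ∈ o then (if i ∈ M then -2 else 2) else 0

theorem octVec_mem {o M : Finset GolayPt} (ho : o ∈ octads) (hM : Even (o ∩ M).card) :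
    octVec o M ∈ leechLattice := by
  obtain ⟨⟨w, hw, hsupp⟩, h8⟩ := ho
  set a : GolayPt → ℤ := fun i => if i ∈ o then (if i ∈ M then -1 else 1) else 0
  have ha : octVec o M = (2 : ℤ) • a := by
    funext i
    simp only [octVec, a, Pi.smul_apply, smul_eq_mul]
    split_ifs <;> norm_num
  rw [ha]
  refine mem_mk_even a ?_ ?_
  · have hsum : ∑ i, a i = (o.card : ℤ) - 2 * (o ∩ M).card := by
      simp only [a]
      rw [Finset.sum_ite, Finset.filter_univ_mem, Finset.sum_const_zero, add_zero, Finset.sum_ite,
        Finset.sum_const, Finset.sum_const, Finset.filter_mem_eq_inter]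
      have h2 := Finset.card_filter_add_card_filter_not (s := o) (· ∈ M)
      rw [Finset.filter_mem_eq_inter] at h2
      simp only [nsmul_eq_mul, mul_neg, mul_one]
      omega
    obtain ⟨k, hk⟩ := hM
    rw [hsum, h8, hk]
    exact ⟨2 - k, by push_cast; ring⟩
  · suffices h : mod2 a = w by rw [h]; exact hw
    funext i
    have hi : i ∈ o ↔ w i ≠ 0 := by rw [← hsupp]; simp [support₂]
    simp only [mod2_apply, a]
    by_cases h : i ∈ o
    · rw [if_pos h, zmod2_eq_one.1 (hi.1 h)]
      split_ifs <;> decide
    · rw [if_neg h, not_not.1 (fun hw => h (hi.2 hw))]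
      simp

theorem sqNorm_octVec {o : Finset GolayPt} (ho : o ∈ octads) (M : Finset GolayPt) :
    sqNorm (octVec o M) = 32 := by
  have h : ∀ i, octVec o M i ^ 2 = if i ∈ o then 4 else 0 := fun i => by
    simp only [octVec]; split_ifs <;> norm_num
  rw [sqNorm, Finset.sum_congr rfl fun i _ => h i, Finset.sum_ite, Finset.filter_univ_mem,
    Finset.sum_const_zero, Finset.sum_const, show o.card = 8 from ho.2]
  rfl

theorem dotInt_octVec (x : GolayPt → ℤ) (o M : Finset GolayPt) :
    dotInt x (octVec o M) = 2 * ∑ i ∈ o, x i - 4 * ∑ i ∈ o ∩ M, x i := by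
  have h : ∀ i, x i * octVec o M i
      = (if i ∈ o then 2 * x i else 0) - (if i ∈ o ∩ M then 4 * x i else 0) := fun i => by
    simp only [octVec, Finset.mem_inter]
    split_ifs <;> simp_all <;> ring
  rw [dotInt, Finset.sum_congr rfl fun i _ => h i, Finset.sum_sub_distrib, Finset.sum_ite,
    Finset.sum_ite, Finset.filter_univ_mem, Finset.filter_univ_mem, Finset.sum_const_zero,
    Finset.sum_const_zero, add_zero, add_zero, Finset.mul_sum, Finset.mul_sum]

/-- The shape `(±4², 0²²)`. -/
def IsPair (x : GolayPt → ℤ) : Prop :=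
  ∃ k l, k ≠ l ∧ (x k = 4 ∨ x k = -4) ∧ (x l = 4 ∨ x l = -4) ∧ ∀ i, i ≠ k → i ≠ l → x i = 0

/-- The shape `(±2⁸, 0¹⁶)`. -/
def IsOctad (x : GolayPt → ℤ) : Prop :=
  ∃ o M, o ∈ octads ∧ M ⊆ o ∧ Even M.card ∧ x = octVec o M

/-- The shape `(±3, ±1²³)`, with the residue set `c`. -/
def IsOdd (x : GolayPt → ℤ) : Prop :=
  ∃ k c, c ∈ supports (golayCode : Set (GolayPt → ZMod 2)) ∧ (x k = 3 ∨ x k = -3) ∧
    (∀ i, i ≠ k → x i = 1 ∨ x i = -1) ∧ ∀ i, i ∈ c ↔ x i % 4 = 3

theorem sq_eq_four_cases {a : ℤ} (h : a ^ 2 = 4) : a = 2 ∨ a = -2 :=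
  sq_eq_sq_iff_eq_or_eq_neg.1 (h.trans (by norm_num : (4 : ℤ) = 2 ^ 2))

theorem min_shape {x : GolayPt → ℤ} (hx : x ∈ leechLattice) (hn : sqNorm x = 32) :
    IsPair x ∨ IsOctad x ∨ IsOdd x := by
  obtain ⟨m, a, hm, h1, h2, h3⟩ := exists_rep hx
  rcases hm with rfl | rfl
  · have hsq : sqNorm a = 8 := by
      have h := sqNorm_rep h1
      rw [hn] at h
      simp only [sqNorm]
      omega
    by_cases hA : (support₂ (mod2 a)).card = 0
    · refine Or.inl ?_
      have hev : ∀ i, (2 : ℤ) ∣ a i := fun i => by
        have : i ∉ support₂ (mod2 a) := by rw [Finset.card_eq_zero.1 hA]; simp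
        simpa [support₂_mod2] using this
      choose b hb using hev
      have hb2 : sqNorm b = 2 := by
        have : sqNorm a = 4 * sqNorm b := by
          simp only [sqNorm, Finset.mul_sum]
          exact Finset.sum_congr rfl fun i _ => by rw [hb i]; ring
        omega
      have hb1 : ∀ i, b i = 0 ∨ b i = 1 ∨ b i = -1 := by
        intro i
        have h := sq_le_sqNorm b i
        rw [hb2] at h
        have := abs_lt.1 (abs_lt_of_sq_lt_sq (show b i ^ 2 < 2 ^ 2 by omega) (by norm_num))
        omega
      set S := Finset.univ.filter fun i => b i ≠ 0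
      have hS : (S.card : ℤ) = 2 := by
        rw [← hb2, sqNorm, Finset.card_filter]
        push_cast
        refine Finset.sum_congr rfl fun i _ => ?_
        rcases hb1 i with e | e | e <;> simp [e]
      obtain ⟨k, l, hkl, hSkl⟩ := Finset.card_eq_two.1 (show S.card = 2 by omega)
      have hmem : ∀ i, b i ≠ 0 ↔ i = k ∨ i = l := fun i => by
        have := Finset.ext_iff.1 hSkl i
        simpa [S] using this
      refine ⟨k, l, hkl, ?_, ?_, fun i hik hil => ?_⟩
      · rw [h1 k, hb k]
        rcases hb1 k with e | e | e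
        · exact absurd e ((hmem k).2 (Or.inl rfl))
        all_goals simp [e]
      · rw [h1 l, hb l]
        rcases hb1 l with e | e | e
        · exact absurd e ((hmem l).2 (Or.inr rfl))
        all_goals simp [e]
      · rw [h1 i, hb i]
        by_cases h : b i = 0
        · simp [h]
        · rcases (hmem i).1 h with e | e <;> [exact absurd e hik; exact absurd e hil]
    · refine Or.inr (Or.inl ?_)
      have h8 : (support₂ (mod2 a)).card = 8 := by
        have hle : ((support₂ (mod2 a)).card : ℤ) ≤ sqNorm a := by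
          rw [sqNorm, Finset.card_eq_sum_ones, Nat.cast_sum]
          refine (Finset.sum_le_sum fun i hi => ?_).trans
            (Finset.sum_le_sum_of_subset_of_nonneg (Finset.subset_univ _) fun i _ _ => sq_nonneg _)
          rw [support₂_mod2, Finset.mem_filter] at hi
          have := sq_pos_of_ne_zero (show a i ≠ 0 from fun h => hi.2 (h ▸ dvd_zero _))
          push_cast; omega
        rcases code_weight h3 with h | h | h | h | h <;> omega
      have hs := sqNorm_eight_or_zero hsq h8
      set A := support₂ (mod2 a)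
      set M := A.filter fun i => a i = -1
      have hsum : ∑ i, a i = (A.card : ℤ) - 2 * M.card := by
        have e : ∀ i, a i = (if i ∈ A then 1 else 0) - (if i ∈ M then 2 else 0) := fun i => by
          by_cases hi : i ∈ A
          · rcases (hs i).1 hi with e | e <;> simp [M, hi, e]
          · simp [M, hi, (hs i).2 hi]
        rw [Finset.sum_congr rfl fun i _ => e i, Finset.sum_sub_distrib, Finset.sum_ite,
          Finset.sum_ite, Finset.filter_univ_mem, Finset.filter_univ_mem, Finset.sum_const_zero,
          Finset.sum_const_zero, Finset.sum_const, Finset.sum_const]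
        simp [mul_comm]
      refine ⟨A, M, ⟨⟨mod2 a, h3, rfl⟩, h8⟩, Finset.filter_subset _ _, ?_, funext fun i => ?_⟩
      · rw [hsum, h8] at h2
        simp only [Int.ModEq] at h2
        exact ⟨M.card / 2, by omega⟩
      · rw [h1 i]
        by_cases hi : i ∈ A
        · rcases (hs i).1 hi with e | e <;> simp [octVec, M, hi, e]
        · simp [octVec, hi, (hs i).2 hi]
  · refine Or.inr (Or.inr ?_)
    have hodd : ∀ i, ¬ (2 : ℤ) ∣ x i := fun i => by rw [h1 i]; omega
    obtain ⟨k, hk, hrest⟩ := odd_min_shape hodd hn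
    obtain ⟨m', hpar, -, hres⟩ := mem_leechLattice.1 hx
    exact ⟨k, _, hres 3, hk, hrest, fun i => by
      simp only [Finset.mem_filter, Finset.mem_univ, true_and, Int.ModEq]; norm_num⟩

end Cfsg.Agent.Leech
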