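import Cfsg.Agent.Lib.Leech.Unique
import Cfsg.Agent.Lib.Leech.Shapes
import Cfsg.Agent.Lib.Leech.Octads

/-!
# Normal forms of small configurations of vectors

* `fvA`, `fvB`, `fvC`, `fvD`, `classify552` : the minimal vectors with product 24 with `baseF`
* `exists_normal_two`, `exists_normal_one`, `exists_normal_six`, `exists_normal_mcl`,
  `exists_normal_hs` : representatives of configurations under `Co0`
-/

set_option autoImplicit false

open scoped Pointwise

namespace Cfsg.Agent.Leech

/-- The second point. -/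
abbrev pO : GolayPt := some 0

/-- The third point. -/
abbrev pI : GolayPt := some 1

/-- The fourth point. -/
abbrev pII : GolayPt := some 2

theorem none_ne_pO : (none : GolayPt) ≠ pO := by decide

theorem pt_distinct : (none : GolayPt) ≠ pO ∧ pO ≠ pI ∧ (none : GolayPt) ≠ pI := by decide

/-- `4(e∞ + e₁)`. -/
def baseX : leechLattice := pairVec none pI 1 1 (by norm_num)

/-- `4(e∞ + e₂)`. -/
def baseY : leechLattice := pairVec none pII 1 1 (by norm_num)

/-- `4(-e₀ + e₁)`. -/
def baseW : leechLattice := pairVec pO pI (-1) 1 (by norm_num)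

theorem sqNorm_baseU : sqNorm (baseU : GolayPt → ℤ) = 32 :=
  sqNorm_pairVec none_ne_pO _ (Or.inl rfl) (Or.inl rfl)

theorem sqNorm_baseU' : sqNorm (baseU' : GolayPt → ℤ) = 32 :=
  sqNorm_pairVec none_ne_pO _ (Or.inl rfl) (Or.inr rfl)

theorem dotInt_baseU (x : GolayPt → ℤ) : dotInt x (baseU : GolayPt → ℤ) = 4 * (x none + x pO) := by
  rw [baseU, dotInt_pairVec]; ring

theorem dotInt_baseU' (x : GolayPt → ℤ) :
    dotInt x (baseU' : GolayPt → ℤ) = 4 * (x none - x pO) := by
  rw [baseU', dotInt_pairVec]; ring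

theorem dotInt_baseX (x : GolayPt → ℤ) : dotInt x (baseX : GolayPt → ℤ) = 4 * (x none + x pI) := by
  rw [baseX, dotInt_pairVec]; ring

theorem dotInt_baseF (x : GolayPt → ℤ) :
    dotInt x (baseF : GolayPt → ℤ) = 4 * x none + ∑ i, x i := by
  have h : ∀ i, x i * fiveFun i = (if i = none then 4 * x none else 0) + x i := fun i => by
    by_cases hi : i = none
    · subst hi; simp [fiveFun]; ring
    · simp [fiveFun, hi]
  show dotInt x fiveFun = _
  rw [dotInt, Finset.sum_congr rfl fun i _ => h i, Finset.sum_add_distrib, Finset.sum_ite_eq',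
    if_pos (Finset.mem_univ _)]

theorem dot_smul_eq {g : Co0} {v w v' w' : leechLattice} (hv : g • v = v') (hw : g • w = w') :
    dotInt (v' : GolayPt → ℤ) (w' : GolayPt → ℤ) = dotInt (v : GolayPt → ℤ) (w : GolayPt → ℤ) := by
  rw [← hv, ← hw, dotInt_smul]

theorem signEl_smul_of_zero {c : Finset GolayPt}
    {hc : c ∈ supports (golayCode : Set (GolayPt → ZMod 2))} {v : leechLattice}
    (h : ∀ i ∈ c, (v : GolayPt → ℤ) i = 0) : signEl c hc • v = v := by
  refine Subtype.ext (funext fun i => ?_)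
  rw [vec_signEl]
  by_cases hi : i ∈ c
  · simp [hi, h i hi]
  · simp [hi]

theorem signEl_smul_pairVec {c : Finset GolayPt}
    {hc : c ∈ supports (golayCode : Set (GolayPt → ZMod 2))} {i j : GolayPt} (hi : i ∉ c)
    (hj : j ∉ c) {s t : ℤ} (h : (2 : ℤ) ∣ s + t) :
    signEl c hc • pairVec i j s t h = pairVec i j s t h := by
  refine signEl_smul_of_zero fun l hl => ?_
  have h1 : l ≠ i := fun e => hi (e ▸ hl)
  have h2 : l ≠ j := fun e => hj (e ▸ hl)
  rw [coe_pairVec, Pi.add_apply, Pi.single_eq_of_ne h1, Pi.single_eq_of_ne h2]; rfl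

/-- The permutation element. -/
def permEl (σ : Equiv.Perm GolayPt) (hσ : σ ∈ M24) : Co0 := mono σ hσ ∅ Golay.empty_mem

theorem vec_permEl (σ : Equiv.Perm GolayPt) (hσ : σ ∈ M24) (v : leechLattice) (i : GolayPt) :
    ((permEl σ hσ • v : leechLattice) : GolayPt → ℤ) i = (v : GolayPt → ℤ) (σ.symm i) := by
  rw [permEl, vec_mono]; simp [signedPerm]

theorem permEl_smul_pairVec (σ : Equiv.Perm GolayPt) (hσ : σ ∈ M24) (i j : GolayPt) (s t : ℤ)
    (h : (2 : ℤ) ∣ s + t) :
    permEl σ hσ • pairVec i j s t h = pairVec (σ i) (σ j) s t h := by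
  refine Subtype.ext (funext fun l => ?_)
  rw [vec_permEl]
  simp only [coe_pairVec, Pi.add_apply, Pi.single_apply, Equiv.symm_apply_eq]

theorem permEl_smul_baseF {σ : Equiv.Perm GolayPt} (hσ : σ ∈ M24) (h : σ none = none) :
    permEl σ hσ • baseF = baseF := by
  refine Subtype.ext (funext fun l => ?_)
  rw [vec_permEl]
  show fiveFun (σ.symm l) = fiveFun l
  simp only [fiveFun, Equiv.symm_apply_eq, h]

theorem exists_map_four {a b c d a' b' c' d' : GolayPt} (h : [a, b, c, d].Nodup)
    (h' : [a', b', c', d'].Nodup) :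
    ∃ σ ∈ M24, σ a = a' ∧ σ b = b' ∧ σ c = c' ∧ σ d = d' := by
  have hext : ∀ {x y z w : GolayPt}, [x, y, z, w].Nodup →
      ∃ f : Fin 5 ↪ GolayPt, f 0 = x ∧ f 1 = y ∧ f 2 = z ∧ f 3 = w := by
    intro x y z w hxyzw
    obtain ⟨e, he⟩ : (([x, y, z, w] : List GolayPt).toFinsetᶜ).Nonempty := Finset.card_pos.1 (by
      have := List.toFinset_card_le [x, y, z, w]
      rw [Finset.card_compl, card_pt]
      simp only [List.length_cons, List.length_nil] at this
      omega)
    simp only [Finset.mem_compl, List.mem_toFinset] at he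
    have hn : ([x, y, z, w] ++ [e]).Nodup :=
      List.nodup_append.2 ⟨hxyzw, List.nodup_singleton e, fun u hu v hv he' =>
        he (by rw [List.mem_singleton] at hv; rw [← hv, ← he']; exact hu)⟩
    refine ⟨⟨fun i => ([x, y, z, w, e].get i),
      (List.nodup_iff_injective_get (l := [x, y, z, w, e])).1 hn⟩,
      rfl, rfl, rfl, rfl⟩
  obtain ⟨f, f0, f1, f2, f3⟩ := hext h
  obtain ⟨f', f0', f1', f2', f3'⟩ := hext h'
  obtain ⟨σ, hσ, he⟩ := Golay.exists_map_five f f'
  exact ⟨σ, hσ, by rw [← f0, he, f0'], by rw [← f1, he, f1'], by rw [← f2, he, f2'],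
    by rw [← f3, he, f3']⟩

/-! ### The 552 vectors with product 24 with `baseF` -/

/-- `(4, 4, 0²²)` through `∞`. -/
def fvA (j : GolayPt) : leechLattice := pairVec none j 1 1 (by norm_num)

/-- `(2⁸, 0¹⁶)`. -/
def fvB (o : Finset GolayPt) : GolayPt → ℤ := octVec o ∅

/-- `(3, -1⁷, 1¹⁶)`. -/
def fvC (o : Finset GolayPt) : GolayPt → ℤ :=
  fun i => if i = none then 3 else if i ∈ o then -1 else 1

/-- `(1²³, -3)`. -/
def fvD (k : GolayPt) : GolayPt → ℤ := fun i => if i = k then -3 else 1

theorem fvB_mem {o : Finset GolayPt} (ho : o ∈ octads) : fvB o ∈ leechLattice :=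
  octVec_mem ho (by simp)

theorem odd_sum {x : GolayPt → ℤ} {k : GolayPt} {c : Finset GolayPt} (hk : x k = 3 ∨ x k = -3)
    (hrest : ∀ i, i ≠ k → x i = 1 ∨ x i = -1) (hc : ∀ i, i ∈ c ↔ x i % 4 = 3) :
    ∑ i, x i = 24 - 2 * (c.card : ℤ) + (if k ∈ c then 4 else -4) := by
  have h : ∀ i, x i = (1 - if i ∈ c then 2 else 0) + (if i = k then (if k ∈ c then 4 else -4) else 0) := by
    intro i
    by_cases hi : i = k
    · subst hi
      have := hc i
      rcases hk with e | e <;> rw [e] at this ⊢ <;> norm_num at this <;> simp [this]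
    · have := hc i
      rcases hrest i hi with e | e <;> rw [e] at this ⊢ <;> norm_num at this <;> simp [this, hi]
  rw [Finset.sum_congr rfl fun i _ => h i, Finset.sum_add_distrib, Finset.sum_sub_distrib,
    Finset.sum_const, Finset.card_univ, card_pt, Finset.sum_ite_eq', if_pos (Finset.mem_univ _),
    Finset.sum_ite, Finset.filter_univ_mem, Finset.sum_const_zero, Finset.sum_const]
  simp [mul_comm]

theorem sum_octVec {o M : Finset GolayPt} (ho : o ∈ octads) (hMo : M ⊆ o) :
    ∑ i, octVec o M i = 16 - 4 * (M.card : ℤ) := by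
  have h : ∀ i, octVec o M i = (if i ∈ o then 2 else 0) - (if i ∈ M then 4 else 0) := fun i => by
    by_cases hi : i ∈ M
    · simp [octVec, hi, hMo hi]
    · simp [octVec, hi]
  rw [Finset.sum_congr rfl fun i _ => h i, Finset.sum_sub_distrib, Finset.sum_ite, Finset.sum_ite,
    Finset.filter_univ_mem, Finset.filter_univ_mem, Finset.sum_const, Finset.sum_const,
    show o.card = 8 from ho.2]
  simp [mul_comm]

theorem classify552 {x : GolayPt → ℤ} (hx : x ∈ leechLattice) (hn : sqNorm x = 32)
    (hd : dotInt x (baseF : GolayPt → ℤ) = 24) :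
    (∃ j, j ≠ none ∧ x = (fvA j : GolayPt → ℤ)) ∨ (∃ o ∈ octads, none ∈ o ∧ x = fvB o) ∨
      (∃ o ∈ octads, none ∈ o ∧ x = fvC o) ∨ (∃ k, k ≠ none ∧ x = fvD k) := by
  rw [dotInt_baseF] at hd
  rcases min_shape hx hn with ⟨k, l, hkl, hk, hl, h0⟩ | ⟨o, M, ho, hMo, -, rfl⟩ |
    ⟨k, c, hc, hk, hrest, hres⟩
  · refine Or.inl ?_
    have hsum : ∑ i, x i = x k + x l := by
      rw [← Finset.sum_pair hkl]
      exact (Finset.sum_subset (Finset.subset_univ _) fun i _ hi => by
        simp only [Finset.mem_insert, Finset.mem_singleton, not_or] at hi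
        exact h0 i hi.1 hi.2).symm
    rw [hsum] at hd
    have key : ∀ {a b : GolayPt}, a ≠ b → x a = 4 → x b = 4 → none = a →
        (∀ i, i ≠ a → i ≠ b → x i = 0) → ∃ j, j ≠ none ∧ x = (fvA j : GolayPt → ℤ) := by
      intro a b hab ha hb hna hz
      subst hna
      refine ⟨b, Ne.symm hab, funext fun i => ?_⟩
      rw [fvA, coe_pairVec, Pi.add_apply]
      by_cases hi : i = none
      · subst hi; simp [ha, hab]
      · by_cases hib : i = b
        · subst hib; simp [hb, hi]
        · simp [hz i hi hib, hi, hib]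
    by_cases hkn : none = k
    · subst hkn
      refine key hkl ?_ ?_ rfl h0 <;> rcases hk with e | e <;> rcases hl with e' | e' <;> omega
    by_cases hln : none = l
    · subst hln
      refine key (Ne.symm hkl) ?_ ?_ rfl (fun i a b => h0 i b a) <;>
        rcases hk with e | e <;> rcases hl with e' | e' <;> omega
    · rw [h0 none hkn hln] at hd
      rcases hk with e | e <;> rcases hl with e' | e' <;> omega
  · refine Or.inr (Or.inl ?_)
    rw [sum_octVec ho hMo] at hd
    by_cases hn' : none ∈ o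
    · by_cases hM : none ∈ M
      · simp [octVec, hn', hM] at hd; omega
      · simp [octVec, hn', hM] at hd
        have : M = ∅ := Finset.card_eq_zero.1 (by omega)
        subst this
        exact ⟨o, ho, hn', rfl⟩
    · simp [octVec, hn'] at hd; omega
  · rw [odd_sum hk hrest hres] at hd
    have hw := Golay.card_mem_weights hc
    by_cases hkn : k = none
    · subst hkn
      refine Or.inr (Or.inr (Or.inl ⟨c, ?_⟩))
      have hkc := hres none
      rcases hk with e | e
      · have hm : none ∈ c := hkc.2 (by rw [e]; rfl)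
        rw [e, if_pos hm] at hd
        have h8 : c.card = 8 := by omega
        refine ⟨⟨hc, h8⟩, hm, funext fun i => ?_⟩
        simp only [fvC]
        by_cases hi : i = none
        · subst hi; simp [e]
        · rw [if_neg hi]
          have := hres i
          rcases hrest i hi with e' | e' <;> rw [e'] at this ⊢ <;> norm_num at this <;> simp [this]
      · have hm : none ∉ c := fun h => by have := hkc.1 h; rw [e] at this; norm_num at this
        rw [e, if_neg hm] at hd
        omega
    · refine Or.inr (Or.inr (Or.inr ⟨k, hkn, ?_⟩))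
      have hnone := hrest none (Ne.symm hkn)
      have h0 : c.card = 0 := by
        split_ifs at hd <;> rcases hnone with e | e <;> rw [e] at hd <;> omega
      rw [Finset.card_eq_zero] at h0
      subst h0
      funext i
      simp only [fvD]
      have := hres i
      simp only [Finset.notMem_empty, false_iff] at this
      by_cases hi : i = k
      · subst hi; rcases hk with e | e <;> rw [e] at this ⊢ <;> simp_all
      · rcases hrest i hi with e | e <;> rw [e] at this ⊢ <;> simp_all

theorem dotInt_baseF_octVec {o M : Finset GolayPt} (ho : o ∈ octads) (hMo : M ⊆ o) :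
    dotInt (octVec o M) (baseF : GolayPt → ℤ) =
      4 * octVec o M none + 16 - 4 * (M.card : ℤ) := by
  rw [dotInt_baseF, sum_octVec ho hMo]; ring

/-! ### Sign fixing -/

/-- An odd vector of squared length `24 + 8m` with one coordinate given. -/
theorem exists_sign_fix {w : leechLattice} {a : ℤ} (ha : a % 4 = 1)
    (hn : sqNorm (w : GolayPt → ℤ) = 23 + a ^ 2) (hw : (w : GolayPt → ℤ) none = a)
    (h0 : (w : GolayPt → ℤ) pO % 4 = 1) :
    ∃ c, ∃ hc : c ∈ supports (golayCode : Set (GolayPt → ZMod 2)), none ∉ c ∧ pO ∉ c ∧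
      ((signEl c hc • w : leechLattice) : GolayPt → ℤ) = fun i => if i = none then a else 1 := by
  obtain ⟨m, hpar, -, hk⟩ := mem_leechLattice.1 w.2
  have hodd : ∀ i, ¬ (2 : ℤ) ∣ (w : GolayPt → ℤ) i := by
    intro i
    have h1 := hpar i
    have h2 := hpar none
    rw [hw] at h2
    simp only [Int.ModEq] at h1 h2
    omega
  have hpos : ∀ i ∈ Finset.univ.erase (none : GolayPt), 1 ≤ (w : GolayPt → ℤ) i ^ 2 := fun i _ => by
    have := sq_pos_of_ne_zero (show (w : GolayPt → ℤ) i ≠ 0 from fun h => hodd i (by simp [h]))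
    omega
  have hs := Finset.add_sum_erase Finset.univ (fun i => (w : GolayPt → ℤ) i ^ 2)
    (Finset.mem_univ none)
  change _ = sqNorm _ at hs
  rw [hn] at hs
  rw [hw] at hs
  have he := (Finset.sum_eq_sum_iff_of_le hpos).1 (by
    rw [Finset.sum_const, Finset.card_erase_of_mem (Finset.mem_univ _), Finset.card_univ, card_pt,
      nsmul_eq_mul]
    generalize ∑ i ∈ Finset.univ.erase (none : GolayPt), (w : GolayPt → ℤ) i ^ 2 = S at hs ⊢
    push_cast; omega)
  refine ⟨_, hk 3, ?_, ?_, funext fun i => ?_⟩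
  · simp only [Finset.mem_filter, Finset.mem_univ, true_and]
    simp only [Int.ModEq, hw]; omega
  · simp only [Finset.mem_filter, Finset.mem_univ, true_and]
    simp only [Int.ModEq]; omega
  · rw [vec_signEl]
    simp only [Finset.mem_filter, Finset.mem_univ, true_and]
    by_cases hi : i = none
    · subst hi; rw [hw, if_pos rfl, if_neg (by unfold Int.ModEq; omega)]
    · rw [if_neg hi]
      rcases sq_eq_one_iff.1 (he i (Finset.mem_erase.2 ⟨hi, Finset.mem_univ i⟩)).symm with e | e <;>
        simp [e, Int.ModEq]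

/-! ### Pairs of minimal vectors -/

theorem exists_aux_two {w : GolayPt → ℤ} (hw : w ∈ leechLattice) (hn : sqNorm w = 32)
    (hd : w none + w pO = -4) : ∃ u : leechLattice, sqNorm (u : GolayPt → ℤ) = 32 ∧
      (u : GolayPt → ℤ) none + (u : GolayPt → ℤ) pO = 0 ∧ dotInt w (u : GolayPt → ℤ) = 16 := by
  rcases min_shape hw hn with ⟨k, l, hkl, hk, hl, h0⟩ | ⟨o, M, ho, hMo, hMev, rfl⟩ |
    ⟨k, c, hc, hk, hrest, hres⟩
  · have hcase : (w none = -4 ∧ w pO = 0) ∨ (w none = 0 ∧ w pO = -4) := by
      have hv : ∀ i, w i = 0 ∨ w i = 4 ∨ w i = -4 := fun i => by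
        by_cases h1 : i = k
        · subst h1; omega
        by_cases h2 : i = l
        · subst h2; omega
        · exact Or.inl (h0 i h1 h2)
      rcases hv none with e | e | e <;> rcases hv pO with e' | e' | e' <;> omega
    rcases hcase with ⟨e, e'⟩ | ⟨e, e'⟩
    · exact ⟨pairVec none pO (-1) 1 (by norm_num), sqNorm_pairVec none_ne_pO _ (Or.inr rfl) (Or.inl rfl),
        by simp [coe_pairVec, none_ne_pO, none_ne_pO.symm], by rw [dotInt_pairVec, e, e']; norm_num⟩
    · exact ⟨baseU', sqNorm_baseU', by simp [baseU', coe_pairVec, none_ne_pO, none_ne_pO.symm],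
        by rw [dotInt_baseU', e, e']; norm_num⟩
  · have hv : ∀ i, octVec o M i = 0 ∨ octVec o M i = 2 ∨ octVec o M i = -2 := fun i => by
      simp only [octVec]; split_ifs <;> simp
    have hboth : none ∈ o ∧ pO ∈ o := by
      constructor <;> by_contra h
      · have := hv pO; rw [show octVec o M none = 0 by simp [octVec, h]] at hd; omega
      · have := hv none; rw [show octVec o M pO = 0 by simp [octVec, h]] at hd; omega
    obtain ⟨i, hi, j, hj, hij⟩ := Finset.one_lt_card.1
      (show 1 < (o \ {none, pO}).card by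
        have := Finset.le_card_sdiff ({none, pO} : Finset GolayPt) o
        rw [Finset.card_pair none_ne_pO, show o.card = 8 from ho.2] at this
        omega)
    simp only [Finset.mem_sdiff, Finset.mem_insert, Finset.mem_singleton, not_or] at hi hj
    refine ⟨pairVec i j (if i ∈ M then -1 else 1) (if j ∈ M then -1 else 1) ?_,
      sqNorm_pairVec hij _ ?_ ?_, ?_, ?_⟩
    · split_ifs <;> norm_num
    · split_ifs <;> simp
    · split_ifs <;> simp
    · simp [coe_pairVec, Ne.symm hi.2.1, Ne.symm hi.2.2, Ne.symm hj.2.1, Ne.symm hj.2.2]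
    · rw [dotInt_pairVec]
      simp only [octVec, hi.1, hj.1, if_true]
      split_ifs <;> norm_num
  · obtain ⟨o, ho, ho1, ho2⟩ := exists_octad_avoid_two none_ne_pO
    have hk' : k = none ∨ k = pO := by
      by_contra h
      push Not at h
      rcases hrest none (Ne.symm h.1) with e | e <;> rcases hrest pO (Ne.symm h.2) with e' | e' <;>
        omega
    refine ⟨⟨octVec o c, octVec_mem ho (Golay.inter_even ho.1 hc)⟩, sqNorm_octVec ho c,
      by simp [octVec, ho1, ho2], ?_⟩
    have hval : ∀ i ∈ o, w i = 1 - (if i ∈ c then 2 else 0) := by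
      intro i hi
      have hik : i ≠ k := by rintro rfl; rcases hk' with e | e <;> subst e <;> contradiction
      have := hres i
      rcases hrest i hik with e | e <;> rw [e] at this ⊢ <;> norm_num at this <;> simp [this]
    show dotInt w (octVec o c) = 16
    rw [dotInt_octVec, Finset.sum_congr rfl hval,
      Finset.sum_congr (s₁ := o ∩ c) rfl (g := fun _ => (-1 : ℤ)) fun i hi => by
        rw [hval i (Finset.mem_inter.1 hi).1, if_pos (Finset.mem_inter.1 hi).2]; rfl]
    rw [Finset.sum_sub_distrib, Finset.sum_const, Finset.sum_ite_mem, Finset.sum_const,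
      Finset.sum_const, show o.card = 8 from ho.2]
    simp only [nsmul_eq_mul]; push_cast; ring

theorem exists_aux_one {w : GolayPt → ℤ} (hw : w ∈ leechLattice) (hn : sqNorm w = 32)
    (hd : w none + w pO = -2) : ∃ u : leechLattice, sqNorm (u : GolayPt → ℤ) = 32 ∧
      (u : GolayPt → ℤ) none + (u : GolayPt → ℤ) pO = 0 ∧ dotInt w (u : GolayPt → ℤ) = -16 := by
  rcases min_shape hw hn with ⟨k, l, hkl, hk, hl, h0⟩ | ⟨o, M, ho, hMo, hMev, rfl⟩ |
    ⟨k, c, hc, hk, hrest, hres⟩
  · exfalso
    have hv : ∀ i, w i = 0 ∨ w i = 4 ∨ w i = -4 := fun i => by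
      by_cases h1 : i = k
      · subst h1; omega
      by_cases h2 : i = l
      · subst h2; omega
      · exact Or.inl (h0 i h1 h2)
    rcases hv none with e | e | e <;> rcases hv pO with e' | e' | e' <;> omega
  · obtain ⟨i, hi, j, hj, hij⟩ := Finset.one_lt_card.1
      (show 1 < (o \ {none, pO}).card by
        have := Finset.le_card_sdiff ({none, pO} : Finset GolayPt) o
        rw [Finset.card_pair none_ne_pO, show o.card = 8 from ho.2] at this
        omega)
    simp only [Finset.mem_sdiff, Finset.mem_insert, Finset.mem_singleton, not_or] at hi hj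
    refine ⟨pairVec i j (if i ∈ M then 1 else -1) (if j ∈ M then 1 else -1) ?_,
      sqNorm_pairVec hij _ ?_ ?_, ?_, ?_⟩
    · split_ifs <;> norm_num
    · split_ifs <;> simp
    · split_ifs <;> simp
    · simp [coe_pairVec, Ne.symm hi.2.1, Ne.symm hi.2.2, Ne.symm hj.2.1, Ne.symm hj.2.2]
    · rw [dotInt_pairVec]
      simp only [octVec, hi.1, hj.1, if_true]
      split_ifs <;> norm_num
  · by_cases h1 : k = none
    · refine ⟨baseU', sqNorm_baseU', by simp [baseU', coe_pairVec, none_ne_pO, none_ne_pO.symm], ?_⟩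
      rw [h1] at hk hrest
      rw [dotInt_baseU']
      rcases hk with e | e <;> rcases hrest pO none_ne_pO.symm with e' | e' <;> omega
    by_cases h2 : k = pO
    · refine ⟨pairVec none pO (-1) 1 (by norm_num),
        sqNorm_pairVec none_ne_pO _ (Or.inr rfl) (Or.inl rfl),
        by simp [coe_pairVec, none_ne_pO, none_ne_pO.symm], ?_⟩
      rw [h2] at hk hrest
      rw [dotInt_pairVec]
      rcases hk with e | e <;> rcases hrest none none_ne_pO with e' | e' <;> omega
    · obtain ⟨i, hi⟩ : (({none, pO, k} : Finset GolayPt)ᶜ).Nonempty := Finset.card_pos.1 (by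
        have := Finset.card_le_three (a := (none : GolayPt)) (b := pO) (c := k)
        rw [Finset.card_compl, card_pt]; omega)
      simp only [Finset.mem_compl, Finset.mem_insert, Finset.mem_singleton, not_or] at hi
      refine ⟨pairVec k i (if w k = 3 then -1 else 1) (if w i = 1 then -1 else 1) ?_,
        sqNorm_pairVec (Ne.symm hi.2.2) _ ?_ ?_, ?_, ?_⟩
      · split_ifs <;> norm_num
      · split_ifs <;> simp
      · split_ifs <;> simp
      · simp [coe_pairVec, Ne.symm h1, Ne.symm h2, Ne.symm hi.1, Ne.symm hi.2.1]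
      · rw [dotInt_pairVec]
        rcases hk with e | e <;> rcases hrest i hi.2.2 with e' | e' <;> rw [e, e'] <;> norm_num

theorem dot_pull (g : Co0) (v : leechLattice) (u : leechLattice) :
    dotInt (v : GolayPt → ℤ) ((g⁻¹ • u : leechLattice) : GolayPt → ℤ)
      = dotInt ((g • v : leechLattice) : GolayPt → ℤ) (u : GolayPt → ℤ) := by
  rw [← dotInt_smul g v, smul_inv_smul]

/-- Minimal vectors with product `-16`. -/
theorem exists_normal_two {v w : leechLattice} (hv : sqNorm (v : GolayPt → ℤ) = 32)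
    (hw : sqNorm (w : GolayPt → ℤ) = 32)
    (hd : dotInt (v : GolayPt → ℤ) (w : GolayPt → ℤ) = -16) :
    ∃ g : Co0, g • v = baseU ∧ g • w = baseW := by
  obtain ⟨g, hg⟩ := exists_to_baseU golayUnique hv
  have hd' : dotInt (baseU : GolayPt → ℤ) ((g • w : leechLattice) : GolayPt → ℤ) = -16 :=
    (dot_smul_eq hg rfl).trans hd
  rw [dotInt_comm, dotInt_baseU] at hd'
  obtain ⟨u, hu, hu0, huw⟩ := exists_aux_two (g • w).2 (by rw [sqNorm_smul, hw]) (by omega)
  obtain ⟨k, k1, k2⟩ := exists_to_orth_pair golayUnique sqNorm_baseU hu (by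
    rw [dotInt_comm, dotInt_baseU, hu0, mul_zero])
  have a := dot_smul_eq k1 (rfl : k • (g • w) = _)
  have b := dot_smul_eq (rfl : k • (g • w) = _) k2
  rw [dotInt_comm, dotInt_baseU, dotInt_comm, dotInt_baseU] at a
  rw [dotInt_baseU', huw] at b
  set z := k • (g • w) with hz
  have hzn : sqNorm (z : GolayPt → ℤ) = 32 := by rw [hz, sqNorm_smul, sqNorm_smul, hw]
  have z1 : (z : GolayPt → ℤ) none = 0 := by omega
  have z2 : (z : GolayPt → ℤ) pO = -4 := by omega
  rcases min_shape z.2 hzn with ⟨p, q, hpq, hp, hq, h0⟩ | ⟨o, M, -, -, -, he⟩ |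
    ⟨p, c, -, hp, hrest, -⟩
  · have hmem : pO = p ∨ pO = q := by
      by_contra h; push Not at h; rw [h0 pO h.1 h.2] at z2; omega
    obtain ⟨r, hr0, hrn, hrv, hrest⟩ : ∃ r, r ≠ pO ∧ r ≠ none ∧
        ((z : GolayPt → ℤ) r = 4 ∨ (z : GolayPt → ℤ) r = -4) ∧
        ∀ i, i ≠ pO → i ≠ r → (z : GolayPt → ℤ) i = 0 := by
      rcases hmem with e | e
      · refine ⟨q, e ▸ Ne.symm hpq, fun h => ?_, hq, fun i a b => h0 i (e ▸ a) b⟩
        rw [h, z1] at hq; omega
      · refine ⟨p, e ▸ hpq, fun h => ?_, hp, fun i a b => h0 i b (e ▸ a)⟩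
        rw [h, z1] at hp; omega
    obtain ⟨σ, hσ, s1, s2, s3⟩ := exists_map_three ⟨none_ne_pO, Ne.symm hr0, Ne.symm hrn⟩ pt_distinct
    obtain ⟨d, hd1, d1, d2, d3⟩ := exists_sign_three pt_distinct False False ((z : GolayPt → ℤ) r = -4)
    refine ⟨mono σ hσ d hd1 * k * g, ?_, ?_⟩
    · rw [mul_smul, mul_smul, hg, k1]
      refine Subtype.ext ?_
      rw [vec_mono, baseU, coe_pairVec, signedPerm_add, signedPerm_single, signedPerm_single, s1, s2,
        if_neg (fun h => d1.1 h), if_neg (fun h => d2.1 h)]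
    · rw [mul_smul, mul_smul, ← hz]
      refine Subtype.ext (funext fun i => ?_)
      rw [vec_mono]
      simp only [signedPerm, baseW, coe_pairVec, Pi.add_apply]
      have hsy : ∀ a b, σ a = b → σ.symm b = a := fun a b e => by rw [← e, Equiv.symm_apply_apply]
      by_cases h1 : i = pO
      · subst h1
        rw [if_neg (fun h => d2.1 h), hsy _ _ s2, z2]; simp [pt_distinct.2.1]
      by_cases h2 : i = pI
      · subst h2
        rw [hsy _ _ s3]
        rcases hrv with e | e
        · rw [if_neg (fun h => by have := d3.1 h; omega), e]; simp [pt_distinct.2.1.symm]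
        · rw [if_pos (d3.2 e), e]; simp [pt_distinct.2.1.symm]
      · have e1 : σ.symm i ≠ pO := fun e => h1 (by rw [← s2, ← e, Equiv.apply_symm_apply])
        have e2 : σ.symm i ≠ r := fun e => h2 (by rw [← s3, ← e, Equiv.apply_symm_apply])
        rw [hrest _ e1 e2]
        simp [h1, h2]
  · exfalso
    rw [he] at z2
    simp only [octVec] at z2
    split_ifs at z2 <;> omega
  · exfalso
    by_cases h : none = p
    · rw [← h, z1] at hp; omega
    · rcases hrest none h with e | e <;> omega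

/-- Minimal vectors with product `-8`. -/
theorem exists_normal_one {v w : leechLattice} (hv : sqNorm (v : GolayPt → ℤ) = 32)
    (hw : sqNorm (w : GolayPt → ℤ) = 32)
    (hd : dotInt (v : GolayPt → ℤ) (w : GolayPt → ℤ) = -8) :
    ∃ g : Co0, g • v = baseU ∧ g • w = ⟨oddMin, oddMin_mem⟩ := by
  obtain ⟨g, hg⟩ := exists_to_baseU golayUnique hv
  have hd' : dotInt (baseU : GolayPt → ℤ) ((g • w : leechLattice) : GolayPt → ℤ) = -8 :=
    (dot_smul_eq hg rfl).trans hd
  rw [dotInt_comm, dotInt_baseU] at hd'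
  obtain ⟨u, hu, hu0, huw⟩ := exists_aux_one (g • w).2 (by rw [sqNorm_smul, hw]) (by omega)
  obtain ⟨k, k1, k2⟩ := exists_to_orth_pair golayUnique sqNorm_baseU hu (by
    rw [dotInt_comm, dotInt_baseU, hu0, mul_zero])
  have a := dot_smul_eq k1 (rfl : k • (g • w) = _)
  have b := dot_smul_eq (rfl : k • (g • w) = _) k2
  rw [dotInt_comm, dotInt_baseU, dotInt_comm, dotInt_baseU] at a
  rw [dotInt_baseU', huw] at b
  have z1 : ((k • g • w : leechLattice) : GolayPt → ℤ) none = -3 := by omega
  have z2 : ((k • g • w : leechLattice) : GolayPt → ℤ) pO = 1 := by omega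
  obtain ⟨c, hc, c1, c2, he⟩ := exists_sign_fix (a := -3) (by norm_num)
    (by rw [sqNorm_smul, sqNorm_smul, hw]; norm_num) z1 (by rw [z2]; rfl)
  refine ⟨signEl c hc * k * g, ?_, ?_⟩
  · rw [mul_smul, mul_smul, hg, k1, baseU, signEl_smul_pairVec c1 c2]
  · rw [mul_smul, mul_smul]; exact Subtype.ext he

/-- A norm 48 vector with a minimal vector of product 24, and an auxiliary orthogonal vector. -/
theorem exists_normal_aux {u v t : leechLattice} (hu : sqNorm (u : GolayPt → ℤ) = 48)
    (hv : sqNorm (v : GolayPt → ℤ) = 32) (ht : sqNorm (t : GolayPt → ℤ) = 32)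
    (huv : dotInt (u : GolayPt → ℤ) (v : GolayPt → ℤ) = 24)
    (hvt : dotInt (v : GolayPt → ℤ) (t : GolayPt → ℤ) = 0)
    (hut : dotInt (u : GolayPt → ℤ) (t : GolayPt → ℤ) = 16) :
    ∃ g : Co0, g • u = baseF ∧ g • v = baseU ∧ g • t = baseU' := by
  obtain ⟨k, k1, k2⟩ := exists_to_orth_pair golayUnique hv ht hvt
  have a := dot_smul_eq (rfl : k • u = _) k1
  have b := dot_smul_eq (rfl : k • u = _) k2
  rw [dotInt_baseU, huv] at a
  rw [dotInt_baseU', hut] at b
  have z1 : ((k • u : leechLattice) : GolayPt → ℤ) none = 5 := by omega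
  have z2 : ((k • u : leechLattice) : GolayPt → ℤ) pO = 1 := by omega
  obtain ⟨c, hc, c1, c2, he⟩ := exists_sign_fix (a := 5) (by norm_num)
    (by rw [sqNorm_smul, hu]; norm_num) z1 (by rw [z2]; rfl)
  refine ⟨signEl c hc * k, ?_, ?_, ?_⟩
  · rw [mul_smul]; exact Subtype.ext he
  · rw [mul_smul, k1, baseU, signEl_smul_pairVec c1 c2]
  · rw [mul_smul, k2, baseU', signEl_smul_pairVec c1 c2]

theorem dot_six {u v : leechLattice} (hu : sqNorm (u : GolayPt → ℤ) = 48)
    (hv : sqNorm (v : GolayPt → ℤ) = 32 ∧ sqNorm ((u - v) : GolayPt → ℤ) = 32) :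
    dotInt (u : GolayPt → ℤ) (v : GolayPt → ℤ) = 24 := by
  have h := hv.2
  rw [sqNorm_sub, hu, hv.1] at h
  omega

/-- A norm 48 vector with a minimal vector of product 24. -/
theorem exists_normal_six {u v : leechLattice} (hu : sqNorm (u : GolayPt → ℤ) = 48)
    (hv : sqNorm (v : GolayPt → ℤ) = 32)
    (huv : dotInt (u : GolayPt → ℤ) (v : GolayPt → ℤ) = 24) :
    ∃ g : Co0, g • u = baseF ∧ g • v = baseU := by
  obtain ⟨g, hg⟩ := exists_to_baseF golayUnique hu
  suffices h : ∃ t : leechLattice, sqNorm (t : GolayPt → ℤ) = 32 ∧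
      dotInt ((g • v : leechLattice) : GolayPt → ℤ) (t : GolayPt → ℤ) = 0 ∧
      dotInt (baseF : GolayPt → ℤ) (t : GolayPt → ℤ) = 16 by
    obtain ⟨t, ht, h1, h2⟩ := h
    obtain ⟨k, k1, k2, -⟩ := exists_normal_aux sqNorm_baseF (by rw [sqNorm_smul, hv]) ht
      ((dot_smul_eq hg rfl).trans huv) h1 h2
    exact ⟨k * g, by rw [mul_smul, hg, k1], by rw [mul_smul, k2]⟩
  have hd : dotInt ((g • v : leechLattice) : GolayPt → ℤ) (baseF : GolayPt → ℤ) = 24 := by
    rw [dotInt_comm]; exact (dot_smul_eq hg rfl).trans huv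
  have hF : ∀ i, i ≠ none → dotInt (baseF : GolayPt → ℤ)
      (pairVec none i 1 (-1) (by norm_num) : GolayPt → ℤ) = 16 := fun i hi => by
    rw [dotInt_pairVec]; simp [baseF, fiveFun, hi]
  rcases classify552 (g • v).2 (by rw [sqNorm_smul, hv]) hd with
    ⟨j, hj, he⟩ | ⟨o, ho, hno, he⟩ | ⟨o, ho, hno, he⟩ | ⟨k, hk, he⟩
  · refine ⟨pairVec none j 1 (-1) (by norm_num), sqNorm_pairVec (Ne.symm hj) _ (Or.inl rfl) (Or.inr rfl),
      ?_, hF j hj⟩
    rw [he, dotInt_pairVec]; simp [fvA, coe_pairVec, hj, Ne.symm hj]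
  · obtain ⟨i, hi, hin⟩ := Finset.exists_mem_ne (show 1 < o.card by rw [ho.2]; norm_num) none
    refine ⟨pairVec none i 1 (-1) (by norm_num),
      sqNorm_pairVec (Ne.symm hin) _ (Or.inl rfl) (Or.inr rfl), ?_, hF i hin⟩
    rw [he, dotInt_pairVec]; simp [fvB, octVec, hno, hi]
  · obtain ⟨S, hS, hS4⟩ := Finset.exists_subset_card_eq (show 4 ≤ (o.erase none).card by
      rw [Finset.card_erase_of_mem hno, ho.2]; norm_num)
    obtain ⟨p, hp⟩ : (oᶜ).Nonempty := Finset.card_pos.1 (by
      rw [Finset.card_compl, card_pt, ho.2]; norm_num)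
    rw [Finset.mem_compl] at hp
    obtain ⟨O, hO, hpO, hOo⟩ := exists_octad_meet ho (hS.trans (Finset.erase_subset _ _)) hS4 hp
    have hnO : none ∉ O := fun h => by
      have : none ∈ S := hOo ▸ Finset.mem_inter.2 ⟨h, hno⟩
      exact (Finset.mem_erase.1 (hS this)).1 rfl
    refine ⟨⟨octVec O ∅, octVec_mem hO (by simp)⟩, sqNorm_octVec hO ∅, ?_, ?_⟩
    · rw [he, dotInt_octVec, Finset.inter_empty, Finset.sum_empty,
        Finset.sum_congr rfl (g := fun i => 1 - if i ∈ o then 2 else (0 : ℤ)) fun i hi => by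
          simp only [fvC, show i ≠ none from fun h => hnO (h ▸ hi), if_false]
          split_ifs <;> norm_num,
        Finset.sum_sub_distrib, Finset.sum_const, Finset.sum_ite_mem, hOo, Finset.sum_const,
        show O.card = 8 from hO.2, hS4]
      norm_num
    · rw [dotInt_comm, dotInt_baseF_octVec hO (Finset.empty_subset _)]
      simp [octVec, hnO]
  · obtain ⟨i, hi⟩ : (({none, k} : Finset GolayPt)ᶜ).Nonempty := Finset.card_pos.1 (by
      have := Finset.card_le_two (a := (none : GolayPt)) (b := k)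
      rw [Finset.card_compl, card_pt]; omega)
    simp only [Finset.mem_compl, Finset.mem_insert, Finset.mem_singleton, not_or] at hi
    refine ⟨pairVec none i 1 (-1) (by norm_num),
      sqNorm_pairVec (Ne.symm hi.1) _ (Or.inl rfl) (Or.inr rfl), ?_, hF i hi.1⟩
    rw [he, dotInt_pairVec]; simp [fvD, Ne.symm hk, hi.2]

theorem pair_of_coords {x : leechLattice} (hn : sqNorm (x : GolayPt → ℤ) = 32)
    (h4 : (x : GolayPt → ℤ) none = 4) (h0 : (x : GolayPt → ℤ) pO = 0)
    (hd : dotInt (x : GolayPt → ℤ) (baseF : GolayPt → ℤ) = 24) :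
    ∃ j, j ≠ none ∧ j ≠ pO ∧ x = fvA j := by
  rcases classify552 x.2 hn hd with ⟨j, hj, he⟩ | ⟨o, -, hno, he⟩ | ⟨o, -, -, he⟩ | ⟨k, hk, he⟩
  · refine ⟨j, hj, fun e => ?_, Subtype.ext he⟩
    rw [he, e, fvA, coe_pairVec] at h0; simp [none_ne_pO.symm] at h0
  · rw [he] at h4; simp [fvB, octVec, hno] at h4
  · rw [he] at h4; simp [fvC] at h4
  · rw [he] at h4; simp [fvD, Ne.symm hk] at h4

/-- A summand vector, a second one of product 16 with it, and an auxiliary vector. -/
theorem exists_normal_mcl_aux {u v x t : leechLattice} (hu : sqNorm (u : GolayPt → ℤ) = 48)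
    (hv : sqNorm (v : GolayPt → ℤ) = 32) (hx : sqNorm (x : GolayPt → ℤ) = 32)
    (ht : sqNorm (t : GolayPt → ℤ) = 32) (huv : dotInt (u : GolayPt → ℤ) (v : GolayPt → ℤ) = 24)
    (hux : dotInt (u : GolayPt → ℤ) (x : GolayPt → ℤ) = 24)
    (hvx : dotInt (v : GolayPt → ℤ) (x : GolayPt → ℤ) = 16)
    (hvt : dotInt (v : GolayPt → ℤ) (t : GolayPt → ℤ) = 0)
    (hut : dotInt (u : GolayPt → ℤ) (t : GolayPt → ℤ) = 16)
    (hxt : dotInt (x : GolayPt → ℤ) (t : GolayPt → ℤ) = 16) :
    ∃ (g : Co0) (j : GolayPt), j ≠ none ∧ j ≠ pO ∧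
      g • u = baseF ∧ g • v = baseU ∧ g • t = baseU' ∧ g • x = fvA j := by
  obtain ⟨g, g1, g2, g3⟩ := exists_normal_aux hu hv ht huv hvt hut
  have a := dot_smul_eq (rfl : g • x = _) g2
  have b := dot_smul_eq (rfl : g • x = _) g3
  have c := dot_smul_eq (rfl : g • x = _) g1
  rw [dotInt_baseU, dotInt_comm, hvx] at a
  rw [dotInt_baseU', hxt] at b
  rw [dotInt_comm (x : GolayPt → ℤ), hux] at c
  obtain ⟨j, j1, j2, he⟩ := pair_of_coords (by rw [sqNorm_smul, hx]) (by omega) (by omega) c
  exact ⟨g, j, j1, j2, g1, g2, g3, he⟩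

/-- A McLaughlin configuration. -/
theorem exists_normal_mcl {u v x : leechLattice} (hu : sqNorm (u : GolayPt → ℤ) = 48)
    (hv : sqNorm (v : GolayPt → ℤ) = 32) (hx : sqNorm (x : GolayPt → ℤ) = 32)
    (huv : dotInt (u : GolayPt → ℤ) (v : GolayPt → ℤ) = 24)
    (hux : dotInt (u : GolayPt → ℤ) (x : GolayPt → ℤ) = 24)
    (hvx : dotInt (v : GolayPt → ℤ) (x : GolayPt → ℤ) = 16) :
    ∃ g : Co0, g • u = baseF ∧ g • v = baseU ∧ g • x = baseX := by
  obtain ⟨g, g1, g2⟩ := exists_normal_six hu hv huv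
  suffices h : ∃ t : leechLattice, sqNorm (t : GolayPt → ℤ) = 32 ∧
      (t : GolayPt → ℤ) none + (t : GolayPt → ℤ) pO = 0 ∧
      dotInt (baseF : GolayPt → ℤ) (t : GolayPt → ℤ) = 16 ∧
      dotInt ((g • x : leechLattice) : GolayPt → ℤ) (t : GolayPt → ℤ) = 16 by
    obtain ⟨t, ht, h1, h2, h3⟩ := h
    obtain ⟨k, j, j1, j2, k1, k2, -, k4⟩ := exists_normal_mcl_aux (u := baseF) (v := baseU) (t := t)
      sqNorm_baseF sqNorm_baseU (x := g • x) (by rw [sqNorm_smul, hx]) ht
      ((dot_smul_eq g1 g2).trans huv) ((dot_smul_eq g1 rfl).trans hux)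
      ((dot_smul_eq g2 rfl).trans hvx) (by rw [dotInt_comm, dotInt_baseU, h1, mul_zero]) h2 h3
    obtain ⟨σ, hσ, s1, s2, s3⟩ := exists_map_three ⟨none_ne_pO, Ne.symm j2, Ne.symm j1⟩ pt_distinct
    refine ⟨permEl σ hσ * k * g, ?_, ?_, ?_⟩
    · rw [mul_smul, mul_smul, g1, k1, permEl_smul_baseF hσ s1]
    · rw [mul_smul, mul_smul, g2, k2, baseU, permEl_smul_pairVec]
      simp only [s1, s2]
    · rw [mul_smul, mul_smul, k4, fvA, permEl_smul_pairVec]
      simp only [s1, s3]
      rfl
  have hd := dot_smul_eq (rfl : g • x = _) g1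
  rw [dotInt_comm (x : GolayPt → ℤ), hux] at hd
  have hU := dot_smul_eq (rfl : g • x = _) g2
  rw [dotInt_baseU, dotInt_comm, hvx] at hU
  rcases classify552 (g • x).2 (by rw [sqNorm_smul, hx]) hd with
    ⟨j, hj, he⟩ | ⟨o, ho, hno, he⟩ | ⟨o, ho, hno, he⟩ | ⟨k, hk, he⟩
  · refine ⟨baseU', sqNorm_baseU', by simp [baseU', coe_pairVec, none_ne_pO, none_ne_pO.symm], ?_, ?_⟩
    · rw [dotInt_baseU']; rfl
    · have hj0 : j ≠ pO := fun e => by
        rw [he, e, fvA, coe_pairVec] at hU; simp [none_ne_pO, none_ne_pO.symm] at hU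
      rw [he, dotInt_baseU']; simp [fvA, coe_pairVec, Ne.symm hj, Ne.symm hj0, none_ne_pO.symm]
  · have h0o : pO ∈ o := by
      by_contra h; rw [he] at hU; simp [fvB, octVec, hno, h] at hU
    obtain ⟨S, hS, hS4⟩ := Finset.exists_subset_card_eq
      (show 4 ≤ (o \ {none, pO}).card by
        have := Finset.le_card_sdiff ({none, pO} : Finset GolayPt) o
        rw [Finset.card_pair none_ne_pO, show o.card = 8 from ho.2] at this
        omega)
    obtain ⟨p, hp⟩ : (oᶜ).Nonempty := Finset.card_pos.1 (by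
      rw [Finset.card_compl, card_pt, ho.2]; norm_num)
    rw [Finset.mem_compl] at hp
    obtain ⟨O, hO, -, hOo⟩ := exists_octad_meet ho (hS.trans Finset.sdiff_subset) hS4 hp
    have hav : none ∉ O ∧ pO ∉ O := by
      constructor <;> intro h
      · have := hS (hOo ▸ Finset.mem_inter.2 ⟨h, hno⟩); simp at this
      · have := hS (hOo ▸ Finset.mem_inter.2 ⟨h, h0o⟩); simp at this
    refine ⟨⟨octVec O ∅, octVec_mem hO (by simp)⟩, sqNorm_octVec hO ∅,
      by simp [octVec, hav.1, hav.2], ?_, ?_⟩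
    · rw [dotInt_comm, dotInt_baseF_octVec hO (Finset.empty_subset _)]
      simp [octVec, hav.1]
    · rw [he, dotInt_octVec, Finset.inter_empty, Finset.sum_empty,
        Finset.sum_congr rfl (g := fun i => if i ∈ o then 2 else (0 : ℤ)) fun i _ => by
          simp [fvB, octVec],
        Finset.sum_ite_mem, hOo, Finset.sum_const, hS4]
      norm_num
  · have h0o : pO ∉ o := by
      intro h; rw [he] at hU; simp [fvC, h, none_ne_pO.symm] at hU
    obtain ⟨O, hO, hdis, h0O⟩ := exists_disjoint_octad_avoid ho h0o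
    have hnO : none ∉ O := fun h => Finset.disjoint_left.1 hdis h hno
    refine ⟨⟨octVec O ∅, octVec_mem hO (by simp)⟩, sqNorm_octVec hO ∅,
      by simp [octVec, hnO, h0O], ?_, ?_⟩
    · rw [dotInt_comm, dotInt_baseF_octVec hO (Finset.empty_subset _)]
      simp [octVec, hnO]
    · rw [he, dotInt_octVec, Finset.inter_empty, Finset.sum_empty,
        Finset.sum_congr rfl (g := fun _ => (1 : ℤ)) fun i hi => by
          simp [fvC, show i ≠ none from fun h => hnO (h ▸ hi), Finset.disjoint_left.1 hdis hi],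
        Finset.sum_const, show O.card = 8 from hO.2]
      norm_num
  · exfalso
    rw [he] at hU
    by_cases h : k = pO
    · simp [fvD, h, none_ne_pO] at hU
    · simp [fvD, Ne.symm hk, Ne.symm h] at hU

/-- A Higman–Sims configuration with one of its hundred points. -/
theorem exists_normal_hs_point {v z x : leechLattice} (hv : sqNorm (v : GolayPt → ℤ) = 48)
    (hz : sqNorm (z : GolayPt → ℤ) = 32) (hx : sqNorm (x : GolayPt → ℤ) = 32)
    (hvx : dotInt (v : GolayPt → ℤ) (x : GolayPt → ℤ) = 24)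
    (hvz : dotInt (v : GolayPt → ℤ) (z : GolayPt → ℤ) = 16)
    (hxz : dotInt (x : GolayPt → ℤ) (z : GolayPt → ℤ) = 0) :
    ∃ g : Co0, g • v = baseF ∧ g • z = baseU' ∧ g • x = baseU := by
  obtain ⟨g, g1, g2, g3⟩ := exists_normal_aux hv hx hz hvx hxz hvz
  exact ⟨g, g1, g3, g2⟩

theorem exists_aux_hs {z : GolayPt → ℤ} (hz : z ∈ leechLattice) (hn : sqNorm z = 32)
    (hd : dotInt z (baseF : GolayPt → ℤ) = 16) : ∃ t : leechLattice, sqNorm (t : GolayPt → ℤ) = 32 ∧
      dotInt (baseF : GolayPt → ℤ) (t : GolayPt → ℤ) = 24 ∧ dotInt z (t : GolayPt → ℤ) = 0 := by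
  have hA : ∀ i, i ≠ none → dotInt (baseF : GolayPt → ℤ) (fvA i : GolayPt → ℤ) = 24 := fun i hi => by
    rw [fvA, dotInt_pairVec]; simp [baseF, fiveFun, hi]
  have hB : ∀ {O}, O ∈ octads → none ∈ O →
      dotInt (baseF : GolayPt → ℤ) (octVec O ∅) = 24 := fun hO h => by
    rw [dotInt_comm, dotInt_baseF_octVec hO (Finset.empty_subset _)]
    simp [octVec, h]
  have useA : ∀ i, i ≠ none → z none + z i = 0 → _ := fun i hi h =>
    (⟨fvA i, sqNorm_pairVec (Ne.symm hi) _ (Or.inl rfl) (Or.inl rfl), hA i hi, by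
      rw [fvA, dotInt_pairVec]; omega⟩ : ∃ t : leechLattice, sqNorm (t : GolayPt → ℤ) = 32 ∧
      dotInt (baseF : GolayPt → ℤ) (t : GolayPt → ℤ) = 24 ∧ dotInt z (t : GolayPt → ℤ) = 0)
  rw [dotInt_baseF] at hd
  rcases min_shape hz hn with ⟨k, l, hkl, hk, hl, h0⟩ | ⟨o, M, ho, hMo, hMev, rfl⟩ |
    ⟨k, c, hc, hk, hrest, hres⟩
  · have hsum : ∑ i, z i = z k + z l := by
      rw [← Finset.sum_pair hkl]
      exact (Finset.sum_subset (Finset.subset_univ _) fun i _ hi => by
        simp only [Finset.mem_insert, Finset.mem_singleton, not_or] at hi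
        exact h0 i hi.1 hi.2).symm
    rw [hsum] at hd
    by_cases hkn : k = none
    · subst hkn
      refine useA l (Ne.symm hkl) ?_
      rcases hk with e | e <;> rcases hl with e' | e' <;> omega
    by_cases hln : l = none
    · subst hln
      refine useA k hkl ?_
      rcases hk with e | e <;> rcases hl with e' | e' <;> omega
    · exfalso
      rw [h0 none (Ne.symm hkn) (Ne.symm hln)] at hd
      rcases hk with e | e <;> rcases hl with e' | e' <;> omega
  · rw [sum_octVec ho hMo] at hd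
    by_cases hno : none ∈ o
    · have hnM : none ∉ M := fun h => by
        simp only [octVec, hno, h, if_true] at hd; omega
      simp only [octVec, hno, hnM, if_true, if_false] at hd
      obtain ⟨i, hi⟩ := Finset.card_pos.1 (show 0 < M.card by omega)
      refine useA i (fun e => hnM (e ▸ hi)) ?_
      simp [octVec, hno, hnM, hi, hMo hi]
    · simp only [octVec, hno, if_false] at hd
      have : M = ∅ := Finset.card_eq_zero.1 (by omega)
      subst this
      obtain ⟨O, hO, hdis, hnO⟩ := exists_disjoint_octad ho hno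
      refine ⟨⟨octVec O ∅, octVec_mem hO (by simp)⟩, sqNorm_octVec hO ∅, hB hO hnO, ?_⟩
      rw [dotInt_octVec, Finset.inter_empty, Finset.sum_empty,
        Finset.sum_congr rfl (g := fun _ => (0 : ℤ)) fun i hi => by
          simp [octVec, Finset.disjoint_left.1 hdis hi]]
      simp
  · rw [odd_sum hk hrest hres] at hd
    have hw := Golay.card_mem_weights hc
    by_cases hkn : k = none
    · subst hkn
      have hnc : none ∈ c := by
        by_contra h
        rw [if_neg h] at hd
        rcases hk with e | e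
        · exact h ((hres none).2 (by rw [e]; rfl))
        · omega
      rw [if_pos hnc] at hd
      have hv3 : z none = 3 := by
        have := (hres none).1 hnc; rcases hk with e | e <;> omega
      rw [hv3] at hd
      obtain ⟨O, hO, hnO, hcard⟩ := exists_octad_meet_dodecad (d := c) ⟨hc, by omega⟩ hnc
      refine ⟨⟨octVec O ∅, octVec_mem hO (by simp)⟩, sqNorm_octVec hO ∅, hB hO hnO, ?_⟩
      have hval : ∀ i ∈ O, z i =
          (1 - if i ∈ c then 2 else 0) + (if i = none then 4 else 0) := by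
        intro i _
        by_cases hi : i = none
        · subst hi; simp [hnc, hv3]
        · have := hres i
          rcases hrest i hi with e | e <;> rw [e] at this ⊢ <;> norm_num at this <;> simp [this, hi]
      rw [dotInt_octVec, Finset.inter_empty, Finset.sum_empty, Finset.sum_congr rfl hval,
        Finset.sum_add_distrib, Finset.sum_sub_distrib, Finset.sum_const, Finset.sum_ite_mem,
        Finset.sum_const, hcard, Finset.sum_ite_eq', if_pos hnO, show O.card = 8 from hO.2]
      norm_num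
    · have h1 := hrest none (Ne.symm hkn)
      obtain ⟨i, hi1, hi2, hi3⟩ : ∃ i, i ≠ none ∧ i ≠ k ∧ z none + z i = 0 := by
        by_contra hne
        push Not at hne
        have hsame : ∀ i, i ≠ k → (i ∈ c ↔ none ∈ c) := by
          intro i hik
          rw [hres i, hres none]
          by_cases hin : i = none
          · rw [hin]
          · have h2 := hne i hin hik
            rcases h1 with e | e <;> rcases hrest i hik with e' | e' <;> rw [e, e'] at h2 ⊢ <;>
              norm_num at h2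
        by_cases hn' : none ∈ c
        · have : Finset.univ.erase k ⊆ c := fun i hi =>
            (hsame i (Finset.mem_erase.1 hi).1).2 hn'
          have h23 := Finset.card_le_card this
          rw [Finset.card_erase_of_mem (Finset.mem_univ _), Finset.card_univ, card_pt] at h23
          have := (hres none).1 hn'
          split_ifs at hd <;> rcases h1 with e | e <;> omega
        · have : c ⊆ {k} := fun i hi => Finset.mem_singleton.2
            (by by_contra hik; exact hn' ((hsame i hik).1 hi))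
          have h1' := Finset.card_le_card this
          rw [Finset.card_singleton] at h1'
          have hnot := mt (hres none).2 hn'
          split_ifs at hd with hkc <;> rcases h1 with e | e <;> omega
      exact useA i hi1 hi3

theorem hs_sum {v w : leechLattice} (hv : sqNorm (v : GolayPt → ℤ) = 48)
    (hw : sqNorm (w : GolayPt → ℤ) = 48)
    (hvw : dotInt (v : GolayPt → ℤ) (w : GolayPt → ℤ) = -32) :
    sqNorm ((v + w : leechLattice) : GolayPt → ℤ) = 32 ∧
      dotInt (v : GolayPt → ℤ) ((v + w : leechLattice) : GolayPt → ℤ) = 16 := by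
  rw [AddSubgroup.coe_add]
  exact ⟨by rw [sqNorm_add, hv, hw, hvw]; norm_num,
    by rw [dotInt_add_right, ← sqNorm_eq_dotInt, hv, hvw]; norm_num⟩

/-- A Higman–Sims configuration. -/
theorem exists_normal_hs {v z : leechLattice} (hv : sqNorm (v : GolayPt → ℤ) = 48)
    (hz : sqNorm (z : GolayPt → ℤ) = 32)
    (hvz : dotInt (v : GolayPt → ℤ) (z : GolayPt → ℤ) = 16) :
    ∃ g : Co0, g • v = baseF ∧ g • z = baseU' := by
  obtain ⟨g, hg⟩ := exists_to_baseF golayUnique hv
  have hd := dot_smul_eq (rfl : g • z = _) hg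
  rw [dotInt_comm (z : GolayPt → ℤ), hvz] at hd
  obtain ⟨t, ht, h1, h2⟩ := exists_aux_hs (g • z).2 (by rw [sqNorm_smul, hz]) hd
  obtain ⟨k, k1, k2, -⟩ := exists_normal_hs_point (z := g • z) (x := t) sqNorm_baseF
    (by rw [sqNorm_smul, hz]) ht h1 ((dot_smul_eq hg rfl).trans hvz) (by rw [dotInt_comm]; exact h2)
  exact ⟨k * g, by rw [mul_smul, hg, k1], by rw [mul_smul, k2]⟩

end Cfsg.Agent.Leech
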