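import Cfsg.Agent.Lib.Leech.CrossMax
import Cfsg.Agent.Lib.Leech.Normal
import Cfsg.Agent.Lib.Golay.Mathieu
import Cfsg.Agent.Lib.SimpleStab.Basic

/-!
# The common stabiliser of `baseF`, `baseU`, `baseU'`, and a maximality criterion

* `stab3`, `exists_perm_of_stab3`, `stab3Equiv`, `natCard_stab3`, `isSimpleGroup_stab3`
* `isCoatom_subgroupOf_of_classes`, `isSimpleGroup_of_stab`
-/

set_option autoImplicit false

open scoped Pointwise

namespace Cfsg.Agent.Leech

open MulAction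

instance finite_co0Aut : Finite Co0 :=
  Nat.finite_of_card_ne_zero (by rw [card_co0]; norm_num)

/-- The stabiliser of the three base vectors. -/
def stab3 : Subgroup Co0 :=
  stabilizer Co0 baseF ⊓ stabilizer Co0 baseU ⊓ stabilizer Co0 baseU'

/-- The permutations fixing the two marked points. -/
def pointStab2 : Subgroup (Equiv.Perm GolayPt) :=
  M24 ⊓ stabilizer (Equiv.Perm GolayPt) (none : GolayPt) ⊓ stabilizer (Equiv.Perm GolayPt) pO

theorem stab3_fix {g : Co0} (h : g ∈ stab3) :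
    g • baseF = baseF ∧ g • baseU = baseU ∧ g • baseU' = baseU' :=
  ⟨mem_stabilizer_iff.1 h.1.1, mem_stabilizer_iff.1 h.1.2, mem_stabilizer_iff.1 h.2⟩

theorem permEl_mem_stab3 {σ : Equiv.Perm GolayPt} (hσ : σ ∈ M24) (h1 : σ none = none)
    (h2 : σ pO = pO) : permEl σ hσ ∈ stab3 := by
  refine ⟨⟨mem_stabilizer_iff.2 (permEl_smul_baseF hσ h1), mem_stabilizer_iff.2 ?_⟩,
    mem_stabilizer_iff.2 ?_⟩
  · rw [baseU, permEl_smul_pairVec]; simp only [h1, h2]
  · rw [baseU', permEl_smul_pairVec]; simp only [h1, h2]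

theorem exists_perm_of_stab3 {g : Co0} (h : g ∈ stab3) :
    ∃ (σ : Equiv.Perm GolayPt) (hσ : σ ∈ M24), σ none = none ∧ σ pO = pO ∧ g = permEl σ hσ := by
  obtain ⟨hF, hU, hU'⟩ := stab3_fix h
  obtain ⟨σ, hσ, c, hc, rfl⟩ := exists_mono_of_mem (mem_stdStab_of_fix hU hU')
  have e1 : ∀ v w : leechLattice, mono σ hσ c hc • v = w → ∀ i,
      (if i ∈ c then -(v : GolayPt → ℤ) (σ.symm i) else (v : GolayPt → ℤ) (σ.symm i)) =
        (w : GolayPt → ℤ) i := by
    intro v w e i
    rw [← e, vec_mono]; rfl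
  have hF' := e1 _ _ hF
  have hc0 : c = ∅ := by
    refine Finset.eq_empty_iff_forall_notMem.2 fun i hi => ?_
    have := hF' i
    rw [if_pos hi] at this
    simp only [baseF, fiveFun] at this
    split_ifs at this <;> omega
  subst hc0
  have s1 : σ none = none := by
    have := hF' none
    simp only [Finset.notMem_empty, if_false, baseF, fiveFun] at this
    by_contra hne
    rw [if_neg (fun e => hne (by rw [← e, Equiv.apply_symm_apply, e]))] at this
    simp at this
  refine ⟨σ, hσ, s1, ?_, rfl⟩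
  have := e1 _ _ hU (σ pO)
  simp only [Finset.notMem_empty, if_false, Equiv.symm_apply_apply, baseU, coe_pairVec,
    Pi.add_apply, Pi.single_apply] at this
  by_contra hne
  have hne1 : σ pO ≠ none := fun e => none_ne_pO (σ.injective (e.trans s1.symm)).symm
  simp [hne1, show ¬σ pO = some 0 from hne] at this

/-- The isomorphism with the stabiliser of two points in `M24`. -/
noncomputable def stab3Equiv : pointStab2 ≃* stab3 :=
  MulEquiv.ofBijective
    ({ toFun := fun σ => ⟨permEl σ.1 σ.2.1.1,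
        permEl_mem_stab3 σ.2.1.1 (mem_stabilizer_iff.1 σ.2.1.2) (mem_stabilizer_iff.1 σ.2.2)⟩
       map_one' := Subtype.ext (co0_ext fun v => Subtype.ext (funext fun i => by
        show ((permEl (1 : Equiv.Perm GolayPt) M24.one_mem • v : leechLattice) : GolayPt → ℤ) i =
          ((((1 : stab3) : Co0) • v : leechLattice) : GolayPt → ℤ) i
        rw [vec_permEl, OneMemClass.coe_one, one_smul]
        rfl))
       map_mul' := fun σ τ => Subtype.ext (co0_ext fun v => Subtype.ext (funext fun i => by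
        show ((permEl (σ.1 * τ.1) (mul_mem σ.2.1.1 τ.2.1.1) • v : leechLattice) : GolayPt → ℤ) i =
          (((permEl σ.1 σ.2.1.1 * permEl τ.1 τ.2.1.1) • v : leechLattice) : GolayPt → ℤ) i
        rw [mul_smul, vec_permEl, vec_permEl, vec_permEl]
        rfl)) } : pointStab2 →* stab3)
    ⟨fun σ τ h => Subtype.ext ((mono_injective (hσ := σ.2.1.1) (hτ := τ.2.1.1) (hc := Golay.empty_mem) (hd := Golay.empty_mem)
      (congrArg Subtype.val h)).1),
      fun g => by
        obtain ⟨σ, hσ, h1, h2, he⟩ := exists_perm_of_stab3 g.2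
        exact ⟨⟨σ, ⟨hσ, mem_stabilizer_iff.2 h1⟩, mem_stabilizer_iff.2 h2⟩, Subtype.ext he.symm⟩⟩

theorem natCard_stab3 : Nat.card stab3 = 443520 := by
  rw [← Nat.card_congr stab3Equiv.toEquiv]
  exact Golay.natCard_m22 none_ne_pO

theorem isSimpleGroup_stab3 : IsSimpleGroup stab3 :=
  @MulEquiv.isSimpleGroup _ _ _ _ (Golay.isSimpleGroup_m22 none_ne_pO) stab3Equiv.symm

/-- The monomial elements fixing a permutation point by point are trivial. -/
theorem eq_one_of_fix_all {σ : Equiv.Perm GolayPt} {hσ : σ ∈ M24} (h1 : σ none = none)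
    (h2 : σ pO = pO) (h : ∀ k, k ≠ none → k ≠ pO → σ k = k) : permEl σ hσ = 1 := by
  have : σ = 1 := Equiv.ext fun k => by
    by_cases a : k = none
    · subst a; exact h1
    by_cases b : k = pO
    · subst b; exact h2
    exact h k a b
  subst this
  refine co0_ext fun v => Subtype.ext (funext fun i => ?_)
  rw [vec_permEl, one_smul]; rfl

/-- Maximality of a point stabiliser from classes of its orbit. -/
theorem isCoatom_subgroupOf_of_classes {G X : Type*} [Group G] [Finite G] [MulAction G X]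
    (L : Subgroup G) (x : X) (M : Set X) (hM : M.Finite)
    (horb : {y | ∃ a ∈ L, a • x = y} = M) {n : ℕ} (i0 : Fin n) (C : Fin n → Set X)
    (hC : ∀ y ∈ M, ∃ i, y ∈ C i) (hdisj : ∀ y ∈ M, ∀ i j, y ∈ C i → y ∈ C j → i = j)
    (htrans : ∀ i, ∀ y ∈ M, ∀ z ∈ M, y ∈ C i → z ∈ C i → ∃ g ∈ L ⊓ stabilizer G x, g • y = z)
    (s : Fin n → ℕ) (hs : ∀ i, (M ∩ C i).ncard = s i) (hx : x ∈ C i0) (h1 : s i0 = 1) (hn : 1 < M.ncard)
    (hdiv : ∀ b : Fin n → Bool, b i0 = true → (∑ i, if b i then s i else 0) ∣ ∑ i, s i →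
      (∀ i, b i = true) ∨ ∀ i, b i = true → i = i0) :
    IsCoatom ((L ⊓ stabilizer G x).subgroupOf L) := by
  classical
  set S := L ⊓ stabilizer G x with hS
  have hL := ncard_orbit_mul L x
  rw [horb] at hL
  have hSne : S.subgroupOf L ≠ ⊤ := by
    rw [ne_eq, Subgroup.subgroupOf_eq_top]
    intro h
    have : Nat.card S = Nat.card L := by rw [show S = L from le_antisymm inf_le_left h]
    rw [this] at hL
    nlinarith [(Nat.card_pos : 0 < Nat.card L)]
  refine ⟨hSne, fun K hK => ?_⟩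
  set K' := K.map L.subtype with hK'
  have hK'L : K' ≤ L := Subgroup.map_subtype_le K
  have hSK : S ≤ K' := fun g hg =>
    ⟨⟨g, inf_le_left (a := L) hg⟩, hK.le hg, rfl⟩
  have hKS : K' ⊓ stabilizer G x = S :=
    le_antisymm (inf_le_inf_right _ hK'L) (le_inf hSK inf_le_right)
  set O := {y | ∃ a ∈ K', a • x = y} with hO
  have hOM : O ⊆ M := by
    rintro _ ⟨a, ha, rfl⟩
    exact horb ▸ ⟨a, hK'L ha, rfl⟩
  obtain ⟨b, hb, hsum⟩ := ncard_eq_sum_classes O M hM hOM C hC hdisj (by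
    rintro i _ ⟨a, ha, rfl⟩ hi y hy hy'
    obtain ⟨g, hg, he⟩ := htrans i _ (hOM ⟨a, ha, rfl⟩) y hy hi hy'
    exact ⟨g * a, mul_mem (hSK hg) ha, by rw [mul_smul, he]⟩)
  obtain ⟨c, hcM, hsumM⟩ := ncard_eq_sum_classes M M hM subset_rfl C hC hdisj
    (fun i _ _ _ y hy _ => hy)
  have hKcard := ncard_orbit_mul K' x
  rw [hKS] at hKcard
  have hdvd : O.ncard ∣ M.ncard := by
    have h := Subgroup.card_dvd_of_le hK'L
    rw [← hKcard, ← hL] at h
    exact (Nat.mul_dvd_mul_iff_right Nat.card_pos).1 h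
  have htot : M.ncard = ∑ i, s i := by
    rw [hsumM]
    refine Finset.sum_congr rfl fun i _ => ?_
    split_ifs with hc
    · exact hs i
    · rw [← hs i, eq_comm, Set.ncard_eq_zero (hM.subset Set.inter_subset_left)]
      refine Set.eq_empty_of_forall_notMem fun y hy => hc ?_
      exact (hcM i).2 ⟨y, hy.1, hy.2⟩
  have hb0 : b i0 = true := (hb i0).2 ⟨x, ⟨1, one_mem K', one_smul _ _⟩, hx⟩
  simp only [hs] at hsum
  rw [hsum, htot] at hdvd
  rcases hdiv b hb0 hdvd with h | h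
  · rw [eq_top_iff]
    rintro g -
    have hm : (g : G) • x ∈ M := horb ▸ ⟨g, g.2, rfl⟩
    obtain ⟨i, hi⟩ := hC _ hm
    obtain ⟨_, ⟨a, ha, rfl⟩, hai⟩ := (hb i).1 (h i)
    obtain ⟨e, he, hee⟩ := htrans i _ (hOM ⟨a, ha, rfl⟩) _ hm hai hi
    have hea : e * a ∈ K' := mul_mem (hSK he) ha
    have : (e * a)⁻¹ * (g : G) ∈ S := by
      refine Subgroup.mem_inf.2 ⟨mul_mem (inv_mem (hK'L hea)) g.2, mem_stabilizer_iff.2 ?_⟩
      rw [mul_smul, inv_smul_eq_iff, mul_smul, hee]
    have hg := mul_mem hea (hSK this)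
    rw [mul_inv_cancel_left] at hg
    obtain ⟨k, hk, hke⟩ := hg
    exact (Subtype.ext hke : k = g) ▸ hk
  · exfalso
    refine hK.not_ge fun k hk => ?_
    have hmem : (k : G) • x ∈ O := ⟨k, ⟨k, hk, rfl⟩, rfl⟩
    obtain ⟨i, hi⟩ := hC _ (hOM hmem)
    have hi0 := h i ((hb i).2 ⟨_, hmem, hi⟩)
    subst hi0
    have hxM : x ∈ M := horb ▸ ⟨1, one_mem L, one_smul _ _⟩
    obtain ⟨e, he, hee⟩ := htrans _ x hxM _ (hOM hmem) hx hi
    rw [mem_stabilizer_iff.1 he.2] at hee
    exact ⟨k.2, mem_stabilizer_iff.2 hee.symm⟩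

theorem isCoatom_core {G X : Type*} [Group G] [MulAction G X] (L : Subgroup G) (x : X)
    (hfix : ∀ g ∈ L, (∀ a ∈ L, g • a • x = a • x) → g = 1) :
    ((L ⊓ stabilizer G x).subgroupOf L).normalCore = ⊥ := by
  rw [Subgroup.eq_bot_iff_forall]
  intro g hg
  refine Subtype.ext (hfix g g.2 fun a ha => ?_)
  have h := hg ⟨a, ha⟩⁻¹
  rw [inv_inv] at h
  have h2 : (a⁻¹ * (g : G) * a) • x = x := mem_stabilizer_iff.1 h.2
  rw [mul_smul, mul_smul, inv_smul_eq_iff] at h2
  exact h2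

/-- Simplicity and order of a group transitive on a classified set with a simple stabiliser. -/
theorem isSimpleGroup_of_stab {G X : Type*} [Group G] [Finite G] [MulAction G X]
    (L : Subgroup G) (x : X) (M : Set X) (horb : {y | ∃ a ∈ L, a • x = y} = M)
    (hco : IsCoatom ((L ⊓ stabilizer G x).subgroupOf L))
    (hfix : ∀ g ∈ L, (∀ y ∈ M, g • y = y) → g = 1)
    [IsSimpleGroup ↥(L ⊓ stabilizer G x)]
    (hchar : ∀ N : Subgroup L, Nat.card N = M.ncard →
      ∃ K : Subgroup N, K.Characteristic ∧ K ≠ ⊥ ∧ K ≠ ⊤) : IsSimpleGroup L := by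
  have : IsSimpleGroup ((L ⊓ stabilizer G x).subgroupOf L) :=
    (Subgroup.subgroupOfEquivOfLe inf_le_left).isSimpleGroup
  refine SimpleStab.isSimpleGroup_of_simple_coatom _ hco
    (isCoatom_core L x fun g hg h => hfix g hg fun y hy => ?_) M.ncard ?_ hchar
  · obtain ⟨a, ha, rfl⟩ : y ∈ {y | ∃ a ∈ L, a • x = y} := horb ▸ hy
    exact h a ha
  · have h1 := ncard_orbit_mul L x
    rw [horb] at h1
    have h2 := Subgroup.index_mul_card ((L ⊓ stabilizer G x).subgroupOf L)
    rw [Nat.card_congr (Subgroup.subgroupOfEquivOfLe inf_le_left).toEquiv, ← h1] at h2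
    exact Nat.eq_of_mul_eq_mul_right Nat.card_pos h2

end Cfsg.Agent.Leech
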