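import Cfsg.Agent.Lib.Leech.Co1Simple
import Cfsg.Agent.Lib.Leech.StabM22

/-!
# The stabiliser of a minimal vector is simple

* `co2Group`, `natCard_co2Group`, `isSimpleGroup_co2Group`
-/

set_option autoImplicit false

open scoped Pointwise symmDiff commutatorElement

namespace Cfsg.Agent.Leech

open MulAction

/-- The stabiliser of `baseU`. -/
def co2Group : Subgroup Co0 := stabilizer Co0 baseU

theorem co2_fix {g : Co0} (h : g ∈ co2Group) : g • baseU = baseU := mem_stabilizer_iff.1 h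

theorem stabU_le : stabU ≤ co2Group := inf_le_right

/-- The monomial part of `co2Group`. -/
def co2H : Subgroup co2Group := stabU.subgroupOf co2Group

/-- The sign changes in `co2Group`. -/
def co2E : Subgroup co2Group := signGroup.subgroupOf co2Group

theorem natCard_co2Group : Nat.card co2Group = 42305421312000 := by
  have h := ncard_orbit_mul (⊤ : Subgroup Co0) baseU
  rw [show {y | ∃ a ∈ (⊤ : Subgroup Co0), a • baseU = y} = minSet from
    Set.Subset.antisymm (by rintro _ ⟨a, -, rfl⟩; show sqNorm _ = 32; rw [sqNorm_smul, sqNorm_baseU])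
      fun y hy => (transitive32 golayUnique sqNorm_baseU hy).imp fun g h => ⟨trivial, h⟩,
    show minSet.ncard = 196560 from ncard_min, Subgroup.card_top, card_co0, top_inf_eq] at h
  show Nat.card (stabilizer Co0 baseU) = _
  omega

theorem co2_orbit : {y | ∃ a ∈ co2Group, a • baseU' = y} = orthU := by
  ext y
  constructor
  · rintro ⟨a, ha, rfl⟩; exact smul_mem_orthU (co2_fix ha) baseU'_mem
  · intro hy
    obtain ⟨g, g1, g2⟩ := exists_to_orth_pair golayUnique sqNorm_baseU hy.1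
      (by rw [dotInt_comm]; exact hy.2)
    exact ⟨g⁻¹, mem_stabilizer_iff.2 (inv_smul_eq_iff.2 g1.symm), inv_smul_eq_iff.2 g2.symm⟩

theorem baseU'_mem_class0 : baseU' ∈ orthClass 0 := ⟨isPair_baseU', by decide +kernel⟩

theorem co2_inf_le : co2Group ⊓ stabilizer Co0 baseU' ≤ stabU := fun _ hg =>
  ⟨mem_stdStab_of_fix (co2_fix hg.1) (mem_stabilizer_iff.1 hg.2), hg.1⟩

theorem neg_baseU' : -baseU' = pairVec pO none 1 (-1) (by norm_num) := by
  refine Subtype.ext ?_
  decide +kernel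

theorem stabU_baseU' {g : Co0} (hg : g ∈ stabU) : g • baseU' = baseU' ∨ g • baseU' = -baseU' := by
  rw [neg_baseU']
  have hm : g • baseU' ∈ orthU := smul_mem_orthU (stabU_mem hg).2 baseU'_mem
  obtain ⟨σ, hσ, c, hc, rfl⟩ := exists_mono_of_mem (stabU_mem hg).1
  -- the image is a pair meeting `∞`
  have hU := congrArg (fun v : leechLattice => (v : GolayPt → ℤ)) (stabU_mem hg).2
  have hu := congrFun hU none
  have hu0 := congrFun hU pO
  simp only [vec_mono, signedPerm] at hu hu0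
  have key : ∀ i, (baseU : GolayPt → ℤ) i = 0 → (baseU' : GolayPt → ℤ) i = 0 := by decide +kernel
  have e4 : (baseU : GolayPt → ℤ) none = 4 := by decide +kernel
  refine mem_baseU'_or hm ?_ ?_
  · refine ⟨σ none, σ pO, fun e => none_ne_pO (σ.injective e), ?_, ?_, fun i a b => ?_⟩
    · rw [vec_mono, signedPerm, Equiv.symm_apply_apply]
      have : (baseU' : GolayPt → ℤ) none = 4 := by decide +kernel
      rw [this]; split_ifs <;> simp
    · rw [vec_mono, signedPerm, Equiv.symm_apply_apply]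
      have : (baseU' : GolayPt → ℤ) pO = -4 := by decide +kernel
      rw [this]; split_ifs <;> simp
    · rw [vec_mono, signedPerm]
      have : (baseU' : GolayPt → ℤ) (σ.symm i) = 0 := by
        have h0 : ∀ p, p ≠ none → p ≠ pO → (baseU' : GolayPt → ℤ) p = 0 := by decide +kernel
        exact h0 _ (fun e => a (by rw [← e, Equiv.apply_symm_apply]))
          (fun e => b (by rw [← e, Equiv.apply_symm_apply]))
      rw [this]; simp
  · rw [vec_mono, signedPerm]
    rw [e4] at hu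
    intro h
    split_ifs at h hu with hc'
    · have := key (σ.symm none)
      have h2 : (baseU' : GolayPt → ℤ) (σ.symm none) = 0 := by omega
      have h3 : ∀ i, (baseU : GolayPt → ℤ) i ≠ 0 → (baseU' : GolayPt → ℤ) i ≠ 0 := by decide +kernel
      exact h3 (σ.symm none) (by omega) h2
    · have h3 : ∀ i, (baseU : GolayPt → ℤ) i ≠ 0 → (baseU' : GolayPt → ℤ) i ≠ 0 := by decide +kernel
      exact h3 (σ.symm none) (by omega) h

/-- Elements of `stabU` in coordinates. -/
theorem exists_of_stabU {g : Co0} (hg : g ∈ stabU) :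
    ∃ (σ : Equiv.Perm GolayPt) (hσ : σ ∈ M24) (c : Finset GolayPt)
      (hc : c ∈ supports (golayCode : Set (GolayPt → ZMod 2))),
      g = signEl c hc * permEl σ hσ ∧ none ∉ c ∧ pO ∉ c ∧
        ((σ none = none ∧ σ pO = pO) ∨ (σ none = pO ∧ σ pO = none)) := by
  obtain ⟨hs, hU⟩ := stabU_mem hg
  obtain ⟨σ, hσ, c, hc, rfl⟩ := exists_mono_of_mem hs
  have e := congrArg (fun v : leechLattice => (v : GolayPt → ℤ)) hU
  have hi := fun i => congrFun e (σ i)
  simp only [vec_mono, signedPerm, Equiv.symm_apply_apply] at hi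
  have hb : ∀ i, (baseU : GolayPt → ℤ) i = if i = none ∨ i = pO then 4 else 0 := by decide +kernel
  have h1 := hi none
  have h2 := hi pO
  rw [hb none, if_pos (Or.inl rfl), hb (σ none)] at h1
  rw [hb pO, if_pos (Or.inr rfl), hb (σ pO)] at h2
  have k1 : (σ none = none ∨ σ none = pO) ∧ σ none ∉ c := by
    split_ifs at h1 with a b <;> first | omega | exact ⟨‹_›, ‹_›⟩
  have k2 : (σ pO = none ∨ σ pO = pO) ∧ σ pO ∉ c := by
    split_ifs at h2 with a b <;> first | omega | exact ⟨‹_›, ‹_›⟩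
  have hne : σ none ≠ σ pO := fun e => none_ne_pO (σ.injective e)
  refine ⟨σ, hσ, c, hc, mono_eq_signEl_mul hσ hc, ?_⟩
  rcases k1.1 with a | a <;> rcases k2.1 with b | b
  · exact absurd (a.trans b.symm) hne
  · exact ⟨a ▸ k1.2, b ▸ k2.2, Or.inl ⟨a, b⟩⟩
  · exact ⟨b ▸ k2.2, a ▸ k1.2, Or.inr ⟨a, b⟩⟩
  · exact absurd (a.trans b.symm) hne

/-- Maximality. -/
theorem isCoatom_co2H : IsCoatom co2H := by
  classical
  have hL := ncard_orbit_mul co2Group baseU'
  rw [co2_orbit, ncard_orthU] at hL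
  refine ⟨fun h => ?_, fun K hK => ?_⟩
  · rw [co2H, Subgroup.subgroupOf_eq_top] at h
    obtain ⟨g, hg, he⟩ : pairVec pI pII 1 1 (by norm_num) ∈
        {y | ∃ a ∈ co2Group, a • baseU' = y} := by
      rw [co2_orbit]
      exact ⟨by decide +kernel, by decide +kernel⟩
    rcases stabU_baseU' (h hg) with e | e <;> rw [he] at e <;>
      exact absurd (congrArg (fun v : leechLattice => (v : GolayPt → ℤ) pI) e) (by decide +kernel)
  set K' := K.map co2Group.subtype
  have hK'L : K' ≤ co2Group := Subgroup.map_subtype_le K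
  have hSK : stabU ≤ K' := fun g hg =>
    ⟨⟨g, stabU_le hg⟩, hK.le (Subgroup.mem_subgroupOf.2 hg), rfl⟩
  set O := {y | ∃ a ∈ K', a • baseU' = y}
  have hOM : O ⊆ orthU := by
    rintro _ ⟨a, ha, rfl⟩; exact smul_mem_orthU (co2_fix (hK'L ha)) baseU'_mem
  obtain ⟨b, hb, hsum⟩ := ncard_eq_sum_classes O orthU finite_orthU hOM orthClass
    (fun y hy => orthClass_cover hy) (fun y _ i j => orthClass_disjoint i j) (by
      rintro i _ ⟨a, ha, rfl⟩ hi y hy hy'
      obtain ⟨g, hg, he⟩ := orth_orbit i ⟨hOM ⟨a, ha, rfl⟩, hi⟩ ⟨hy, hy'⟩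
      exact ⟨g * a, mul_mem (hSK hg) ha, by rw [mul_smul, he]⟩)
  have hb0 : b 0 = true := (hb 0).2 ⟨baseU', ⟨1, one_mem K', one_smul _ _⟩, baseU'_mem_class0⟩
  have hinf : K' ⊓ stabilizer Co0 baseU' = co2Group ⊓ stabilizer Co0 baseU' :=
    le_antisymm (inf_le_inf_right _ hK'L) (le_inf (co2_inf_le.trans hSK) inf_le_right)
  have hKc := ncard_orbit_mul K' baseU'
  rw [hinf] at hKc
  have hdvd : O.ncard ∣ 93150 := by
    have h := Subgroup.card_dvd_of_le hK'L
    rw [← hKc, ← hL] at h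
    exact (Nat.mul_dvd_mul_iff_right Nat.card_pos).1 h
  rw [hsum] at hdvd
  simp only [Fin.sum_univ_five, hb0, if_true, ncard_class0, ncard_class1, ncard_class2,
    ncard_class3, ncard_class4] at hdvd
  have hcases : (b 1 = true ∧ b 2 = true ∧ b 3 = true ∧ b 4 = true) ∨
      (b 1 = false ∧ b 2 = false ∧ b 3 = false ∧ b 4 = false) := by
    revert hdvd
    generalize b 1 = p, b 2 = q, b 3 = r, b 4 = s
    revert p q r s
    decide +kernel
  have hmove : ∀ (a : Co0), a ∈ co2Group → ∀ y ∈ O, ∀ i, y ∈ orthClass i →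
      a • baseU' ∈ orthClass i → a ∈ K' := by
    rintro a ha _ ⟨k, hk, rfl⟩ i hi hai
    obtain ⟨e, he, hee⟩ := orth_orbit i ⟨hOM ⟨k, hk, rfl⟩, hi⟩
      ⟨smul_mem_orthU (co2_fix ha) baseU'_mem, hai⟩
    have hek : e * k ∈ K' := mul_mem (hSK he) hk
    have : (e * k)⁻¹ * a ∈ co2Group ⊓ stabilizer Co0 baseU' :=
      Subgroup.mem_inf.2 ⟨mul_mem (inv_mem (hK'L hek)) ha,
        mem_stabilizer_iff.2 (by rw [mul_smul, inv_smul_eq_iff, mul_smul, hee])⟩
    have hh := mul_mem hek (hSK (co2_inf_le this))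
    rwa [mul_inv_cancel_left] at hh
  rcases hcases with h | h
  · rw [eq_top_iff]
    rintro g -
    obtain ⟨i, hi⟩ := orthClass_cover (smul_mem_orthU (co2_fix g.2) baseU'_mem)
    obtain ⟨y, hy, hyi⟩ := (hb i).1 (by fin_cases i <;> simp [hb0, h])
    obtain ⟨k, hk, hke⟩ := hmove g g.2 y hy i hyi hi
    exact (Subtype.ext hke : k = g) ▸ hk
  · exfalso
    refine hK.not_ge fun k hk => Subgroup.mem_subgroupOf.2 ?_
    have hm : (k : Co0) • baseU' ∈ O := ⟨k, ⟨k, hk, rfl⟩, rfl⟩
    obtain ⟨i, hi⟩ := orthClass_cover (hOM hm)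
    have hbi := (hb i).2 ⟨_, hm, hi⟩
    have hi0 : i = 0 := by fin_cases i <;> simp [h] at hbi ⊢
    subst hi0
    obtain ⟨e, he, hee⟩ := orth_orbit 0 ⟨baseU'_mem, baseU'_mem_class0⟩ ⟨hOM hm, hi⟩
    have : e⁻¹ * (k : Co0) ∈ co2Group ⊓ stabilizer Co0 baseU' :=
      Subgroup.mem_inf.2 ⟨mul_mem (inv_mem (stabU_le he)) k.2,
        mem_stabilizer_iff.2 (by rw [mul_smul, inv_smul_eq_iff, hee])⟩
    simpa using mul_mem he (co2_inf_le this)

theorem perm_eq_one_of_fix {σ : Equiv.Perm GolayPt} (hσ : σ ∈ M24)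
    (h : ∀ k, k ≠ none → k ≠ pO → σ k = k) : σ = 1 := by
  obtain ⟨o, ho, h1, h2⟩ := exists_octad_sep none_ne_pO
  have heq : σ • o = o := by
    refine Golay.octad_eq_of_five (Golay.smul_mem_octads hσ ho) ho ?_
    have h7 : (o.erase none).card = 7 := by rw [Finset.card_erase_of_mem h1, ho.2]
    refine le_trans (by omega) (Finset.card_le_card (t := σ • o ∩ o) (s := o.erase none) fun k hk => ?_)
    obtain ⟨k1, k2⟩ := Finset.mem_erase.1 hk
    refine Finset.mem_inter.2 ⟨?_, k2⟩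
    have e := h k k1 (fun e => h2 (e ▸ k2))
    rw [← e, ← Equiv.Perm.smul_def]
    exact Finset.smul_mem_smul_finset k2
  have hn : σ none = none := by
    by_contra hne
    have hmem : σ none ∈ o := heq ▸ (Finset.smul_mem_smul_finset h1 : σ • none ∈ σ • o)
    exact hne (σ.injective (h _ hne fun e => h2 (e ▸ hmem))).symm.symm
  refine Equiv.ext fun k => ?_
  by_cases a : k = none
  · subst a; exact hn
  by_cases b : k = pO
  · subst b
    by_contra hne
    exact hne (σ.injective (h _ (fun e => none_ne_pO (σ.injective (hn.trans e.symm))) hne))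
  exact h k a b

theorem pairVec_mem_orthU {i j : GolayPt} (hij : i ≠ j) (i1 : i ≠ none) (i2 : i ≠ pO)
    (j1 : j ≠ none) (j2 : j ≠ pO) : pairVec i j 1 1 (by norm_num) ∈ orthU := by
  refine ⟨sqNorm_pairVec hij _ (Or.inl rfl) (Or.inl rfl), ?_⟩
  rw [dotInt_baseU]
  simp [coe_pairVec, Ne.symm i1, Ne.symm i2, Ne.symm j1, Ne.symm j2]

/-- A normal subgroup inside the monomial part is trivial. -/
theorem eq_bot_of_le_co2H {M : Subgroup co2Group} (hM : M.Normal) (h : M ≤ co2H) : M = ⊥ := by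
  classical
  rw [Subgroup.eq_bot_iff_forall]
  intro m hm
  have hpm : ∀ z ∈ orthU, (m : Co0) • z = z ∨ (m : Co0) • z = -z := by
    intro z hz
    obtain ⟨g, hg, rfl⟩ : z ∈ {y | ∃ a ∈ co2Group, a • baseU' = y} := co2_orbit.symm ▸ hz
    have hc : (g⁻¹ * (m : Co0) * g : Co0) ∈ stabU := by
      have := hM.conj_mem m hm ⟨g⁻¹, inv_mem hg⟩
      have h2 := Subgroup.mem_subgroupOf.1 (h this)
      simpa using h2
    have e : (m : Co0) • g • baseU' = g • ((g⁻¹ * (m : Co0) * g) • baseU') := by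
      rw [mul_smul, mul_smul, smul_inv_smul]
    rw [e]
    rcases stabU_baseU' hc with u | u <;> rw [u]
    · exact Or.inl rfl
    · exact Or.inr (smul_vneg g baseU')
  obtain ⟨σ, hσ, c, hc, hg, c1, c2, hsw⟩ := exists_of_stabU (Subgroup.mem_subgroupOf.1 (h hm))
  have himg : ∀ i j, i ≠ j → i ≠ none → i ≠ pO → j ≠ none → j ≠ pO → ∀ p,
      (if p ∈ c then -((pairVec (σ i) (σ j) 1 1 (by norm_num) : leechLattice) : GolayPt → ℤ) p
        else ((pairVec (σ i) (σ j) 1 1 (by norm_num) : leechLattice) : GolayPt → ℤ) p) =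
        ((pairVec i j 1 1 (by norm_num) : leechLattice) : GolayPt → ℤ) p ∨
      (if p ∈ c then -((pairVec (σ i) (σ j) 1 1 (by norm_num) : leechLattice) : GolayPt → ℤ) p
        else ((pairVec (σ i) (σ j) 1 1 (by norm_num) : leechLattice) : GolayPt → ℤ) p) =
        -((pairVec i j 1 1 (by norm_num) : leechLattice) : GolayPt → ℤ) p := by
    intro i j hij i1 i2 j1 j2 p
    have e' : (((m : Co0) • pairVec i j 1 1 (by norm_num) : leechLattice) : GolayPt → ℤ) p =
        (if p ∈ c then -((pairVec (σ i) (σ j) 1 1 (by norm_num) : leechLattice) : GolayPt → ℤ) p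
          else ((pairVec (σ i) (σ j) 1 1 (by norm_num) : leechLattice) : GolayPt → ℤ) p) := by
      rw [hg, mul_smul, permEl_smul_pairVec, vec_signEl]
    rcases hpm _ (pairVec_mem_orthU hij i1 i2 j1 j2) with e | e
    · exact Or.inl (by rw [← e', e])
    · exact Or.inr (by rw [← e', e, AddSubgroup.coe_neg, Pi.neg_apply])
  have hfix : ∀ k, k ≠ none → k ≠ pO → σ k = k := by
    intro k k1 k2
    obtain ⟨a, ha, b, hb, hab⟩ := Finset.one_lt_card.1
      (show 1 < ({none, pO, k} : Finset GolayPt)ᶜ.card by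
        have := Finset.card_le_three (a := (none : GolayPt)) (b := pO) (c := k)
        rw [Finset.card_compl, card_pt]; omega)
    simp only [Finset.mem_compl, Finset.mem_insert, Finset.mem_singleton, not_or] at ha hb
    have hin : ∀ j, k ≠ j → j ≠ none → j ≠ pO → σ k = k ∨ σ k = j := by
      intro j hkj j1 j2
      by_contra hne
      rw [not_or] at hne
      rcases himg k j hkj k1 k2 j1 j2 (σ k) with e | e <;>
        simp [coe_pairVec, hne.1, hne.2, hkj] at e <;> split_ifs at e <;> omega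
    rcases hin a (Ne.symm ha.2.2) ha.1 ha.2.1 with e | e
    · exact e
    · rcases hin b (Ne.symm hb.2.2) hb.1 hb.2.1 with e' | e'
      · exact e'
      · exact absurd (e.symm.trans e') hab
  have hσ1 := perm_eq_one_of_fix hσ hfix
  subst hσ1
  have hs1 : ∀ q, (Equiv.symm (1 : Equiv.Perm GolayPt)) q = q := fun _ => rfl
  have hagree : ∀ i j, i ≠ j → i ≠ none → i ≠ pO → j ≠ none → j ≠ pO → (i ∈ c → j ∈ c) := by
    intro i j hij i1 i2 j1 j2 hi
    by_contra hj
    rcases hpm _ (pairVec_mem_orthU hij i1 i2 j1 j2) with e | e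
    · have := congrArg (fun v : leechLattice => (v : GolayPt → ℤ) i) e
      rw [hg] at this
      simp [mul_smul, vec_signEl, vec_permEl, coe_pairVec, hi, hij, hs1] at this
    · have := congrArg (fun v : leechLattice => (v : GolayPt → ℤ) j) e
      rw [hg] at this
      simp [mul_smul, vec_signEl, vec_permEl, coe_pairVec, hj, Ne.symm hij, hs1] at this
  have hc0 : c = ∅ := by
    by_contra hne
    obtain ⟨i, hi⟩ := Finset.nonempty_iff_ne_empty.2 hne
    have e : c = ({none, pO} : Finset GolayPt)ᶜ := by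
      ext j
      simp only [Finset.mem_compl, Finset.mem_insert, Finset.mem_singleton, not_or]
      refine ⟨fun hj => ⟨fun e => c1 (e ▸ hj), fun e => c2 (e ▸ hj)⟩, fun hj => ?_⟩
      by_cases hij : i = j
      · exact hij ▸ hi
      exact hagree i j hij (fun e => c1 (e ▸ hi)) (fun e => c2 (e ▸ hi)) hj.1 hj.2 hi
    obtain ⟨w, hw, hs⟩ := id hc
    have := code_weight hw
    rw [hs, e, Finset.card_compl, Finset.card_pair none_ne_pO, card_pt] at this
    omega
  subst hc0
  refine Subtype.ext ?_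
  rw [hg, signEl_empty, one_mul]
  exact co0_ext fun v => Subtype.ext (funext fun i => by
    show _ = (((1 : Co0) • v : leechLattice) : GolayPt → ℤ) i
    rw [vec_permEl, one_smul]; rfl)

theorem signEl_mem_co2 {c : Finset GolayPt}
    (hc : c ∈ supports (golayCode : Set (GolayPt → ZMod 2))) (h1 : none ∉ c) (h2 : pO ∉ c) :
    signEl c hc ∈ co2Group := stabU_le (signEl_mem_stabU hc h1 h2)

theorem co2E_comm {a b : co2Group} (ha : a ∈ co2E) (hb : b ∈ co2E) : a * b = b * a :=
  Subtype.ext (signGroup_comm (Subgroup.mem_subgroupOf.1 ha) (Subgroup.mem_subgroupOf.1 hb))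

theorem conj_mem_co2E {h e : co2Group} (hh : h ∈ co2H) (he : e ∈ co2E) :
    h * e * h⁻¹ ∈ co2E :=
  Subgroup.mem_subgroupOf.2
    (conj_mem_signGroup (stabU_mem (Subgroup.mem_subgroupOf.1 hh)).1 (Subgroup.mem_subgroupOf.1 he))

/-- Permutations fixing the two special points as elements of `co2Group`. -/
def pointHom : pointStab2 →* co2Group :=
  MonoidHom.codRestrict
    (permHom.comp (Subgroup.inclusion (show pointStab2 ≤ M24 from fun _ h => h.1.1))) co2Group
    fun σ => stabU_le (permEl_mem_stabU (σ := σ.1) σ.2.1.1 (Or.inl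
      ⟨mem_stabilizer_iff.1 σ.2.1.2, mem_stabilizer_iff.1 σ.2.2⟩))

theorem coe_pointHom (σ : pointStab2) :
    ((pointHom σ : co2Group) : Co0) = permEl σ.1 σ.2.1.1 := rfl

theorem exists_map_four_fix {a p q : GolayPt} (ha : a ≠ none ∧ a ≠ pO) (hp : p ≠ none ∧ p ≠ pO)
    (hq : q ≠ none ∧ q ≠ pO) (hpa : a ≠ p) (hqa : a ≠ q) :
    ∃ τ ∈ M24, τ none = none ∧ τ pO = pO ∧ τ a = a ∧ τ p = q := by
  have := Golay.five_transitive
  have h4 : MulAction.IsMultiplyPretransitive M24 GolayPt 4 :=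
    MulAction.isMultiplyPretransitive_of_le (n := 5) (by norm_num) (by simp)
  have hi : ∀ p : GolayPt, p ≠ none ∧ p ≠ pO → a ≠ p → Function.Injective ![none, pO, a, p] := by
    intro p hp hpa i j
    fin_cases i <;> fin_cases j <;> simp [none_ne_pO, none_ne_pO.symm, ha.1, ha.2, ha.1.symm,
      ha.2.symm, hp.1, hp.2, hp.1.symm, hp.2.symm, hpa, hpa.symm]
  obtain ⟨τ, hτ⟩ := h4.exists_smul_eq (⟨![none, pO, a, p], hi p hp hpa⟩ : Fin 4 ↪ GolayPt)
    ⟨![none, pO, a, q], hi q hq hqa⟩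
  refine ⟨τ, τ.2, ?_, ?_, ?_, ?_⟩
  · simpa [Subgroup.smul_def, Equiv.Perm.smul_def] using DFunLike.congr_fun hτ 0
  · simpa [Subgroup.smul_def, Equiv.Perm.smul_def] using DFunLike.congr_fun hτ 1
  · simpa [Subgroup.smul_def, Equiv.Perm.smul_def] using DFunLike.congr_fun hτ 2
  · simpa [Subgroup.smul_def, Equiv.Perm.smul_def] using DFunLike.congr_fun hτ 3

/-- A permutation exchanging the two points does not centralise their stabiliser. -/
theorem exists_commutator_ne {σ : Equiv.Perm GolayPt} (hσ : σ ∈ M24) (h1 : σ none = pO)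
    (h2 : σ pO = none) : ∃ τ ∈ M24, τ none = none ∧ τ pO = pO ∧ σ * τ * σ⁻¹ * τ⁻¹ ≠ 1 := by
  obtain ⟨k, k1, k2, hk⟩ : ∃ k, k ≠ none ∧ k ≠ pO ∧ σ k ≠ k := by
    by_contra hne
    push Not at hne
    rw [perm_eq_one_of_fix hσ hne] at h1
    exact none_ne_pO h1
  have hs : σ k ≠ none ∧ σ k ≠ pO :=
    ⟨fun e => k2 (σ.injective (e.trans h2.symm)), fun e => k1 (σ.injective (e.trans h1.symm))⟩
  obtain ⟨q, hq⟩ : (({none, pO, k, σ k} : Finset GolayPt)ᶜ).Nonempty := Finset.card_pos.1 (by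
    have := Finset.card_le_four (a := (none : GolayPt)) (b := pO) (c := k) (d := σ k)
    rw [Finset.card_compl, card_pt]; omega)
  simp only [Finset.mem_compl, Finset.mem_insert, Finset.mem_singleton, not_or] at hq
  obtain ⟨τ, hτ, t1, t2, t3, t4⟩ :=
    exists_map_four_fix ⟨k1, k2⟩ hs ⟨hq.1, hq.2.1⟩ (Ne.symm hk) (Ne.symm hq.2.2.1)
  refine ⟨τ, hτ, t1, t2, fun e => hq.2.2.2 ?_⟩
  rw [mul_inv_eq_one, mul_inv_eq_iff_eq_mul] at e
  have := Equiv.ext_iff.1 e k
  simp only [Equiv.Perm.mul_apply, t3, t4] at this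
  exact this.symm

/-- The generators of the code words avoiding the two points. -/
def subRows : List ℕ :=
  [0x293e, 0x527c, 0x8dc6, 0x11b8c, 0x21e26, 0x41572, 0x803da, 0x1007b4, 0x200f68, 0x401ed0]

theorem subRows_check :
    Golay.allSpan (fun m => m.testBit (Golay.idx none) || m.testBit (Golay.idx pO) ||
      (List.range 1024).any fun x => Golay.encAux subRows x == m) Golay.rows 0 = true ∧
    (subRows.all fun r => Golay.isCode r && Golay.popcount r == 8 &&
      !r.testBit (Golay.idx none) && !r.testBit (Golay.idx pO)) = true := by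
  decide +kernel

theorem signEl_mem_commutator {O : Finset GolayPt} (hO : O ∈ octads) (h1 : none ∉ O)
    (h2 : pO ∉ O) : (⟨signEl O hO.1, signEl_mem_co2 hO.1 h1 h2⟩ : co2Group) ∈ commutator co2Group := by
  have hA : ∀ m : ℕ, m = 0x293e ∨ m = 0x527c → Golay.isCode m = true ∧ Golay.popcount m = 8 ∧
      none ∉ Golay.pts m ∧ pO ∉ Golay.pts m := by
    intro m hm; rcases hm with rfl | rfl <;> decide +kernel
  obtain ⟨a1, a8, a2, a3⟩ := hA _ (Or.inl rfl)
  obtain ⟨b1, b8, b2, b3⟩ := hA _ (Or.inr rfl)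
  have hoA : Golay.pts 0x293e ∈ octads := Golay.pts_mem_octads (by simp [a1, a8])
  have hoB : Golay.pts 0x527c ∈ octads := Golay.pts_mem_octads (by simp [b1, b8])
  have h4 : (Golay.pts 0x293e ∩ Golay.pts 0x527c).card = 4 := by decide +kernel
  obtain ⟨π, hπ, e, p1, p2⟩ := exists_map_octad_two hoA hO a2 a3 none_ne_pO h1 h2 none_ne_pO
  have hB : π • Golay.pts 0x527c ∈ octads := Golay.smul_mem_octads hπ hoB
  have hBn : none ∉ π • Golay.pts 0x527c := by
    rw [← p1, ← Equiv.Perm.smul_def, Finset.smul_mem_smul_finset_iff]; exact b2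
  have hBp : pO ∉ π • Golay.pts 0x527c := by
    rw [← p2, ← Equiv.Perm.smul_def, Finset.smul_mem_smul_finset_iff]; exact b3
  set o := π • Golay.pts 0x527c
  have ho' : o ∆ O ∈ octads := ⟨Golay.symmDiff_mem hB.1 hO.1, by
    have hi : (o ∩ O).card = 4 := by
      rw [← e, show o = π • Golay.pts 0x527c from rfl, ← Finset.smul_finset_inter,
        Finset.card_smul_finset, Finset.inter_comm, h4]
    have := Golay.card_symmDiff_add o O
    rw [show o.card = 8 from hB.2, show O.card = 8 from hO.2, hi] at this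
    omega⟩
  obtain ⟨σ, hσ, hσo, s1, s2⟩ := exists_map_octad_two (p := none) (q := pO) (p' := none) (q' := pO)
    hB ho' hBn hBp none_ne_pO (by simp [Finset.mem_symmDiff, h1, hBn])
    (by simp [Finset.mem_symmDiff, h2, hBp]) none_ne_pO
  let P : co2Group := ⟨permEl σ hσ, stabU_le (permEl_mem_stabU hσ (Or.inl ⟨s1, s2⟩))⟩
  let Q : co2Group := ⟨signEl o hB.1, signEl_mem_co2 hB.1 hBn hBp⟩
  have hcm : ⁅P, Q⁆ = (⟨signEl O hO.1, signEl_mem_co2 hO.1 h1 h2⟩ : co2Group) := by
    refine Subtype.ext ?_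
    show ⁅permEl σ hσ, signEl o hB.1⁆ = signEl O hO.1
    rw [commutatorElement_def, permEl, mono_mul_signEl, mul_inv_cancel_right, signEl_inv,
      signEl_mul_signEl]
    exact signEl_congr (by rw [hσo, symmDiff_comm o O, symmDiff_assoc, symmDiff_self]; simp)
  rw [← hcm]
  exact Subgroup.commutator_mem_commutator (Subgroup.mem_top _) (Subgroup.mem_top _)

theorem co2E_le_commutator : co2E ≤ commutator co2Group := by
  intro g hg
  obtain ⟨c, hc, he⟩ := Subgroup.mem_subgroupOf.1 hg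
  -- membership through the ambient image
  set D := (commutator co2Group).map co2Group.subtype
  suffices hD : (g : Co0) ∈ D by
    obtain ⟨k, hk, hke⟩ := hD
    exact (Subtype.ext hke : k = g) ▸ hk
  rw [he]
  have hav : none ∉ c ∧ pO ∉ c := by
    have hU := congrArg (fun v : leechLattice => (v : GolayPt → ℤ)) (co2_fix g.2)
    rw [he] at hU
    have hn := congrFun hU none
    have hp := congrFun hU pO
    simp only [vec_signEl, show (baseU : GolayPt → ℤ) none = 4 by decide +kernel,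
      show (baseU : GolayPt → ℤ) pO = 4 by decide +kernel] at hn hp
    split_ifs at hn hp with a b <;> first | omega | exact ⟨‹_›, ‹_›⟩
  obtain ⟨x, -, hx⟩ : ∃ x, x < 1024 ∧ Golay.pts (Golay.encAux subRows x) = c := by
    have hm := Golay.supports_forall subRows_check.1 hc
    rw [mem_iff_testBit, mem_iff_testBit] at hav
    simp only [Bool.not_eq_true] at hav
    simp only [hav.1, hav.2, Bool.false_or, List.any_eq_true, List.mem_range, beq_iff_eq] at hm
    obtain ⟨x, hx, hxe⟩ := hm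
    exact ⟨x, hx, by rw [hxe, Golay.pts_maskOf]⟩
  suffices key : ∀ gs : List ℕ, (∀ r ∈ gs, r ∈ subRows) → ∀ x,
      ∃ h, signEl (Golay.pts (Golay.encAux gs x)) h ∈ D by
    obtain ⟨h, hm⟩ := key subRows (fun r hr => hr) x
    rwa [signEl_congr (hd := hc) hx] at hm
  intro gs
  induction gs with
  | nil =>
    intro _ x
    refine ⟨by simp only [Golay.encAux, Golay.pts_zero]; exact Golay.empty_mem, ?_⟩
    rw [signEl_congr (hd := Golay.empty_mem) (by simp only [Golay.encAux, Golay.pts_zero]),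
      signEl_empty]
    exact one_mem _
  | cons r gs ih =>
    intro hr x
    obtain ⟨h1, m1⟩ := ih (fun a ha => hr a (List.mem_cons_of_mem _ ha)) (x / 2)
    by_cases hx : x % 2 = 1
    · have e : Golay.pts (Golay.encAux (r :: gs) x) =
          Golay.pts r ∆ Golay.pts (Golay.encAux gs (x / 2)) := by
        simp only [Golay.encAux, if_pos hx, Golay.pts_xor]
      have hs := List.all_eq_true.1 subRows_check.2 r (hr r List.mem_cons_self)
      simp only [Bool.and_eq_true, Bool.not_eq_true', beq_iff_eq] at hs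
      have hro : Golay.pts r ∈ octads := Golay.pts_mem_octads (by simp [hs.1.1.1, hs.1.1.2])
      have hm : signEl _ hro.1 ∈ D :=
        ⟨_, signEl_mem_commutator hro (by simp [hs.1.2]) (by simp [hs.2]), rfl⟩
      refine ⟨e ▸ Golay.symmDiff_mem hro.1 h1, ?_⟩
      rw [signEl_congr (hd := Golay.symmDiff_mem hro.1 h1) e, ← signEl_mul_signEl hro.1 h1]
      exact mul_mem hm m1
    · have e : Golay.pts (Golay.encAux (r :: gs) x) = Golay.pts (Golay.encAux gs (x / 2)) := by
        simp only [Golay.encAux, if_neg hx, Nat.zero_xor]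
      refine ⟨e ▸ h1, ?_⟩
      rw [signEl_congr (hd := h1) e]
      exact m1

/-- A normal subgroup with all sign changes is everything. -/
theorem eq_top_of_co2E_le {M : Subgroup co2Group} (hM : M.Normal) (hE : co2E ≤ M) : M = ⊤ := by
  classical
  obtain ⟨d, hd, d1, d2, d3, d4⟩ : ∃ (d : Finset GolayPt)
      (_ : d ∈ supports (golayCode : Set (GolayPt → ZMod 2))),
      none ∉ d ∧ pO ∉ d ∧ pI ∈ d ∧ pII ∈ d :=
    ⟨Golay.pts 0x293e, (Golay.pts_mem_octads (by decide +kernel)).1, by decide +kernel,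
      by decide +kernel, by decide +kernel, by decide +kernel⟩
  set w := pairVec pI pII 1 1 (by norm_num) with hw
  have hdw : signEl d hd • w = -w := by
    refine Subtype.ext (funext fun i => ?_)
    simp only [vec_signEl, AddSubgroup.coe_neg, Pi.neg_apply]
    by_cases hi : i ∈ d
    · rw [if_pos hi]
    · rw [if_neg hi, hw, coe_pairVec]
      simp [show i ≠ pI from fun e => hi (e ▸ d3), show i ≠ pII from fun e => hi (e ▸ d4)]
  have hwm : w ∈ orthU := pairVec_mem_orthU (by decide) (by decide) (by decide) (by decide) (by decide)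
  obtain ⟨g, hg, hge⟩ : w ∈ {y | ∃ a ∈ co2Group, a • baseU' = y} := co2_orbit.symm ▸ hwm
  set n : co2Group :=
    ⟨g, hg⟩⁻¹ * ⟨signEl d hd, signEl_mem_co2 hd d1 d2⟩ * (⟨g, hg⟩ : co2Group) with hn
  have hnM : n ∈ M := by
    have := hM.conj_mem _ (hE (show (⟨signEl d hd, signEl_mem_co2 hd d1 d2⟩ : co2Group) ∈ co2E from
      Subgroup.mem_subgroupOf.2 (signEl_mem_signGroup d hd))) (⟨g, hg⟩ : co2Group)⁻¹
    rwa [inv_inv] at this
  have hnU : (n : Co0) • baseU' = -baseU' := by
    show (g⁻¹ * signEl d hd * g) • baseU' = -baseU'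
    rw [mul_smul, mul_smul, hge, hdw, inv_smul_eq_iff, smul_vneg, hge]
  have hnS : (n : Co0) ∈ stabU := by
    refine ⟨?_, n.2⟩
    show (((n : Co0) • eightVec none : leechLattice) : GolayPt → ℤ) ∈ stdCross
    rw [← baseU_add_baseU', smul_vadd, co2_fix n.2, hnU]
    exact ⟨pO, 8, Or.inl rfl, by decide +kernel⟩
  obtain ⟨σ, hσ, c, hc, hnc, c1, c2, hsw⟩ := exists_of_stabU hnS
  have hswap : σ none = pO ∧ σ pO = none := by
    refine hsw.resolve_left fun ⟨a, b⟩ => ?_
    rw [hnc, mul_smul, baseU', permEl_smul_pairVec] at hnU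
    have := congrArg (fun v : leechLattice => (v : GolayPt → ℤ) none) hnU
    simp only [a, b, vec_signEl, if_neg c1, AddSubgroup.coe_neg, Pi.neg_apply] at this
    revert this
    decide +kernel
  set P : co2Group := ⟨permEl σ hσ, stabU_le (permEl_mem_stabU hσ (Or.inr hswap))⟩ with hP
  have hPM : P ∈ M := by
    have e : n = ⟨signEl c hc, signEl_mem_co2 hc c1 c2⟩ * P := Subtype.ext hnc
    rw [e] at hnM
    exact (Subgroup.mul_mem_cancel_left M
      (hE (Subgroup.mem_subgroupOf.2 (signEl_mem_signGroup c hc)))).1 hnM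
  have hM22 : M.comap pointHom = ⊤ := by
    have : IsSimpleGroup pointStab2 :=
      @MulEquiv.isSimpleGroup _ _ _ _ isSimpleGroup_stab3 stab3Equiv
    obtain ⟨τ, hτ, t1, t2, hne⟩ := exists_commutator_ne hσ hswap.1 hswap.2
    have hmem : σ * τ * σ⁻¹ * τ⁻¹ ∈ pointStab2 := by
      have f1 : σ⁻¹ none = pO := Equiv.symm_apply_eq σ |>.2 hswap.2.symm
      have f2 : σ⁻¹ pO = none := Equiv.symm_apply_eq σ |>.2 hswap.1.symm
      have g1 : τ⁻¹ none = none := Equiv.symm_apply_eq τ |>.2 t1.symm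
      have g2 : τ⁻¹ pO = pO := Equiv.symm_apply_eq τ |>.2 t2.symm
      refine ⟨⟨M24.mul_mem (M24.mul_mem (M24.mul_mem hσ hτ) (M24.inv_mem hσ)) (M24.inv_mem hτ),
        mem_stabilizer_iff.2 ?_⟩, mem_stabilizer_iff.2 ?_⟩
      · show (σ * τ * σ⁻¹ * τ⁻¹) none = none
        simp only [Equiv.Perm.mul_apply, g1, f1, t2, hswap.2]
      · show (σ * τ * σ⁻¹ * τ⁻¹) pO = pO
        simp only [Equiv.Perm.mul_apply, g2, f2, t1, hswap.1]
    refine ((Subgroup.Normal.comap hM pointHom).eq_bot_or_eq_top).resolve_left fun hb => hne ?_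
    let T : pointStab2 := ⟨τ, ⟨hτ, mem_stabilizer_iff.2 t1⟩, mem_stabilizer_iff.2 t2⟩
    have hin : (⟨_, hmem⟩ : pointStab2) ∈ M.comap pointHom := by
      show pointHom ⟨_, hmem⟩ ∈ M
      have e : pointHom ⟨_, hmem⟩ = P * (pointHom T * P⁻¹ * (pointHom T)⁻¹) := by
        refine Subtype.ext ?_
        show permHom (⟨σ, hσ⟩ * ⟨τ, hτ⟩ * ⟨σ, hσ⟩⁻¹ * ⟨τ, hτ⟩⁻¹) = permHom ⟨σ, hσ⟩ *
          (permHom ⟨τ, hτ⟩ * (permHom ⟨σ, hσ⟩)⁻¹ * (permHom ⟨τ, hτ⟩)⁻¹)
        simp only [map_mul, map_inv, mul_assoc]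
      rw [e]
      exact mul_mem hPM (hM.conj_mem _ (inv_mem hPM) _)
    rw [hb, Subgroup.mem_bot] at hin
    exact congrArg Subtype.val hin
  have hpt : ∀ (τ : Equiv.Perm GolayPt) (hτ : τ ∈ M24), τ none = none → τ pO = pO →
      ∃ k ∈ M, (k : Co0) = permEl τ hτ := fun τ hτ a b =>
    ⟨pointHom ⟨τ, ⟨hτ, mem_stabilizer_iff.2 a⟩, mem_stabilizer_iff.2 b⟩,
      show (_ : pointStab2) ∈ M.comap pointHom from hM22 ▸ Subgroup.mem_top _, rfl⟩
  have hle : co2H ≤ M := by
    intro h hh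
    obtain ⟨τ, hτ, b, hb, he, b1, b2, hs⟩ := exists_of_stabU (Subgroup.mem_subgroupOf.1 hh)
    suffices hp : ∃ k ∈ M, (k : Co0) = permEl τ hτ by
      obtain ⟨k, hk, hke⟩ := hp
      have e : h = ⟨signEl b hb, signEl_mem_co2 hb b1 b2⟩ * k := Subtype.ext (by
        rw [he, ← hke]; rfl)
      rw [e]
      exact mul_mem (hE (Subgroup.mem_subgroupOf.2 (signEl_mem_signGroup b hb))) hk
    rcases hs with ⟨a, a'⟩ | ⟨a, a'⟩
    · exact hpt τ hτ a a'
    · have f1 : σ⁻¹ none = pO := Equiv.symm_apply_eq σ |>.2 hswap.2.symm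
      have f2 : σ⁻¹ pO = none := Equiv.symm_apply_eq σ |>.2 hswap.1.symm
      obtain ⟨k, hk, hke⟩ := hpt (σ⁻¹ * τ) (mul_mem (inv_mem hσ) hτ)
        (by rw [Equiv.Perm.mul_apply, a]; exact f2) (by rw [Equiv.Perm.mul_apply, a']; exact f1)
      refine ⟨P * k, mul_mem hPM hk, ?_⟩
      show permEl σ hσ * (k : Co0) = _
      rw [hke]
      show permHom ⟨σ, hσ⟩ * permHom (⟨σ, hσ⟩⁻¹ * ⟨τ, hτ⟩) = permHom ⟨τ, hτ⟩
      rw [← map_mul, mul_inv_cancel_left]
  refine (eq_or_lt_of_le hle).elim (fun e => ?_) (fun e => isCoatom_co2H.2 _ e)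
  exfalso
  have hb := eq_bot_of_le_co2H hM e.ge
  rw [hb, Subgroup.mem_bot] at hnM
  have h1 := congrArg (fun k : co2Group => (k : Co0) • baseU') hnM
  simp only [hnU, OneMemClass.coe_one, one_smul] at h1
  exact absurd (congrArg (fun v : leechLattice => (v : GolayPt → ℤ) none) h1) (by decide +kernel)

theorem isSimpleGroup_co2Group : IsSimpleGroup co2Group := by
  have : Nontrivial co2Group :=
    Finite.one_lt_card_iff_nontrivial.1 (by rw [natCard_co2Group]; norm_num)
  refine ⟨fun M hM => or_iff_not_imp_left.2 fun hne => ?_⟩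
  have hsup : M ⊔ co2H = ⊤ := isCoatom_co2H.2 _
    (lt_of_le_of_ne le_sup_right fun e => hne (eq_bot_of_le_co2H hM (e.symm ▸ le_sup_left)))
  have key : ∀ g ∈ co2H, ∀ n ∈ M ⊔ co2E, g * n * g⁻¹ ∈ M ⊔ co2E := by
    intro g hg n hn
    rw [Subgroup.mem_sup_of_normal_left] at hn
    obtain ⟨a, ha, b, hb, rfl⟩ := hn
    rw [show g * (a * b) * g⁻¹ = (g * a * g⁻¹) * (g * b * g⁻¹) by group]
    exact mul_mem (Subgroup.mem_sup_left (hM.conj_mem a ha g))
      (Subgroup.mem_sup_right (conj_mem_co2E hg hb))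
  have hL : (M ⊔ co2E).Normal := by
    rw [← Subgroup.normalizer_eq_top_iff, eq_top_iff, ← hsup, sup_le_iff]
    refine ⟨le_sup_left.trans Subgroup.le_normalizer, fun g hg => ?_⟩
    rw [Subgroup.mem_normalizer_iff]
    intro n
    refine ⟨key g hg n, fun hn => ?_⟩
    have := key g⁻¹ (inv_mem hg) _ hn
    rwa [show g⁻¹ * (g * n * g⁻¹) * g⁻¹⁻¹ = n by group] at this
  have htop : M ⊔ co2E = ⊤ := eq_top_of_co2E_le hL le_sup_right
  have hperf : commutator co2Group = ⊤ :=
    eq_top_of_co2E_le (by rw [commutator_def]; infer_instance) co2E_le_commutator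
  rw [eq_top_iff, ← hperf, commutator_def, Subgroup.commutator_le]
  intro a _ b _
  have hab : ∀ g : co2Group, ∃ e ∈ co2E,
      (QuotientGroup.mk g : co2Group ⧸ M) = QuotientGroup.mk e := by
    intro g
    obtain ⟨m, hm, e, he, rfl⟩ := Subgroup.mem_sup_of_normal_left.1
      (htop ▸ Subgroup.mem_top g : g ∈ M ⊔ co2E)
    exact ⟨e, he, by rw [QuotientGroup.mk_mul, (QuotientGroup.eq_one_iff m).2 hm, one_mul]⟩
  obtain ⟨e, he, hae⟩ := hab a
  obtain ⟨f, hf, hbf⟩ := hab b
  rw [← QuotientGroup.eq_one_iff]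
  show QuotientGroup.mk' M ⁅a, b⁆ = 1
  rw [map_commutatorElement]
  show ⁅(QuotientGroup.mk a : co2Group ⧸ M), QuotientGroup.mk b⁆ = 1
  rw [hae, hbf, commutatorElement_eq_one_iff_mul_comm, ← QuotientGroup.mk_mul,
    ← QuotientGroup.mk_mul, co2E_comm he hf]

end Cfsg.Agent.Leech
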