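import Cfsg.Agent.Lib.Leech.OrthClasses

/-!
# The stabiliser of the standard cross is maximal in `Co0`

* `isCoatom_stdStab`
-/

set_option autoImplicit false

open scoped Pointwise

namespace Cfsg.Agent.Leech

/-- Orbit times stabiliser for a subgroup. -/
theorem ncard_orbit_mul {G X : Type*} [Group G] [MulAction G X] (A : Subgroup G) (x : X) :
    {y | ∃ a ∈ A, a • x = y}.ncard * Nat.card ↥(A ⊓ MulAction.stabilizer G x) = Nat.card A := by
  have e : {y | ∃ a ∈ A, a • x = y} = MulAction.orbit A x := by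
    ext y
    exact ⟨fun ⟨a, ha, h⟩ => ⟨⟨a, ha⟩, h⟩, fun ⟨a, h⟩ => ⟨a.1, a.2, h⟩⟩
  have h2 : Nat.card (MulAction.stabilizer A x) = Nat.card ↥(A ⊓ MulAction.stabilizer G x) :=
    Nat.card_congr
      { toFun := fun g => ⟨g.1.1, g.1.2, g.2⟩
        invFun := fun g => ⟨⟨g.1, g.2.1⟩, g.2.2⟩ }
  rw [e, ← MulAction.index_stabilizer, ← h2, mul_comm, Subgroup.card_mul_index]

theorem baseU_add_baseU' : baseU + baseU' = eightVec none := by
  refine Subtype.ext (funext fun i => ?_)
  simp only [AddSubgroup.coe_add, Pi.add_apply, baseU, baseU', coe_pairVec, coe_eightVec,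
    Pi.single_apply]
  split_ifs <;> norm_num

theorem dot_UU' : dotInt (baseU : GolayPt → ℤ) (baseU' : GolayPt → ℤ) = 0 := by decide +kernel

theorem baseU'_mem : baseU' ∈ orthU := ⟨sqNorm_baseU', by rw [dotInt_comm]; exact dot_UU'⟩

theorem mem_stdStab_of_fix {g : Co0} (h1 : g • baseU = baseU) (h2 : g • baseU' = baseU') :
    g ∈ stdStab := by
  show ((g • eightVec none : leechLattice) : GolayPt → ℤ) ∈ stdCross
  rw [← baseU_add_baseU', smul_vadd, h1, h2, baseU_add_baseU']
  exact eightVec_mem_stdCross none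

theorem isPair_baseU : IsPair (baseU : GolayPt → ℤ) :=
  isPair_pairVec none_ne_pO (Or.inl rfl) (Or.inl rfl) _

theorem isPair_baseU' : IsPair (baseU' : GolayPt → ℤ) :=
  isPair_pairVec none_ne_pO (Or.inl rfl) (Or.inr rfl) _

/-- Two orthogonal pair vectors sharing a coordinate add up to a vector of the standard cross. -/
theorem pair_add_mem_stdCross {k l n : GolayPt} (hkl : k ≠ l) (hkn : k ≠ n) {s t s' t' : ℤ}
    (hs : s = 1 ∨ s = -1) (ht : t = 1 ∨ t = -1) (hs' : s' = 1 ∨ s' = -1) (ht' : t' = 1 ∨ t' = -1)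
    (hst : (2 : ℤ) ∣ s + t) (hst' : (2 : ℤ) ∣ s' + t')
    (hd : dotInt (pairVec k l s t hst : GolayPt → ℤ) (pairVec k n s' t' hst' : GolayPt → ℤ) = 0) :
    ((pairVec k l s t hst + pairVec k n s' t' hst' : leechLattice) : GolayPt → ℤ) ∈ stdCross := by
  rw [dotInt_pairVec] at hd
  by_cases hln : l = n
  · subst hln
    simp only [coe_pairVec, Pi.add_apply, Pi.single_eq_same, Pi.single_eq_of_ne hkl,
      Pi.single_eq_of_ne (Ne.symm hkl), add_zero, zero_add] at hd
    have hor : (s' = s ∧ t' = -t) ∨ (s' = -s ∧ t' = t) := by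
      rcases hs with rfl | rfl <;> rcases ht with rfl | rfl <;> rcases hs' with rfl | rfl <;>
        rcases ht' with rfl | rfl <;> omega
    rw [AddSubgroup.coe_add, coe_pairVec, coe_pairVec]
    rcases hor with ⟨e, e'⟩ | ⟨e, e'⟩
    · refine ⟨k, 8 * s, by rcases hs with rfl | rfl <;> simp, funext fun i => ?_⟩
      simp only [Pi.add_apply, Pi.single_apply, e, e']
      split_ifs <;> subst_vars <;> first | exact absurd rfl hkl | omega
    · refine ⟨l, 8 * t, by rcases ht with rfl | rfl <;> simp, funext fun i => ?_⟩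
      simp only [Pi.add_apply, Pi.single_apply, e, e']
      split_ifs <;> subst_vars <;> first | exact absurd rfl hkl | omega
  · exfalso
    simp only [coe_pairVec, Pi.add_apply, Pi.single_eq_same, Pi.single_eq_of_ne hkl,
      Pi.single_eq_of_ne (Ne.symm hkn), Pi.single_eq_of_ne (Ne.symm hln), add_zero] at hd
    rcases hs with rfl | rfl <;> rcases hs' with rfl | rfl <;> omega

/-- A map preserving the pair shape in both directions is monomial. -/
theorem mem_stdStab_of_preserve {g : Co0}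
    (h : ∀ x : leechLattice, IsPair (x : GolayPt → ℤ) → IsPair ((g • x : leechLattice) : GolayPt → ℤ))
    (h' : ∀ x : leechLattice, IsPair (x : GolayPt → ℤ) →
      IsPair ((g⁻¹ • x : leechLattice) : GolayPt → ℤ)) : g ∈ stdStab := by
  have key : ∀ c : leechLattice, IsPair (c : GolayPt → ℤ) →
      dotInt (c : GolayPt → ℤ) (baseU : GolayPt → ℤ) = 16 →
      dotInt (c : GolayPt → ℤ) (baseU' : GolayPt → ℤ) ≠ 0 := by
    intro c hc a b
    rw [dotInt_baseU] at a
    rw [dotInt_baseU'] at b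
    have := isPair_values hc none
    omega
  obtain ⟨k, l, s, t, hst, hkl, hs, ht, ha⟩ := exists_pairVec (h _ isPair_baseU)
  obtain ⟨m, n, s', t', hst', hmn, hs', ht', hb⟩ := exists_pairVec (h _ isPair_baseU')
  have hab : dotInt ((g • baseU : leechLattice) : GolayPt → ℤ)
      ((g • baseU' : leechLattice) : GolayPt → ℤ) = 0 := by rw [dotInt_smul, dot_UU']
  have hk : k = m ∨ k = n := by
    by_contra hcon
    rw [not_or] at hcon
    obtain ⟨r, hr⟩ : (({k, m, n} : Finset GolayPt)ᶜ).Nonempty := Finset.card_pos.1 (by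
      have := Finset.card_le_three (a := k) (b := m) (c := n)
      rw [Finset.card_compl, card_pt]; omega)
    simp only [Finset.mem_compl, Finset.mem_insert, Finset.mem_singleton, not_or] at hr
    obtain ⟨r', hr', hr1⟩ : ∃ r', r' ≠ l ∧ r' ∉ ({k, m, n} : Finset GolayPt) := by
      obtain ⟨r', hr'⟩ : (({k, l, m, n} : Finset GolayPt)ᶜ).Nonempty := Finset.card_pos.1 (by
        have := Finset.card_le_four (a := k) (b := l) (c := m) (d := n)
        rw [Finset.card_compl, card_pt]; omega)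
      simp only [Finset.mem_compl, Finset.mem_insert, Finset.mem_singleton, not_or] at hr'
      exact ⟨r', hr'.2.1, by simp [hr'.1, hr'.2.2.1, hr'.2.2.2]⟩
    simp only [Finset.mem_insert, Finset.mem_singleton, not_or] at hr1
    obtain ⟨c, hc, hca, hcb⟩ : ∃ c : leechLattice, IsPair (c : GolayPt → ℤ) ∧
        dotInt (c : GolayPt → ℤ) ((g • baseU : leechLattice) : GolayPt → ℤ) = 16 ∧
        dotInt (c : GolayPt → ℤ) ((g • baseU' : leechLattice) : GolayPt → ℤ) = 0 := by
      have hs1 : (2 : ℤ) ∣ s + 1 := by clear ha; rcases hs with rfl | rfl <;> norm_num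
      refine ⟨pairVec k r' s 1 hs1,
        isPair_pairVec (Ne.symm hr1.1) hs (Or.inl rfl) _, ?_, ?_⟩
      · rw [ha, dotInt_pairVec]
        rcases hs with rfl | rfl <;>
          simp [coe_pairVec, hkl, Ne.symm hkl, hr1.1, Ne.symm hr1.1, hr', Ne.symm hr']
      · rw [hb, dotInt_pairVec]
        simp [coe_pairVec, Ne.symm hcon.1, Ne.symm hcon.2, Ne.symm hr1.2.1, Ne.symm hr1.2.2]
    refine key (g⁻¹ • c) (h' c hc) ?_ ?_
    · rw [← dotInt_smul g, smul_inv_smul]; exact hca
    · rw [← dotInt_smul g, smul_inv_smul]; exact hcb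
  -- hence the two images have the same support
  rw [ha, hb] at hab
  show ((g • eightVec none : leechLattice) : GolayPt → ℤ) ∈ stdCross
  rw [← baseU_add_baseU', smul_vadd, ha, hb]
  rcases hk with rfl | rfl
  · exact pair_add_mem_stdCross hkl hmn hs ht hs' ht' hst hst' hab
  · rw [pairVec_comm m k] at hab ⊢
    exact pair_add_mem_stdCross hkl (Ne.symm hmn) hs ht ht' hs' hst _ hab

/-- The three shapes. -/
def shapeClass : Fin 3 → Set leechLattice :=
  ![{x | IsPair (x : GolayPt → ℤ)}, {x | IsOctad (x : GolayPt → ℤ)}, {x | IsOdd (x : GolayPt → ℤ)}]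

theorem card_co0 : Nat.card Co0 = 8315553613086720000 := natCard_co0 golayUnique

/-- Minimal vectors of the Leech lattice. -/
def minSet : Set leechLattice := {x | sqNorm (x : GolayPt → ℤ) = 32}

theorem shape_cover {x : leechLattice} (hx : x ∈ minSet) : ∃ i, x ∈ shapeClass i := by
  rcases min_shape x.2 hx with h | h | h
  · exact ⟨0, h⟩
  · exact ⟨1, h⟩
  · exact ⟨2, h⟩

theorem shape_disjoint {x : leechLattice} (i j : Fin 3) (hi : x ∈ shapeClass i)
    (hj : x ∈ shapeClass j) : i = j := by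
  fin_cases i <;> fin_cases j <;> first
    | rfl
    | exact absurd hi (not_isPair_of_isOctad hj)
    | exact absurd hj (not_isPair_of_isOctad hi)
    | exact absurd hi (not_isPair_of_isOdd hj)
    | exact absurd hj (not_isPair_of_isOdd hi)
    | exact absurd hi (not_isOctad_of_isOdd hj)
    | exact absurd hj (not_isOctad_of_isOdd hi)

theorem ncard_shape1 : (minSet ∩ shapeClass 1).ncard = 97152 := by
  rw [← ncard_octadShape, ← ncard_subtype fun x => sqNorm x = 32 ∧ IsOctad x]
  rfl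

theorem ncard_shape2 : (minSet ∩ shapeClass 2).ncard = 98304 := by
  rw [← ncard_oddShape, ← ncard_subtype fun x => sqNorm x = 32 ∧ IsOdd x]
  rfl

theorem ncard_shape0 : (minSet ∩ shapeClass 0).ncard = 1104 := by
  have hfin : minSet.Finite := finite_min
  obtain ⟨b, hb, hsum⟩ := ncard_eq_sum_classes minSet minSet hfin subset_rfl shapeClass
    (fun x hx => shape_cover hx) (fun x _ i j => shape_disjoint i j) (fun i x _ _ y hy _ => hy)
  have e : ∀ i, (if b i then (minSet ∩ shapeClass i).ncard else 0) =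
      (minSet ∩ shapeClass i).ncard := fun i => by
    cases h : b i
    · rw [if_neg Bool.noConfusion, eq_comm, Set.ncard_eq_zero (hfin.subset Set.inter_subset_left)]
      refine Set.eq_empty_of_forall_notMem fun x hx => ?_
      have := (hb i).2 ⟨x, hx.1, hx.2⟩
      rw [h] at this
      exact Bool.noConfusion this
    · simp
  simp only [e, Fin.sum_univ_three, ncard_shape1, ncard_shape2,
    show minSet.ncard = 196560 from ncard_min] at hsum
  omega

theorem shape_orbit (i : Fin 3) {x y : leechLattice} (hx : x ∈ shapeClass i)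
    (hy : y ∈ shapeClass i) : ∃ g ∈ stdStab, g • x = y := by
  have mk : ∀ {r : GolayPt → ℤ}, (∃ g ∈ stdStab, ((g • x : leechLattice) : GolayPt → ℤ) = r) →
      (∃ g ∈ stdStab, ((g • y : leechLattice) : GolayPt → ℤ) = r) →
      ∃ g ∈ stdStab, g • x = y := by
    rintro r ⟨g, hg, e⟩ ⟨k, hk, e'⟩
    exact ⟨k⁻¹ * g, mul_mem (inv_mem hk) hg, by
      rw [mul_smul, inv_smul_eq_iff]; exact Subtype.ext (e.trans e'.symm)⟩
  fin_cases i
  · obtain ⟨g, hg, e⟩ := exists_std_pair (x := x) hx
    obtain ⟨k, hk, e'⟩ := exists_std_pair (x := y) hy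
    exact mk ⟨g, hg, congrArg Subtype.val e⟩ ⟨k, hk, congrArg Subtype.val e'⟩
  · exact mk (exists_std_octad hx) (exists_std_octad hy)
  · exact mk (exists_std_odd hx) (exists_std_odd hy)

theorem isCoatom_stdStab : IsCoatom stdStab := by
  classical
  refine ⟨fun h => ?_, fun K hK => ?_⟩
  · have := natCard_stdStab
    rw [h, Subgroup.card_top, card_co0] at this
    norm_num at this
  have hle := hK.le
  -- the orbit of `baseU`
  set O1 := {y | ∃ a ∈ K, a • baseU = y} with hO1
  have hsub : O1 ⊆ minSet := by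
    rintro _ ⟨a, -, rfl⟩
    show sqNorm _ = 32
    rw [sqNorm_smul, sqNorm_baseU]
  obtain ⟨b, hb, hsum⟩ := ncard_eq_sum_classes O1 minSet finite_min hsub shapeClass
    (fun x hx => shape_cover hx) (fun x _ i j => shape_disjoint i j) (by
      rintro i _ ⟨a, ha, rfl⟩ hi y hy hy'
      obtain ⟨g, hg, he⟩ := shape_orbit i hi hy'
      exact ⟨g * a, mul_mem (hle hg) ha, by rw [mul_smul, he]⟩)
  have hb0 : b 0 = true := (hb 0).2 ⟨baseU, ⟨1, one_mem K, one_smul _ _⟩, isPair_baseU⟩
  have hdvd : O1.ncard ∣ 8315553613086720000 := by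
    rw [← card_co0]
    exact Dvd.dvd.trans ⟨_, (ncard_orbit_mul K baseU).symm⟩ (Subgroup.card_subgroup_dvd_card K)
  rw [hsum, Fin.sum_univ_three, hb0, ncard_shape0, ncard_shape1, ncard_shape2] at hdvd
  have hnot : ¬(b 1 = false ∧ b 2 = false) := by
    rintro ⟨b1, b2⟩
    have hpres : ∀ a ∈ K, ∀ x : leechLattice, IsPair (x : GolayPt → ℤ) →
        IsPair ((a • x : leechLattice) : GolayPt → ℤ) := by
      intro a ha x hx
      obtain ⟨g, hg, he⟩ := shape_orbit 0 (x := baseU) isPair_baseU hx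
      have hm : a • x ∈ O1 := ⟨a * g, mul_mem ha (hle hg), by rw [mul_smul, he]⟩
      obtain ⟨i, hi⟩ := shape_cover (hsub hm)
      have := (hb i).2 ⟨_, hm, hi⟩
      fin_cases i
      · exact hi
      · simp [b1] at this
      · simp [b2] at this
    exact hK.not_ge fun a ha => mem_stdStab_of_preserve (hpres a ha) (hpres _ (inv_mem ha))
  have hall : b 1 = true ∧ b 2 = true := by
    revert hdvd hnot
    generalize b 1 = p, b 2 = q
    revert p q
    decide +kernel
  have trans1 : ∀ y : leechLattice, sqNorm (y : GolayPt → ℤ) = 32 → ∃ a ∈ K, a • baseU = y := by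
    intro y hy
    obtain ⟨i, hi⟩ := shape_cover (x := y) hy
    have hbi : b i = true := by fin_cases i <;> simp [hb0, hall]
    obtain ⟨x, ⟨a, ha, rfl⟩, hxi⟩ := (hb i).1 hbi
    obtain ⟨g, hg, he⟩ := shape_orbit i hxi hi
    exact ⟨g * a, mul_mem (hle hg) ha, by rw [mul_smul, he]⟩
  -- the orbit of `baseU'` under the stabiliser of `baseU`
  set KU := K ⊓ MulAction.stabilizer Co0 baseU with hKU
  set O2 := {y | ∃ a ∈ KU, a • baseU' = y} with hO2
  have hsub2 : O2 ⊆ orthU := by
    rintro _ ⟨a, ha, rfl⟩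
    exact smul_mem_orthU (MulAction.mem_stabilizer_iff.1 ha.2) baseU'_mem
  have hUle : stabU ≤ KU := inf_le_inf_right _ hle
  obtain ⟨c, hc, hsum2⟩ := ncard_eq_sum_classes O2 orthU finite_orthU hsub2 orthClass
    (fun x hx => orthClass_cover hx) (fun x _ i j => orthClass_disjoint i j) (by
      rintro i _ ⟨a, ha, rfl⟩ hi y hy hy'
      obtain ⟨g, hg, he⟩ := orth_orbit i ⟨hsub2 ⟨a, ha, rfl⟩, hi⟩ ⟨hy, hy'⟩
      exact ⟨g * a, mul_mem (hUle hg) ha, by rw [mul_smul, he]⟩)
  have hc0 : c 0 = true := (hc 0).2 ⟨baseU', ⟨1, one_mem KU, one_smul _ _⟩,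
    isPair_baseU', by decide +kernel⟩
  -- orders
  have hS : KU ⊓ MulAction.stabilizer Co0 baseU' =
      (⊤ ⊓ MulAction.stabilizer Co0 baseU) ⊓ MulAction.stabilizer Co0 baseU' :=
    le_antisymm (inf_le_inf_right _ (inf_le_inf_right _ le_top)) fun g hg =>
      ⟨⟨hle (mem_stdStab_of_fix (MulAction.mem_stabilizer_iff.1 hg.1.2)
        (MulAction.mem_stabilizer_iff.1 hg.2)), hg.1.2⟩, hg.2⟩
  have n1 : O1.ncard = 196560 := by
    rw [show O1 = minSet from Set.Subset.antisymm hsub fun y hy => trans1 y hy]; exact ncard_min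
  have k1 := ncard_orbit_mul K baseU
  rw [← hO1, ← hKU, n1] at k1
  have k2 := ncard_orbit_mul KU baseU'
  rw [← hO2, hS] at k2
  have g1 := ncard_orbit_mul (⊤ : Subgroup Co0) baseU
  rw [show {y | ∃ a ∈ (⊤ : Subgroup Co0), a • baseU = y} = minSet from
    Set.Subset.antisymm (by rintro _ ⟨a, -, rfl⟩; show sqNorm _ = 32; rw [sqNorm_smul, sqNorm_baseU])
      fun y hy => (transitive32 golayUnique sqNorm_baseU hy).imp fun g h => ⟨trivial, h⟩,
    show minSet.ncard = 196560 from ncard_min, Subgroup.card_top, card_co0] at g1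
  have g2 := ncard_orbit_mul ((⊤ : Subgroup Co0) ⊓ MulAction.stabilizer Co0 baseU) baseU'
  rw [show {y | ∃ a ∈ (⊤ : Subgroup Co0) ⊓ MulAction.stabilizer Co0 baseU, a • baseU' = y} = orthU
    from Set.Subset.antisymm
      (by rintro _ ⟨a, ha, rfl⟩
          exact smul_mem_orthU (MulAction.mem_stabilizer_iff.1 ha.2) baseU'_mem)
      (fun y hy => by
        obtain ⟨g, h1, h2⟩ := transitive_orth golayUnique sqNorm_baseU sqNorm_baseU' hy.1 dot_UU'
          (by rw [dotInt_comm]; exact hy.2)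
        exact ⟨g, ⟨trivial, MulAction.mem_stabilizer_iff.2 h1⟩, h2⟩), ncard_orthU] at g2
  set S := Nat.card ↥((⊤ ⊓ MulAction.stabilizer Co0 baseU) ⊓ MulAction.stabilizer Co0 baseU')
  have hSv : S = 454164480 := by
    rw [← g2] at g1
    omega
  have h23 : 23 ∣ Nat.card K :=
    Dvd.dvd.trans ⟨4096 * 244823040 / 23, by rw [natCard_stdStab]; norm_num⟩ (Subgroup.card_dvd_of_le hle)
  rw [← k1, ← k2, hSv, hsum2, Fin.sum_univ_five, hc0, ncard_class0, ncard_class1, ncard_class2,
    ncard_class3, ncard_class4] at h23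
  have hc' : c 1 = true ∧ c 2 = true ∧ c 3 = true ∧ c 4 = true := by
    revert h23
    generalize c 1 = p, c 2 = q, c 3 = r, c 4 = s
    revert p q r s
    decide +kernel
  rw [eq_top_iff]
  intro g _
  obtain ⟨a, ha, hau⟩ := trans1 (g • baseU) (by rw [sqNorm_smul, sqNorm_baseU])
  have f1 : (a⁻¹ * g) • baseU = baseU := by rw [mul_smul, inv_smul_eq_iff, hau]
  have hm : (a⁻¹ * g) • baseU' ∈ orthU := smul_mem_orthU f1 baseU'_mem
  obtain ⟨i, hi⟩ := orthClass_cover hm
  have hci : c i = true := by fin_cases i <;> simp [hc0, hc']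
  obtain ⟨x, ⟨d, hd, rfl⟩, hxi⟩ := (hc i).1 hci
  obtain ⟨h, hh, he⟩ := orth_orbit i ⟨hsub2 ⟨d, hd, rfl⟩, hxi⟩ ⟨hm, hi⟩
  have hhd : h * d ∈ KU := mul_mem (hUle hh) hd
  have f2 : ((h * d)⁻¹ * (a⁻¹ * g)) • baseU = baseU := by
    rw [mul_smul, f1, inv_smul_eq_iff]
    exact (MulAction.mem_stabilizer_iff.1 hhd.2).symm
  have f3 : ((h * d)⁻¹ * (a⁻¹ * g)) • baseU' = baseU' := by
    rw [mul_smul, inv_smul_eq_iff, mul_smul h d, he]
  have := mul_mem ha (mul_mem hhd.1 (hle (mem_stdStab_of_fix f2 f3)))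
  rwa [mul_inv_cancel_left, mul_inv_cancel_left] at this

end Cfsg.Agent.Leech
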