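import Cfsg.Agent.EqLemmas

/-!
# Elementary algebra of `sqNorm` and `dotInt` on integer vectors

`dotInt_comm`, linearity, `sqNorm_eq_dotInt`, `sqNorm_add`, `sqNorm_sub`, `sqNorm_neg`, `sqNorm_zsmul`,
`sqNorm_eq_zero`, `card_le_of_orthogonal` (pairwise orthogonal nonzero vectors).
-/

set_option autoImplicit false

namespace Cfsg.Agent.Leech

variable {α : Type*} [Fintype α]

theorem sqNorm_eq_dotInt (x : α → ℤ) : sqNorm x = dotInt x x := by
  simp only [sqNorm, dotInt, sq]

theorem dotInt_comm (x y : α → ℤ) : dotInt x y = dotInt y x := by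
  simp only [dotInt, mul_comm]

theorem dotInt_add_left (x y z : α → ℤ) : dotInt (x + y) z = dotInt x z + dotInt y z := by
  simp only [dotInt, Pi.add_apply, add_mul, Finset.sum_add_distrib]

theorem dotInt_add_right (x y z : α → ℤ) : dotInt x (y + z) = dotInt x y + dotInt x z := by
  simp only [dotInt, Pi.add_apply, mul_add, Finset.sum_add_distrib]

theorem dotInt_neg_left (x y : α → ℤ) : dotInt (-x) y = -dotInt x y := by
  simp only [dotInt, Pi.neg_apply, neg_mul, Finset.sum_neg_distrib]

theorem dotInt_neg_right (x y : α → ℤ) : dotInt x (-y) = -dotInt x y := by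
  simp only [dotInt, Pi.neg_apply, mul_neg, Finset.sum_neg_distrib]

theorem dotInt_sub_left (x y z : α → ℤ) : dotInt (x - y) z = dotInt x z - dotInt y z := by
  rw [sub_eq_add_neg, dotInt_add_left, dotInt_neg_left, sub_eq_add_neg]

theorem dotInt_sub_right (x y z : α → ℤ) : dotInt x (y - z) = dotInt x y - dotInt x z := by
  rw [sub_eq_add_neg, dotInt_add_right, dotInt_neg_right, sub_eq_add_neg]

theorem dotInt_smul_left (c : ℤ) (x y : α → ℤ) : dotInt (c • x) y = c * dotInt x y := by
  simp only [dotInt, Pi.smul_apply, smul_eq_mul, mul_assoc, Finset.mul_sum]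

theorem dotInt_smul_right (c : ℤ) (x y : α → ℤ) : dotInt x (c • y) = c * dotInt x y := by
  rw [dotInt_comm, dotInt_smul_left, dotInt_comm]

theorem dotInt_zero_left (x : α → ℤ) : dotInt 0 x = 0 := by simp [dotInt]

theorem dotInt_sum_left {ι : Type*} (s : Finset ι) (f : ι → α → ℤ) (y : α → ℤ) :
    dotInt (∑ j ∈ s, f j) y = ∑ j ∈ s, dotInt (f j) y := by
  simp only [dotInt, Finset.sum_apply, Finset.sum_mul]
  exact Finset.sum_comm

theorem dotInt_single [DecidableEq α] (x : α → ℤ) (i : α) (s : ℤ) :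
    dotInt x (Pi.single i s) = x i * s := by
  simp only [dotInt]
  rw [Finset.sum_eq_single i]
  · simp
  · intro b _ hb; simp [hb]
  · intro h; exact absurd (Finset.mem_univ i) h

theorem sqNorm_single [DecidableEq α] (i : α) (s : ℤ) : sqNorm (Pi.single i s : α → ℤ) = s * s := by
  rw [sqNorm_eq_dotInt, dotInt_single, Pi.single_eq_same]

theorem sqNorm_add (x y : α → ℤ) : sqNorm (x + y) = sqNorm x + sqNorm y + 2 * dotInt x y := by
  simp only [sqNorm_eq_dotInt, dotInt_add_left, dotInt_add_right, dotInt_comm y x]; ring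

theorem sqNorm_sub (x y : α → ℤ) : sqNorm (x - y) = sqNorm x + sqNorm y - 2 * dotInt x y := by
  simp only [sqNorm_eq_dotInt, dotInt_sub_left, dotInt_sub_right, dotInt_comm y x]; ring

theorem sqNorm_neg (x : α → ℤ) : sqNorm (-x) = sqNorm x := by
  simp [sqNorm]

theorem sqNorm_zero : sqNorm (0 : α → ℤ) = 0 := by simp [sqNorm]

theorem sqNorm_zsmul (c : ℤ) (x : α → ℤ) : sqNorm (c • x) = c ^ 2 * sqNorm x := by
  simp only [sqNorm_eq_dotInt, dotInt_smul_left, dotInt_smul_right]; ring

theorem sqNorm_two_nsmul (x : α → ℤ) : sqNorm (2 • x) = 4 * sqNorm x := by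
  rw [← natCast_zsmul, sqNorm_zsmul]; norm_num

theorem sqNorm_nonneg (x : α → ℤ) : 0 ≤ sqNorm x :=
  Finset.sum_nonneg fun i _ => sq_nonneg (x i)

theorem sq_le_sqNorm (x : α → ℤ) (i : α) : x i ^ 2 ≤ sqNorm x :=
  Finset.single_le_sum (f := fun j => x j ^ 2) (fun j _ => sq_nonneg (x j)) (Finset.mem_univ i)

theorem sqNorm_eq_zero {x : α → ℤ} : sqNorm x = 0 ↔ x = 0 := by
  refine ⟨fun h => funext fun i => ?_, fun h => h ▸ sqNorm_zero⟩
  have := sq_le_sqNorm x i
  rw [h] at this
  exact sq_eq_zero_iff.1 (le_antisymm this (sq_nonneg _))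

/-- Pairwise orthogonal nonzero integer vectors are at most as many as the coordinates. -/
theorem card_le_of_orthogonal (R : Finset (α → ℤ)) (hR : ∀ y ∈ R, y ≠ 0)
    (ho : ∀ y ∈ R, ∀ z ∈ R, y ≠ z → dotInt y z = 0) : R.card ≤ Fintype.card α := by
  have hli : LinearIndependent ℤ (fun y : R => (y : α → ℤ)) := by
    rw [Fintype.linearIndependent_iff]
    intro c hc j
    have h := congrArg (fun v : α → ℤ => dotInt v (j : α → ℤ)) hc
    simp only [dotInt_sum_left, dotInt_smul_left, dotInt_zero_left] at h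
    rw [Finset.sum_eq_single j] at h
    · rcases mul_eq_zero.1 h with h | h
      · exact h
      · exact absurd (sqNorm_eq_zero.1 (by rw [sqNorm_eq_dotInt]; exact h)) (hR _ j.2)
    · intro b _ hb
      rw [ho _ b.2 _ j.2 (fun e => hb (Subtype.ext e)), mul_zero]
    · intro hj; exact absurd (Finset.mem_univ j) hj
  have := hli.fintype_card_le_finrank
  rwa [Module.finrank_fintype_fun_eq_card, Fintype.card_coe] at this

end Cfsg.Agent.Leech
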