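import Cfsg.Agent.Lib.Leech.Basic
import Cfsg.Agent.Lib.Leech.Inner
import Cfsg.Agent.Lib.Golay.Code

/-!
# Evenness, integrality and minimum of the lattice

* `dvd_dotInt` : `8 ∣ dotInt x y`,  `dvd_sqNorm` : `16 ∣ sqNorm x`,  `min_norm` : `32 ≤ sqNorm x`
* `eq_or_eq_neg_or_orthogonal` : congruence modulo `2·leechLattice` of short vectors
* `mem_sign_change`, `mem_signedPerm` : the monomial maps preserve the lattice
-/

set_option autoImplicit false

namespace Cfsg.Agent.Leech

theorem code_dot {v w : GolayPt → ZMod 2} (hv : v ∈ golayCode) (hw : w ∈ golayCode) :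
    ∑ i, v i * w i = 0 :=
  Golay.self_orthogonal hv hw

theorem code_weight {w : GolayPt → ZMod 2} (hw : w ∈ golayCode) :
    (support₂ w).card = 0 ∨ (support₂ w).card = 8 ∨ (support₂ w).card = 12 ∨
      (support₂ w).card = 16 ∨ (support₂ w).card = 24 :=
  Golay.card_mem_weights ⟨w, hw, rfl⟩

theorem zmod2_flip : ∀ p q r : ZMod 2, p ≠ 0 → -q - r = q + r * p := by decide

theorem support₂_mod2 (a : GolayPt → ℤ) :
    support₂ (mod2 a) = Finset.univ.filter fun i => ¬ (2 : ℤ) ∣ a i := by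
  ext i
  simp [support₂, mod2, ZMod.intCast_zmod_eq_zero_iff_dvd]

theorem sum_sq_mod_four (a : GolayPt → ℤ) :
    ∑ i, a i ^ 2 ≡ ((support₂ (mod2 a)).card : ℤ) [ZMOD 4] := by
  rw [support₂_mod2, Finset.card_filter]
  push_cast
  apply Int.modEq_iff_dvd.2
  rw [← Finset.sum_sub_distrib]
  refine Finset.dvd_sum fun i _ => ?_
  by_cases h : (2 : ℤ) ∣ a i
  · simp only [h, not_true_eq_false, if_false]
    obtain ⟨k, hk⟩ := h
    exact ⟨-(k * k), by rw [hk]; ring⟩
  · simp only [h, not_false_eq_true, if_true]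
    obtain ⟨k, hk⟩ : ∃ k, a i = 2 * k + 1 := ⟨a i / 2, by omega⟩
    exact ⟨-(k * k + k), by rw [hk]; ring⟩

theorem card_support_dvd_four {w : GolayPt → ZMod 2} (hw : w ∈ golayCode) :
    (4 : ℤ) ∣ ((support₂ w).card : ℤ) := by
  rcases code_weight hw with h | h | h | h | h <;> rw [h] <;> norm_num

theorem sum_mul_mod_two {a b : GolayPt → ℤ} (ha : mod2 a ∈ golayCode) (hb : mod2 b ∈ golayCode) :
    (2 : ℤ) ∣ ∑ i, a i * b i := by
  have h := code_dot ha hb
  simp only [mod2_apply, ← Int.cast_mul, ← Int.cast_sum] at h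
  exact_mod_cast (ZMod.intCast_zmod_eq_zero_iff_dvd _ 2).1 h

theorem dotInt_rep {x y : GolayPt → ℤ} {m n : ℤ} {a b : GolayPt → ℤ} (hx : ∀ i, x i = m + 2 * a i)
    (hy : ∀ i, y i = n + 2 * b i) :
    dotInt x y = 24 * (m * n) + 2 * m * ∑ i, b i + 2 * n * ∑ i, a i + 4 * ∑ i, a i * b i := by
  simp only [dotInt, hx, hy, Finset.mul_sum]
  rw [show (24 : ℤ) * (m * n) = ∑ _i : GolayPt, m * n by
    rw [Finset.sum_const, Finset.card_univ, card_pt]; simp]
  simp only [← Finset.sum_add_distrib]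
  exact Finset.sum_congr rfl fun i _ => by ring

theorem sqNorm_rep {x : GolayPt → ℤ} {m : ℤ} {a : GolayPt → ℤ} (hx : ∀ i, x i = m + 2 * a i) :
    sqNorm x = 24 * (m * m) + 4 * m * ∑ i, a i + 4 * ∑ i, a i ^ 2 := by
  rw [sqNorm_eq_dotInt, dotInt_rep hx hx]
  simp only [sq]
  ring

theorem dvd_dotInt {x y : GolayPt → ℤ} (hx : x ∈ leechLattice) (hy : y ∈ leechLattice) :
    (8 : ℤ) ∣ dotInt x y := by
  obtain ⟨m, a, h1, h2, h3⟩ := mem_iff.1 hx
  obtain ⟨n, b, k1, k2, k3⟩ := mem_iff.1 hy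
  obtain ⟨p, hp⟩ := h2.symm.dvd
  obtain ⟨q, hq⟩ := k2.symm.dvd
  obtain ⟨r, hr⟩ := sum_mul_mod_two h3 k3
  refine ⟨4 * (m * n) + m * q + n * p + r, ?_⟩
  rw [dotInt_rep h1 k1, hr, eq_add_of_sub_eq hp, eq_add_of_sub_eq hq]; ring

theorem dvd_sqNorm {x : GolayPt → ℤ} (hx : x ∈ leechLattice) : (16 : ℤ) ∣ sqNorm x := by
  obtain ⟨m, a, h1, h2, h3⟩ := mem_iff.1 hx
  obtain ⟨p, hp⟩ := h2.symm.dvd
  obtain ⟨r, hr⟩ : (4 : ℤ) ∣ ∑ i, a i ^ 2 :=
    Int.modEq_zero_iff_dvd.1
      ((sum_sq_mod_four a).trans (Int.modEq_zero_iff_dvd.2 (card_support_dvd_four h3)))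
  refine ⟨2 * (m * m) + m * p + r, ?_⟩
  rw [sqNorm_rep h1, hr, eq_add_of_sub_eq hp]; ring

theorem min_norm {x : GolayPt → ℤ} (hx : x ∈ leechLattice) (h0 : x ≠ 0) : 32 ≤ sqNorm x := by
  obtain ⟨m, a, hm, h1, h2, h3⟩ := exists_rep hx
  rcases hm with rfl | rfl
  · have hn : sqNorm x = 4 * ∑ i, a i ^ 2 := by rw [sqNorm_rep h1]; ring
    rw [hn]
    rcases Finset.eq_empty_or_nonempty (support₂ (mod2 a)) with he | he
    · have hev : ∀ i, (2 : ℤ) ∣ a i := by
        intro i
        have : i ∉ support₂ (mod2 a) := by rw [he]; simp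
        simpa [support₂_mod2] using this
      choose b hb using hev
      have hsq : ∑ i, a i ^ 2 = 4 * sqNorm b := by
        rw [sqNorm, Finset.mul_sum]; exact Finset.sum_congr rfl fun i _ => by rw [hb i]; ring
      have hs : (2 : ℤ) ∣ ∑ i, b i := by
        have : ∑ i, a i = 2 * ∑ i, b i := by
          rw [Finset.mul_sum]; exact Finset.sum_congr rfl fun i _ => hb i
        rw [this] at h2
        simp only [Int.ModEq] at h2
        omega
      have hpar : (2 : ℤ) ∣ sqNorm b - ∑ i, b i := by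
        rw [sqNorm, ← Finset.sum_sub_distrib]
        refine Finset.dvd_sum fun i _ => ?_
        rw [sq, show b i * b i - b i = b i * (b i - 1) by ring]
        exact (Int.even_mul_pred_self _).two_dvd
      have hb0 : b ≠ 0 := by
        intro h; apply h0; funext i
        rw [h1 i, hb i, h]; simp
      have := sqNorm_nonneg b
      have : sqNorm b ≠ 0 := fun h => hb0 (sqNorm_eq_zero.1 h)
      omega
    · have hcard : 8 ≤ (support₂ (mod2 a)).card := by
        have := he.card_pos
        rcases code_weight h3 with h | h | h | h | h <;> omega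
      have hle : ((support₂ (mod2 a)).card : ℤ) ≤ ∑ i, a i ^ 2 := by
        rw [Finset.card_eq_sum_ones, Nat.cast_sum]
        refine (Finset.sum_le_sum fun i hi => ?_).trans
          (Finset.sum_le_sum_of_subset_of_nonneg (Finset.subset_univ _) fun i _ _ => sq_nonneg (a i))
        rw [support₂_mod2, Finset.mem_filter] at hi
        have : a i ≠ 0 := fun h => hi.2 (h ▸ dvd_zero _)
        have := sq_pos_of_ne_zero this
        push_cast; omega
      omega
  · have h24 : (24 : ℤ) ≤ sqNorm x := by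
      have h : ∀ i, 1 ≤ x i ^ 2 := by
        intro i
        have hne : x i ≠ 0 := by rw [h1 i]; omega
        have := sq_pos_of_ne_zero hne
        omega
      calc (24 : ℤ) = ∑ _i : GolayPt, 1 := by simp
        _ ≤ sqNorm x := Finset.sum_le_sum fun i _ => h i
    obtain ⟨r, hr⟩ := dvd_sqNorm hx
    omega

/-- Two distinct congruent short vectors are opposite, or orthogonal of squared length 64. -/
theorem eq_or_eq_neg_or_orthogonal {v w : GolayPt → ℤ}
    (hc : ∃ z ∈ leechLattice, v - w = 2 • z) (hv : v ∈ leechLattice)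
    (hvn : sqNorm v ≤ 64) (hwn : sqNorm w ≤ 64) :
    v = w ∨ v = -w ∨ (sqNorm v = 64 ∧ sqNorm w = 64 ∧ dotInt v w = 0) := by
  obtain ⟨z, hz, hzd⟩ := hc
  by_cases h1 : v = w
  · exact Or.inl h1
  by_cases h2 : v = -w
  · exact Or.inr (Or.inl h2)
  refine Or.inr (Or.inr ?_)
  have e1 : sqNorm (v - w) = 4 * sqNorm z := by rw [hzd, sqNorm_two_nsmul]
  have hu : v + w = 2 • (v - z) := by
    rw [smul_sub, ← hzd, two_nsmul]; abel
  have e2 : sqNorm (v + w) = 4 * sqNorm (v - z) := by rw [hu, sqNorm_two_nsmul]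
  have m1 := min_norm hz (fun h => h1 (sub_eq_zero.1 (by rw [hzd, h, smul_zero])))
  have m2 := min_norm (leechLattice.sub_mem hv hz)
    (fun h => h2 (eq_neg_of_add_eq_zero_left (by rw [hu, h, smul_zero])))
  rw [sqNorm_sub] at e1
  rw [sqNorm_add] at e2
  omega

/-- Sign changes on a code word preserve the lattice. -/
theorem mem_sign_change {c : Finset GolayPt}
    (hc : c ∈ supports (golayCode : Set (GolayPt → ZMod 2))) {x : GolayPt → ℤ}
    (hx : x ∈ leechLattice) : (fun i => if i ∈ c then -x i else x i) ∈ leechLattice := by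
  obtain ⟨w, hw, rfl⟩ := hc
  obtain ⟨m, a, h1, h2, h3⟩ := mem_iff.1 hx
  refine mem_iff.2 ⟨m, fun i => if i ∈ support₂ w then -a i - m else a i, fun i => ?_, ?_, ?_⟩
  · beta_reduce
    split_ifs with h <;> rw [h1 i] <;> ring
  · have hsplit : ∑ i, (if i ∈ support₂ w then -a i - m else a i)
        = ∑ i, a i - 2 * ∑ i ∈ support₂ w, a i - m * (support₂ w).card := by
      rw [Finset.mul_sum, mul_comm m, ← nsmul_eq_mul, ← Finset.sum_const, sub_sub,
        ← Finset.sum_add_distrib]
      rw [← Finset.sum_filter_add_sum_filter_not Finset.univ (· ∈ support₂ w) a,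
        Finset.filter_univ_mem, ← Finset.sum_filter_add_sum_filter_not Finset.univ (· ∈ support₂ w),
        Finset.filter_univ_mem]
      rw [Finset.sum_congr rfl (g := fun i => -a i - m) fun i hi => if_pos hi,
        Finset.sum_congr rfl (g := a) fun i hi => if_neg (Finset.mem_filter.1 hi).2]
      simp only [Finset.sum_sub_distrib, Finset.sum_neg_distrib, Finset.sum_add_distrib,
        ← Finset.mul_sum]
      ring
    have he : (2 : ℤ) ∣ ∑ i ∈ support₂ w, a i := by
      have h := code_dot hw h3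
      have h' : ((∑ i ∈ support₂ w, a i : ℤ) : ZMod 2) = 0 := by
        rw [Int.cast_sum, ← h, support₂, Finset.sum_filter]
        refine Finset.sum_congr rfl fun i _ => ?_
        simp only [mod2_apply]
        generalize w i = p
        generalize (a i : ZMod 2) = q
        revert p q
        decide
      exact_mod_cast (ZMod.intCast_zmod_eq_zero_iff_dvd _ 2).1 h'
    obtain ⟨r, hr⟩ := he
    obtain ⟨q, hq⟩ := card_support_dvd_four hw
    rw [hsplit, hr, hq]
    refine (Int.modEq_iff_dvd.2 ⟨r + m * q, by ring⟩).trans h2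
  · have h := golayCode.add_mem h3 (golayCode.smul_mem (m : ZMod 2) hw)
    convert h using 1
    funext i
    simp only [mod2_apply, Pi.add_apply, Pi.smul_apply, smul_eq_mul, support₂, Finset.mem_filter,
      Finset.mem_univ, true_and]
    split_ifs with hi
    · push_cast
      exact zmod2_flip _ _ _ hi
    · rw [not_not] at hi; simp [hi]

theorem mem_signedPerm {σ : Equiv.Perm GolayPt} (hσ : σ ∈ M24) {c : Finset GolayPt}
    (hc : c ∈ supports (golayCode : Set (GolayPt → ZMod 2))) {x : GolayPt → ℤ}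
    (hx : x ∈ leechLattice) : signedPerm σ c x ∈ leechLattice :=
  mem_sign_change hc (mem_comp_perm ((Subgroup.inv_mem_iff _).2 hσ) hx)

end Cfsg.Agent.Leech
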