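import Cfsg.Agent.Lib.Leech.Frames

/-!
# Elements of `Co0`: constructors, linearity, monomial elements

* `vec g v` : the coordinate vector of `g • v`;  `smul_add`, `smul_neg`, `smul_zsmul`, `sqNorm_smul`,
  `dotInt_smul`, `congr_smul`
* `mkCo0` : an element from a bijective linear isometry of coordinates preserving the lattice
* `mono σ hσ c hc` : the monomial element, `vec_mono : _ = signedPerm σ c _`;  `negOne`
* `ext_frame` : an element is determined by the images of `8 eᵢ`
-/

set_option autoImplicit false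

namespace Cfsg.Agent.Leech

/-- The lattice vector with given coordinates. -/
abbrev mkVec (x : GolayPt → ℤ) (hx : x ∈ leechLattice) : leechLattice := ⟨x, hx⟩

/-- The lattice vector `8 eᵢ`. -/
def eightVec (i : GolayPt) : leechLattice :=
  ⟨Pi.single i 8, by simpa using single8_mem i 1⟩

theorem coe_eightVec (i : GolayPt) : (eightVec i : GolayPt → ℤ) = Pi.single i 8 := rfl

theorem sqNorm_eightVec (i : GolayPt) : sqNorm (eightVec i : GolayPt → ℤ) = 64 := by
  rw [coe_eightVec, sqNorm_single]; norm_num

theorem smul_vadd (g : Co0) (v w : leechLattice) : g • (v + w) = g • v + g • w := g.2.1 v w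

/-- An element of `Co0` as an additive map. -/
def addHom (g : Co0) : leechLattice →+ leechLattice :=
  AddMonoidHom.mk' (fun v => g • v) (smul_vadd g)

theorem addHom_apply (g : Co0) (v : leechLattice) : addHom g v = g • v := rfl

theorem smul_vzero (g : Co0) : g • (0 : leechLattice) = 0 := map_zero (addHom g)

theorem smul_vneg (g : Co0) (v : leechLattice) : g • (-v) = -(g • v) := map_neg (addHom g) v

theorem smul_vsub (g : Co0) (v w : leechLattice) : g • (v - w) = g • v - g • w :=
  map_sub (addHom g) v w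

theorem smul_zsmul (g : Co0) (c : ℤ) (v : leechLattice) : g • (c • v) = c • (g • v) :=
  map_zsmul (addHom g) c v

theorem smul_nsmul (g : Co0) (c : ℕ) (v : leechLattice) : g • (c • v) = c • (g • v) :=
  map_nsmul (addHom g) c v

theorem sqNorm_smul (g : Co0) (v : leechLattice) :
    sqNorm ((g • v : leechLattice) : GolayPt → ℤ) = sqNorm (v : GolayPt → ℤ) := g.2.2 v

theorem dotInt_smul (g : Co0) (v w : leechLattice) :
    dotInt ((g • v : leechLattice) : GolayPt → ℤ) ((g • w : leechLattice) : GolayPt → ℤ)
      = dotInt (v : GolayPt → ℤ) (w : GolayPt → ℤ) := by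
  have h := sqNorm_smul g (v + w)
  rw [smul_vadd, AddSubgroup.coe_add, AddSubgroup.coe_add, sqNorm_add, sqNorm_add,
    sqNorm_smul, sqNorm_smul] at h
  omega

theorem congr_smul (g : Co0) {v w : leechLattice} (h : Congr (v : GolayPt → ℤ) (w : GolayPt → ℤ)) :
    Congr ((g • v : leechLattice) : GolayPt → ℤ) ((g • w : leechLattice) : GolayPt → ℤ) := by
  obtain ⟨z, hz, he⟩ := h
  refine ⟨_, (g • mkVec z hz).2, ?_⟩
  have h2 : v - w = (2 : ℕ) • mkVec z hz := Subtype.ext (by simpa using he)
  have := congrArg (fun t : leechLattice => ((g • t : leechLattice) : GolayPt → ℤ)) h2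
  simp only [smul_vsub, smul_nsmul] at this
  exact this

/-- Build an element of `Co0` from a linear isometry of the coordinates with inverse. -/
def mkCo0 (f f' : (GolayPt → ℤ) → GolayPt → ℤ) (hf : ∀ x ∈ leechLattice, f x ∈ leechLattice)
    (hf' : ∀ x ∈ leechLattice, f' x ∈ leechLattice) (h1 : ∀ x, f' (f x) = x) (h2 : ∀ x, f (f' x) = x)
    (hadd : ∀ x y, f (x + y) = f x + f y) (hn : ∀ x, sqNorm (f x) = sqNorm x) : Co0 :=
  ⟨{ toFun := fun v => ⟨f v, hf v v.2⟩
     invFun := fun v => ⟨f' v, hf' v v.2⟩
     left_inv := fun _ => Subtype.ext (h1 _)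
     right_inv := fun _ => Subtype.ext (h2 _) },
   fun _ _ => Subtype.ext (hadd _ _), fun _ => hn _⟩

theorem vec_mkCo0 (f f' : (GolayPt → ℤ) → GolayPt → ℤ) (hf hf' h1 h2 hadd hn) (v : leechLattice) :
    ((mkCo0 f f' hf hf' h1 h2 hadd hn • v : leechLattice) : GolayPt → ℤ) = f v := rfl

/-- The negation. -/
def negOne : Co0 :=
  mkCo0 (fun x => -x) (fun x => -x) (fun _ h => leechLattice.neg_mem h)
    (fun _ h => leechLattice.neg_mem h) neg_neg neg_neg neg_add sqNorm_neg

theorem vec_negOne (v : leechLattice) :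
    ((negOne • v : leechLattice) : GolayPt → ℤ) = -(v : GolayPt → ℤ) := rfl

theorem negOne_smul (v : leechLattice) : negOne • v = -v := rfl

theorem co0_ext {g h : Co0} (H : ∀ v : leechLattice, g • v = h • v) : g = h :=
  Subtype.ext (Equiv.ext H)

theorem negOne_mem_center : negOne ∈ Subgroup.center Co0 := by
  rw [Subgroup.mem_center_iff]
  intro g
  refine co0_ext fun v => ?_
  rw [mul_smul, mul_smul, negOne_smul, negOne_smul, smul_vneg]

theorem signedPerm_add (σ : Equiv.Perm GolayPt) (c : Finset GolayPt) (x y : GolayPt → ℤ) :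
    signedPerm σ c (x + y) = signedPerm σ c x + signedPerm σ c y := by
  funext i
  simp only [signedPerm, Pi.add_apply]
  split_ifs <;> ring

theorem sqNorm_signedPerm (σ : Equiv.Perm GolayPt) (c : Finset GolayPt) (x : GolayPt → ℤ) :
    sqNorm (signedPerm σ c x) = sqNorm x := by
  rw [sqNorm, sqNorm, ← Equiv.sum_comp σ.symm fun i => x i ^ 2]
  refine Finset.sum_congr rfl fun i _ => ?_
  simp only [signedPerm]
  split_ifs <;> ring

theorem signedPerm_single (σ : Equiv.Perm GolayPt) (c : Finset GolayPt) (i : GolayPt) (s : ℤ) :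
    signedPerm σ c (Pi.single i s) = Pi.single (σ i) (if σ i ∈ c then -s else s) := by
  funext l
  simp only [signedPerm]
  by_cases hl : l = σ i
  · subst hl; simp
  · have : σ.symm l ≠ i := fun h => hl (by rw [← h, Equiv.apply_symm_apply])
    rw [Pi.single_eq_of_ne hl, Pi.single_eq_of_ne this]
    simp

/-- The monomial element given by a permutation and a sign set. -/
def mono (σ : Equiv.Perm GolayPt) (hσ : σ ∈ M24) (c : Finset GolayPt)
    (hc : c ∈ supports (golayCode : Set (GolayPt → ZMod 2))) : Co0 :=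
  mkCo0 (signedPerm σ c) (fun x i => if σ i ∈ c then -x (σ i) else x (σ i))
    (fun _ h => mem_signedPerm hσ hc h)
    (fun x h => by
      have h2 := mem_comp_perm hσ (mem_sign_change hc h)
      convert h2 using 1)
    (fun x => funext fun i => by simp only [signedPerm, Equiv.symm_apply_apply]; split_ifs <;> simp)
    (fun x => funext fun i => by simp only [signedPerm, Equiv.apply_symm_apply]; split_ifs <;> simp)
    (signedPerm_add σ c) (sqNorm_signedPerm σ c)

theorem vec_mono (σ : Equiv.Perm GolayPt) (hσ : σ ∈ M24) (c : Finset GolayPt)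
    (hc : c ∈ supports (golayCode : Set (GolayPt → ZMod 2))) (v : leechLattice) :
    ((mono σ hσ c hc • v : leechLattice) : GolayPt → ℤ) = signedPerm σ c v := rfl

/-- The sign change on a code word. -/
def signEl (c : Finset GolayPt) (hc : c ∈ supports (golayCode : Set (GolayPt → ZMod 2))) : Co0 :=
  mono 1 M24.one_mem c hc

theorem vec_signEl (c : Finset GolayPt) (hc : c ∈ supports (golayCode : Set (GolayPt → ZMod 2)))
    (v : leechLattice) :
    ((signEl c hc • v : leechLattice) : GolayPt → ℤ) =
      fun i => if i ∈ c then -(v : GolayPt → ℤ) i else (v : GolayPt → ℤ) i := rfl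

theorem eight_smul_eq_sum (v : leechLattice) :
    (8 : ℤ) • v = ∑ i, (v : GolayPt → ℤ) i • eightVec i := by
  refine Subtype.ext (funext fun l => ?_)
  rw [AddSubgroup.val_finsetSum, Finset.sum_apply]
  simp only [AddSubgroup.coe_zsmul, Pi.smul_apply, coe_eightVec, Pi.single_apply, smul_eq_mul,
    mul_ite, mul_zero, Finset.sum_ite_eq, Finset.mem_univ, if_true]
  exact mul_comm _ _

/-- An element of `Co0` is determined by the images of the vectors `8 eᵢ`. -/
theorem ext_frame {g h : Co0} (H : ∀ i, g • eightVec i = h • eightVec i) : g = h := by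
  refine co0_ext fun v => ?_
  have e : (8 : ℤ) • (g • v) = (8 : ℤ) • (h • v) := by
    rw [← smul_zsmul, ← smul_zsmul, eight_smul_eq_sum, ← addHom_apply, ← addHom_apply, map_sum,
      map_sum]
    refine Finset.sum_congr rfl fun i _ => ?_
    rw [addHom_apply, addHom_apply, smul_zsmul, smul_zsmul, H i]
  refine Subtype.ext (funext fun l => ?_)
  have := congrFun (congrArg Subtype.val e) l
  simpa using this

theorem smul_eightVec_cases (g : Co0) (h : ∀ v : leechLattice, (v : GolayPt → ℤ) ∈ stdCross →
    ((g • v : leechLattice) : GolayPt → ℤ) ∈ stdCross) (i : GolayPt) :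
    ∃ j s, (s = 8 ∨ s = -8) ∧ ((g • eightVec i : leechLattice) : GolayPt → ℤ) = Pi.single j s :=
  h (eightVec i) ⟨i, 8, Or.inl rfl, rfl⟩

end Cfsg.Agent.Leech
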