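import Cfsg.Agent.Lib.Leech.Generation
import Cfsg.Agent.Lib.Leech.Co0Basic

/-!
# Elements of `Co0` given by integral matrices

* `inLatL`, `mem_of_inLatL` : a Boolean test for membership
* `mem_of_gens` : a subgroup containing the standard generators contains the lattice
* `MatOK`, `matEl`, `matEl_smul` : the element of an orthogonal matrix scaled by `8`
* `matOKB`, `matOK_of_lists` : the check on lists of entries;  `matEl_smul_of_pack` : images
  checked through packed columns
-/

set_option autoImplicit false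

open scoped Matrix

namespace Cfsg.Agent.Leech

theorem mem_of_gens (A : AddSubgroup (GolayPt → ℤ))
    (h1 : ∀ i, (Pi.single i 4 - Pi.single none 4 : GolayPt → ℤ) ∈ A)
    (h2 : (Pi.single none 8 : GolayPt → ℤ) ∈ A)
    (h3 : ∀ r ∈ Golay.rows, (fun i => if r.testBit (Golay.idx i) then 2 else 0 : GolayPt → ℤ) ∈ A)
    (h4 : oddMin ∈ A) {x : GolayPt → ℤ} (hx : x ∈ leechLattice) : x ∈ A := by
  have four : ∀ b : GolayPt → ℤ, (2 : ℤ) ∣ ∑ i, b i → (4 : ℤ) • b ∈ A := by
    rintro b ⟨k, hk⟩
    have he : (4 : ℤ) • b = ∑ i, b i • (Pi.single i 4 - Pi.single none 4 : GolayPt → ℤ)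
        + k • (Pi.single none 8 : GolayPt → ℤ) := by
      funext l
      simp only [Pi.smul_apply, Pi.add_apply, Finset.sum_apply, Pi.sub_apply, smul_eq_mul, mul_sub,
        Finset.sum_sub_distrib, Pi.single_apply, mul_ite, mul_zero]
      rw [Finset.sum_ite_eq]
      by_cases hl : l = none
      · subst hl; simp only [Finset.mem_univ, if_true, ← Finset.sum_mul, hk]; ring
      · simp [hl, mul_comm]
    rw [he]
    exact A.add_mem (A.sum_mem fun i _ => A.zsmul_mem (h1 i) _) (A.zsmul_mem h2 _)
  have lift : ∀ gs : List ℕ, (∀ g ∈ gs, g ∈ Golay.rows) → ∀ y, ∃ a : GolayPt → ℤ,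
      mod2 a = Golay.word (Golay.encAux gs y) ∧ (4 : ℤ) ∣ ∑ i, a i ∧ (2 : ℤ) • a ∈ A := by
    intro gs
    induction gs with
    | nil => exact fun _ _ => ⟨0, by simp [Golay.encAux, Golay.word_zero, mod2_zero],
        by simp, by rw [smul_zero]; exact A.zero_mem⟩
    | cons r gs ih =>
      intro hr y
      obtain ⟨a, a1, a2, a3⟩ := ih (fun g hg => hr g (List.mem_cons_of_mem _ hg)) (y / 2)
      rw [Golay.encAux, Golay.word_xor]
      split
      · refine ⟨(fun i => if r.testBit (Golay.idx i) then 1 else 0) + a, ?_, ?_, ?_⟩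
        · rw [mod2_add, a1]
          congr 1
          funext i
          simp only [mod2, Golay.word]
          split_ifs <;> simp_all
        · have hk : ∀ r ∈ Golay.rows, (4 : ℤ) ∣ ∑ i : GolayPt,
              (if r.testBit (Golay.idx i) then 1 else 0 : ℤ) := by decide +kernel
          simp only [Pi.add_apply, Finset.sum_add_distrib]
          exact dvd_add (hk r (hr r List.mem_cons_self)) a2
        · rw [smul_add]
          refine A.add_mem ?_ a3
          convert h3 r (hr r List.mem_cons_self) using 1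
          funext i
          simp only [Pi.smul_apply, smul_eq_mul]
          split_ifs <;> norm_num
      · exact ⟨a, by rw [a1, Golay.word_zero, zero_add], a2, a3⟩
  have even : ∀ x ∈ leechLattice, (2 : ℤ) ∣ x none → x ∈ A := by
    intro x hx h
    obtain ⟨m, a, hm, k1, k2, k3⟩ := exists_rep hx
    have hm0 : m = 0 := by have := k1 none; omega
    subst hm0
    obtain ⟨y, -, hy⟩ := Golay.mem_golayCode_iff.1 k3
    obtain ⟨a', ha1, ha2, ha3⟩ := lift Golay.rows (fun _ h => h) y
    replace ha1 : mod2 a' = mod2 a := ha1.trans hy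
    have hd : ∀ i, (2 : ℤ) ∣ a i - a' i := fun i => by
      have h0 : ((a i - a' i : ℤ) : ZMod 2) = 0 := by
        have := congrFun ha1 i
        simp only [mod2] at this
        rw [Int.cast_sub, this, sub_self]
      exact (ZMod.intCast_zmod_eq_zero_iff_dvd _ 2).1 h0
    choose b hb using hd
    have hbs : (2 : ℤ) ∣ ∑ i, b i := by
      have : ∑ i, a i - ∑ i, a' i = 2 * ∑ i, b i := by
        rw [← Finset.sum_sub_distrib, Finset.mul_sum]
        exact Finset.sum_congr rfl fun i _ => hb i
      simp only [Int.ModEq] at k2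
      omega
    have hx' : x = (2 : ℤ) • a' + (4 : ℤ) • b := funext fun i => by
      have := hb i
      simp only [Pi.add_apply, Pi.smul_apply, smul_eq_mul, k1 i]
      omega
    rw [hx']
    exact A.add_mem ha3 (four b hbs)
  by_cases h : (2 : ℤ) ∣ x none
  · exact even x hx h
  · have h' := even _ (leechLattice.sub_mem hx oddMin_mem) (by
      simp only [Pi.sub_apply, oddMin, if_true]; omega)
    simpa using A.add_mem h' h4

/-- A vector given by its entries in the order of `Golay.idx`. -/
def vOf (l : List ℤ) : GolayPt → ℤ := fun i => l.getD (Golay.idx i) 0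

/-- The standard generators as lists. -/
def genLists : List (List ℤ) :=
  ((List.range 24).map fun k => (List.range 24).map fun j =>
      (if j = k then 4 else 0) - (if j = Golay.idx none then 4 else 0)) ++
    ((List.range 24).map fun j => if j = Golay.idx none then (8 : ℤ) else 0) ::
    ((List.range 24).map fun j => if j = Golay.idx none then (-3 : ℤ) else 1) ::
    Golay.rows.map fun r => (List.range 24).map fun j => if r.testBit j then (2 : ℤ) else 0

theorem genLists_spec : (∀ g ∈ genLists, g.length = 24) ∧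
    (∀ i : GolayPt, ∃ g ∈ genLists, vOf g = (Pi.single i 4 - Pi.single none 4 : GolayPt → ℤ)) ∧
    (∃ g ∈ genLists, vOf g = (Pi.single none 8 : GolayPt → ℤ)) ∧
    (∃ g ∈ genLists, vOf g = oddMin) ∧
    ∀ r ∈ Golay.rows, ∃ g ∈ genLists, vOf g = fun i => if r.testBit (Golay.idx i) then 2 else 0 := by
  decide +kernel

/-- The image divided by `8` is an integral lattice vector. -/
def imageOK (M : Matrix GolayPt GolayPt ℤ) (x : GolayPt → ℤ) : Prop :=
  (∀ i, (M *ᵥ x) i % 8 = 0) ∧ (fun i => (M *ᵥ x) i / 8) ∈ leechLattice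

/-- The images of the standard generators are integral lattice vectors. -/
def GenImages (M : Matrix GolayPt GolayPt ℤ) : Prop := ∀ g ∈ genLists, imageOK M (vOf g)

/-- `M / 8` is orthogonal and preserves the lattice with its inverse. -/
def MatOK (M : Matrix GolayPt GolayPt ℤ) : Prop :=
  Mᵀ * M = (64 : ℤ) • (1 : Matrix GolayPt GolayPt ℤ) ∧
    M * Mᵀ = (64 : ℤ) • (1 : Matrix GolayPt GolayPt ℤ) ∧
    GenImages M ∧ GenImages Mᵀ

theorem exists_image {M : Matrix GolayPt GolayPt ℤ} (h : GenImages M)
    {x : GolayPt → ℤ} (hx : x ∈ leechLattice) : ∃ y ∈ leechLattice, M *ᵥ x = (8 : ℤ) • y := by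
  let A : AddSubgroup (GolayPt → ℤ) :=
    { carrier := {x | ∃ y ∈ leechLattice, M *ᵥ x = (8 : ℤ) • y}
      zero_mem' := ⟨0, leechLattice.zero_mem, by rw [Matrix.mulVec_zero, smul_zero]⟩
      add_mem' := by
        rintro a b ⟨y, hy, e⟩ ⟨z, hz, e'⟩
        exact ⟨y + z, leechLattice.add_mem hy hz, by rw [Matrix.mulVec_add, e, e', smul_add]⟩
      neg_mem' := by
        rintro a ⟨y, hy, e⟩
        exact ⟨-y, leechLattice.neg_mem hy, by rw [Matrix.mulVec_neg, e, smul_neg]⟩ }
  have good : ∀ x, imageOK M x → x ∈ A := by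
    intro x hx
    refine ⟨_, hx.2, funext fun i => ?_⟩
    have := hx.1 i
    simp only [Pi.smul_apply, smul_eq_mul]
    omega
  obtain ⟨-, h1, h2, h3, h4⟩ := genLists_spec
  refine mem_of_gens A (fun i => ?_) ?_ (fun r hr => ?_) ?_ hx
  · obtain ⟨g, hg, e⟩ := h1 i; exact e ▸ good _ (h g hg)
  · obtain ⟨g, hg, e⟩ := h2; exact e ▸ good _ (h g hg)
  · obtain ⟨g, hg, e⟩ := h4 r hr; exact e ▸ good _ (h g hg)
  · obtain ⟨g, hg, e⟩ := h3; exact e ▸ good _ (h g hg)

theorem sqNorm_mulVec {M : Matrix GolayPt GolayPt ℤ} (h : Mᵀ * M = (64 : ℤ) • 1)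
    (x : GolayPt → ℤ) : sqNorm (M *ᵥ x) = 64 * sqNorm x := by
  have e : ∀ y : GolayPt → ℤ, sqNorm y = y ⬝ᵥ y := fun y => by
    simp [sqNorm, dotProduct, sq]
  rw [e, e, Matrix.dotProduct_mulVec, ← Matrix.mulVec_transpose, Matrix.mulVec_mulVec, h,
    Matrix.smul_mulVec, Matrix.one_mulVec, smul_dotProduct, smul_eq_mul]

/-- The image of a lattice vector. -/
noncomputable def matImage {M : Matrix GolayPt GolayPt ℤ} (h : GenImages M)
    (v : leechLattice) : leechLattice :=
  ⟨(exists_image h v.2).choose, (exists_image h v.2).choose_spec.1⟩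

theorem matImage_spec {M : Matrix GolayPt GolayPt ℤ} (h : GenImages M)
    (v : leechLattice) :
    M *ᵥ (v : GolayPt → ℤ) = (8 : ℤ) • (matImage h v : GolayPt → ℤ) :=
  (exists_image h v.2).choose_spec.2

theorem smul_sixtyfour (y : GolayPt → ℤ) : (64 : ℤ) • y = (8 : ℤ) • (8 : ℤ) • y := by
  rw [smul_smul]; norm_num

/-- The element of an orthogonal matrix. -/
noncomputable def matEl (M : Matrix GolayPt GolayPt ℤ) (h : MatOK M) : Co0 :=
  ⟨{ toFun := matImage h.2.2.1
     invFun := matImage h.2.2.2
     left_inv := fun v => Subtype.ext (smul_right_injective (GolayPt → ℤ) (by norm_num : (64 : ℤ) ≠ 0) (by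
      show (64 : ℤ) • (matImage h.2.2.2 (matImage h.2.2.1 v) : GolayPt → ℤ) = (64 : ℤ) • _
      rw [smul_sixtyfour, ← matImage_spec h.2.2.2, ← Matrix.mulVec_smul,
        ← matImage_spec h.2.2.1, Matrix.mulVec_mulVec, h.1, Matrix.smul_mulVec, Matrix.one_mulVec,
        smul_sixtyfour]))
     right_inv := fun v => Subtype.ext (smul_right_injective (GolayPt → ℤ) (by norm_num : (64 : ℤ) ≠ 0) (by
      show (64 : ℤ) • (matImage h.2.2.1 (matImage h.2.2.2 v) : GolayPt → ℤ) = (64 : ℤ) • _
      rw [smul_sixtyfour, ← matImage_spec h.2.2.1, ← Matrix.mulVec_smul,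
        ← matImage_spec h.2.2.2, Matrix.mulVec_mulVec, h.2.1, Matrix.smul_mulVec, Matrix.one_mulVec,
        smul_sixtyfour])) },
    fun v w => Subtype.ext (smul_right_injective (GolayPt → ℤ) (by norm_num : (8 : ℤ) ≠ 0) (by
      show (8 : ℤ) • (matImage h.2.2.1 (v + w) : GolayPt → ℤ) =
        (8 : ℤ) • ((matImage h.2.2.1 v : GolayPt → ℤ) + (matImage h.2.2.1 w : GolayPt → ℤ))
      rw [smul_add, ← matImage_spec, ← matImage_spec, ← matImage_spec, AddSubgroup.coe_add,
        Matrix.mulVec_add])),
    fun v => by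
      have hs := sqNorm_mulVec h.1 (v : GolayPt → ℤ)
      rw [matImage_spec h.2.2.1, sqNorm_zsmul] at hs
      show sqNorm (matImage h.2.2.1 v : GolayPt → ℤ) = _
      omega⟩

/-- The images are computed by the matrix. -/
theorem matEl_smul (M : Matrix GolayPt GolayPt ℤ) (h : MatOK M) {v u : leechLattice}
    (he : ∀ i, (M *ᵥ (v : GolayPt → ℤ)) i = 8 * (u : GolayPt → ℤ) i) : matEl M h • v = u := by
  refine Subtype.ext (smul_right_injective (GolayPt → ℤ) (by norm_num : (8 : ℤ) ≠ 0) ?_)
  show (8 : ℤ) • (matImage h.2.2.1 v : GolayPt → ℤ) = (8 : ℤ) • (u : GolayPt → ℤ)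
  rw [← matImage_spec]
  exact funext he

/-! ### Lists of entries -/

/-! Names for small entries, for quick elaboration of data. -/

/-- The entry `0`. -/
def ep0 : ℤ := 0

/-- The entry `1`. -/
def ep1 : ℤ := 1

/-- The entry `2`. -/
def ep2 : ℤ := 2

/-- The entry `3`. -/
def ep3 : ℤ := 3

/-- The entry `4`. -/
def ep4 : ℤ := 4

/-- The entry `5`. -/
def ep5 : ℤ := 5

/-- The entry `6`. -/
def ep6 : ℤ := 6

/-- The entry `7`. -/
def ep7 : ℤ := 7

/-- The entry `8`. -/
def ep8 : ℤ := 8

/-- The entry `-1`. -/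
def em1 : ℤ := -1

/-- The entry `-2`. -/
def em2 : ℤ := -2

/-- The entry `-3`. -/
def em3 : ℤ := -3

/-- The entry `-4`. -/
def em4 : ℤ := -4

/-- The entry `-5`. -/
def em5 : ℤ := -5

/-- The entry `-6`. -/
def em6 : ℤ := -6

/-- The entry `-7`. -/
def em7 : ℤ := -7

/-- The entry `-8`. -/
def em8 : ℤ := -8



/-- A matrix given by its rows in the order of `Golay.idx`. -/
def toMat (L : List (List ℤ)) : Matrix GolayPt GolayPt ℤ :=
  Matrix.of fun i => vOf (L.getD (Golay.idx i) [])

/-- The scalar product of two lists. -/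
def dotL : List ℤ → List ℤ → ℤ
  | a :: l, b :: m => a * b + dotL l m
  | [], _ => 0
  | _ :: _, [] => 0

/-- A list as one number, in lanes of 20 bits. -/
def pack : List ℤ → ℤ
  | [] => 0
  | a :: l => a + 1048576 * pack l

theorem dotL_eq_sum : ∀ (r x : List ℤ),
    dotL r x = ∑ j ∈ Finset.range x.length, r.getD j 0 * x.getD j 0
  | [], x => by simp [dotL]
  | _ :: _, [] => by simp [dotL]
  | a :: r, b :: x => by
    rw [dotL, dotL_eq_sum r x, List.length_cons, Finset.sum_range_succ']
    simp [add_comm]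

theorem sum_idx (f : ℕ → ℤ) : ∑ i : GolayPt, f (Golay.idx i) = ∑ k ∈ Finset.range 24, f k :=
  Finset.sum_bij' (fun i _ => Golay.idx i) (fun k _ => Golay.pt k)
    (fun i _ => Finset.mem_range.2 (Golay.idx_lt i)) (fun _ _ => Finset.mem_univ _)
    (fun i _ => Golay.pt_idx i) (fun _ hk => Golay.idx_pt (Finset.mem_range.1 hk)) fun _ _ => rfl

theorem vOf_dotProduct (r : List ℤ) {x : List ℤ} (hx : x.length = 24) :
    vOf r ⬝ᵥ vOf x = dotL r x := by
  rw [dotL_eq_sum, hx, dotProduct, ← sum_idx fun k => r.getD k 0 * x.getD k 0]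
  rfl

theorem toMat_mulVec (L : List (List ℤ)) {x : List ℤ} (hx : x.length = 24) :
    toMat L *ᵥ vOf x = vOf (L.map fun r => dotL r x) := by
  funext i
  show vOf (L.getD (Golay.idx i) []) ⬝ᵥ vOf x = _
  rw [vOf_dotProduct _ hx]
  show _ = (L.map fun r => dotL r x).getD (Golay.idx i) 0
  rw [show (0 : ℤ) = dotL [] x from rfl, List.getD_map (f := fun r => dotL r x)]

/-- The mask of the odd entries. -/
def oddMask : List ℤ → ℕ
  | [] => 0
  | a :: l => Nat.bit (a % 2 == 1) (oddMask l)

theorem testBit_oddMask : ∀ (l : List ℤ) (k : ℕ), (oddMask l).testBit k = (l.getD k 0 % 2 == 1)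
  | [], k => by simp [oddMask]
  | a :: l, 0 => by rw [oddMask, Nat.testBit_bit_zero, List.getD_cons_zero]
  | a :: l, k + 1 => by
    rw [oddMask, Nat.testBit_bit_succ, List.getD_cons_succ, testBit_oddMask l k]

/-- The sum of the entries. -/
def sumL : List ℤ → ℤ
  | [] => 0
  | a :: l => a + sumL l

theorem sumL_eq_sum : ∀ l : List ℤ, sumL l = ∑ k ∈ Finset.range l.length, l.getD k 0
  | [] => by simp [sumL]
  | a :: l => by
    rw [sumL, sumL_eq_sum l, List.length_cons, Finset.sum_range_succ']
    simp [add_comm]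

/-- Membership test on the halved differences with `m`. -/
def inLatHalf (m : ℤ) (a : List ℤ) : Bool :=
  (sumL a - 2 * m) % 4 == 0 && Golay.isCode (oddMask a)

/-- Membership test on lists. -/
def inLatL : List ℤ → Bool
  | [] => false
  | x :: l => (x :: l).length == 24 && ((x :: l).all fun y => (y - x % 2) % 2 == 0) &&
      inLatHalf (x % 2) ((x :: l).map fun y => (y - x % 2) / 2)

theorem mem_of_inLatL : ∀ {l : List ℤ}, inLatL l = true → vOf l ∈ leechLattice
  | x :: l, h => by
    simp only [inLatL, inLatHalf, Bool.and_eq_true, List.all_eq_true, beq_iff_eq] at h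
    obtain ⟨⟨hlen, h1⟩, h2, h3⟩ := h
    set m := x % 2
    set a := (x :: l).map fun y => (y - m) / 2 with ha
    have hk : ∀ i : GolayPt, a.getD (Golay.idx i) 0 = ((x :: l).getD (Golay.idx i) 0 - m) / 2 ∧
        ((x :: l).getD (Golay.idx i) 0 - m) % 2 = 0 := fun i => by
      have hi : Golay.idx i < (x :: l).length := hlen ▸ Golay.idx_lt i
      rw [ha, List.getD_eq_getElem _ _ (by simpa using hi), List.getElem_map,
        List.getD_eq_getElem _ _ hi]
      exact ⟨rfl, h1 _ (List.getElem_mem hi)⟩
    refine mem_iff.2 ⟨m, vOf a, fun i => ?_, ?_, ?_⟩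
    · show (x :: l).getD (Golay.idx i) 0 = m + 2 * a.getD (Golay.idx i) 0
      have := hk i
      omega
    · rw [sumL_eq_sum, ha, List.length_map, hlen, ← ha, ← sum_idx fun k => a.getD k 0] at h2
      show (∑ i, a.getD (Golay.idx i) 0) ≡ _ [ZMOD 4]
      simp only [Int.ModEq]
      omega
    · convert (Golay.word_mem_golayCode_iff (Golay.lt_of_isCode h3)).2 h3 using 1
      funext i
      refine zmod2_ext _ _ ?_
      have e : i ∈ Golay.pts (oddMask a) ↔ a.getD (Golay.idx i) 0 % 2 = 1 := by
        rw [Golay.mem_pts, testBit_oddMask, beq_iff_eq]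
      rw [← Golay.support₂_word] at e
      simp only [support₂, Finset.mem_filter, Finset.mem_univ, true_and] at e
      rw [e, mod2, ne_eq, ZMod.intCast_zmod_eq_zero_iff_dvd]
      show ¬((2 : ℕ) : ℤ) ∣ a.getD (Golay.idx i) 0 ↔ _
      push_cast
      omega

theorem abs_dotL_le : ∀ (r x : List ℤ), (∀ a ∈ r, a.natAbs ≤ 8) → (∀ a ∈ x, a.natAbs ≤ 8) →
    (dotL r x).natAbs ≤ 64 * r.length
  | [], _, _, _ => by simp [dotL]
  | _ :: _, [], _, _ => by simp [dotL]
  | a :: r, b :: x, hr, hx => by
    have h := abs_dotL_le r x (fun c hc => hr c (List.mem_cons_of_mem _ hc))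
      (fun c hc => hx c (List.mem_cons_of_mem _ hc))
    have hab : (a * b).natAbs ≤ 64 := by
      rw [Int.natAbs_mul]
      exact Nat.mul_le_mul (hr a List.mem_cons_self) (hx b List.mem_cons_self)
    have := Int.natAbs_add_le (a * b) (dotL r x)
    rw [dotL, List.length_cons]
    omega

theorem pack_inj : ∀ (l m : List ℤ), l.length = m.length → (∀ a ∈ l, a.natAbs < 524288) →
    (∀ a ∈ m, a.natAbs < 524288) → pack l = pack m → l = m
  | [], [], _, _, _, _ => rfl
  | a :: l, b :: m, hl, ha, hb, he => by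
    have h1 := ha a List.mem_cons_self
    have h2 := hb b List.mem_cons_self
    rw [pack, pack] at he
    obtain rfl : a = b := by omega
    rw [pack_inj l m (Nat.succ.inj hl) (fun c hc => ha c (List.mem_cons_of_mem _ hc))
      (fun c hc => hb c (List.mem_cons_of_mem _ hc)) (by omega)]

theorem pack_smul (c : ℤ) : ∀ l : List ℤ, pack (l.map (c * ·)) = c * pack l
  | [] => by simp [pack]
  | a :: l => by rw [List.map_cons, pack, pack, pack_smul c l]; ring

/-- The packed columns. -/
def packCols (L : List (List ℤ)) : List ℤ :=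
  (List.range 24).map fun j => pack (L.map fun r => r.getD j 0)

theorem pack_image (L : List (List ℤ)) {x : List ℤ} (hx : x.length = 24) :
    pack (L.map fun r => dotL r x) = dotL (packCols L) x := by
  rw [dotL_eq_sum, hx]
  induction L with
  | nil => exact (Finset.sum_eq_zero fun j hj => by
      simp only [packCols, List.getD_eq_getElem?_getD, List.getElem?_map,
        List.getElem?_range (Finset.mem_range.1 hj), Option.map_some, Option.getD_some,
        List.map_nil, pack, zero_mul]).symm
  | cons r L ih =>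
    rw [List.map_cons, pack, ih, dotL_eq_sum, hx, Finset.mul_sum, ← Finset.sum_add_distrib]
    refine Finset.sum_congr rfl fun j hj => ?_
    simp only [packCols, List.getD_eq_getElem?_getD, List.getElem?_map,
      List.getElem?_range (Finset.mem_range.1 hj), Option.map_some, Option.getD_some,
      List.map_cons, pack]
    ring

/-- The entries are small. -/
def smallL (x : List ℤ) : Bool := x.length == 24 && x.all fun a => Nat.ble a.natAbs 8

theorem smallL_spec {x : List ℤ} (h : smallL x = true) :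
    x.length = 24 ∧ ∀ a ∈ x, a.natAbs ≤ 8 := by
  simpa [smallL, List.all_eq_true] using h

theorem img_eq_of_pack {L : List (List ℤ)} (hL : L.length = 24) (hb : L.all smallL = true)
    {x z : List ℤ} (hx : smallL x = true) (hz : z.length = 24)
    (hzb : ∀ a ∈ z, a.natAbs < 524288) (he : dotL (packCols L) x = pack z) :
    (L.map fun r => dotL r x) = z := by
  obtain ⟨hx1, hx2⟩ := smallL_spec hx
  refine pack_inj _ _ (by simp [hL, hz]) (fun a ha => ?_) hzb (by rw [pack_image L hx1, he])
  obtain ⟨r, hr, rfl⟩ := List.mem_map.1 ha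
  obtain ⟨r1, r2⟩ := smallL_spec (List.all_eq_true.1 hb r hr)
  have := abs_dotL_le r x r2 hx2
  rw [r1] at this
  omega

/-- The multiple `64 e_j`. -/
def unit64 (j : ℕ) : List ℤ := (List.range 24).map fun k => if k = j then 64 else 0

/-- Row orthogonality through packed columns. -/
def orthOK (L : List (List ℤ)) (P : List ℤ) : Bool :=
  (List.range 24).all fun j => dotL P (L.getD j []) == pack (unit64 j)

/-- The images of the generators, given with their proofs. -/
def imgsOK (P : List ℤ) : List (List ℤ) → List (List ℤ) → Bool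
  | g :: gs, y :: ys => (dotL P g == 8 * pack y) && smallL y && smallL g && inLatL y && imgsOK P gs ys
  | [], _ => true
  | _ :: _, [] => false

/-- `L / 8` is orthogonal and preserves the lattice with its inverse `T / 8`; packed columns `P`,
`Q` and images `YL`, `YT` of the generators. -/
def matOKB (L T : List (List ℤ)) (P Q : List ℤ) (YL YT : List (List ℤ)) : Bool :=
  decide (L.length = 24) && decide (T.length = 24) && L.all smallL && T.all smallL &&
    P == packCols L && Q == packCols T && T.map pack == P &&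
    orthOK L P && orthOK T Q && imgsOK P genLists YL && imgsOK Q genLists YT

theorem mul_transpose_of_orth {N : List (List ℤ)} (hN : N.length = 24)
    (hb : N.all smallL = true) (h : orthOK N (packCols N) = true) :
    toMat N * (toMat N)ᵀ = (64 : ℤ) • 1 := by
  simp only [orthOK, List.all_eq_true, List.mem_range, beq_iff_eq] at h
  ext i j
  rw [Matrix.smul_apply, Matrix.one_apply, smul_eq_mul, mul_ite, mul_one, mul_zero]
  have hm : N.getD (Golay.idx j) [] ∈ N := by
    rw [List.getD_eq_getElem _ _ (hN ▸ Golay.idx_lt j)]; exact List.getElem_mem _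
  have hs := List.all_eq_true.1 hb _ hm
  have key := img_eq_of_pack hN hb hs (z := unit64 (Golay.idx j)) (by simp [unit64])
    (fun a ha => by
      obtain ⟨c, -, rfl⟩ := List.mem_map.1 ha
      split_ifs <;> norm_num) (h _ (Golay.idx_lt j))
  have e := congrFun (toMat_mulVec N (smallL_spec hs).1) i
  rw [key] at e
  refine e.trans ?_
  show (unit64 (Golay.idx j)).getD (Golay.idx i) 0 = _
  rw [unit64, List.getD_eq_getElem _ _ (by simpa using Golay.idx_lt i), List.getElem_map,
    List.getElem_range]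
  simp only [Golay.idx_injective.eq_iff]

theorem genImages_of_imgs {L : List (List ℤ)} (hL : L.length = 24) (hb : L.all smallL = true) :
    ∀ (gs ys : List (List ℤ)), imgsOK (packCols L) gs ys = true →
      ∀ g ∈ gs, imageOK (toMat L) (vOf g)
  | [], _, _, g, hg => absurd hg List.not_mem_nil
  | _ :: _, [], h, _, _ => by simp [imgsOK] at h
  | g0 :: gs, y :: ys, h, g, hg => by
    simp only [imgsOK, Bool.and_eq_true, beq_iff_eq] at h
    obtain ⟨⟨⟨⟨h1, h2⟩, h3⟩, h4⟩, h5⟩ := h
    rcases List.mem_cons.1 hg with rfl | hg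
    · have key := img_eq_of_pack hL hb h3 (z := y.map (8 * ·))
        (by simp [(smallL_spec h2).1]) (fun a ha => by
          obtain ⟨c, hc, rfl⟩ := List.mem_map.1 ha
          have := (smallL_spec h2).2 c hc
          omega) (by rw [pack_smul, h1])
      have e : ∀ i, (toMat L *ᵥ vOf g) i = 8 * vOf y i := fun i => by
        rw [toMat_mulVec L (smallL_spec h3).1, key]
        show (y.map (8 * ·)).getD (Golay.idx i) 0 = 8 * y.getD (Golay.idx i) 0
        rw [← List.getD_map (f := fun a : ℤ => 8 * a)]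
        simp
      refine ⟨fun i => by rw [e]; simp, ?_⟩
      convert mem_of_inLatL h4 using 1
      funext i
      rw [e]
      simp
    · exact genImages_of_imgs hL hb gs ys h5 g hg

theorem matOK_of_lists {L T : List (List ℤ)} {P Q : List ℤ} {YL YT : List (List ℤ)}
    (h : matOKB L T P Q YL YT = true) :
    MatOK (toMat L) ∧ P = packCols L ∧ L.length = 24 ∧ L.all smallL = true := by
  simp only [matOKB, Bool.and_eq_true, decide_eq_true_eq, beq_iff_eq] at h
  obtain ⟨⟨⟨⟨⟨⟨⟨⟨⟨⟨hL, hT⟩, hLb⟩, hTb⟩, hP⟩, hQ⟩, hTP⟩, ho⟩, ho'⟩, hg⟩, hg'⟩ := h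
  rw [hP] at ho hg hTP
  rw [hQ] at ho' hg'
  have htr : (toMat L)ᵀ = toMat T := by
    ext j i
    have hj := Golay.idx_lt j
    have hm : T.getD (Golay.idx j) [] ∈ T := by
      rw [List.getD_eq_getElem _ _ (hT ▸ hj)]; exact List.getElem_mem _
    obtain ⟨t1, t2⟩ := smallL_spec (List.all_eq_true.1 hTb _ hm)
    have e : T.getD (Golay.idx j) [] = L.map fun r => r.getD (Golay.idx j) 0 := by
      refine pack_inj _ _ (by rw [t1, List.length_map, hL]) (fun a ha => by have := t2 a ha; omega)
        (fun a ha => ?_) ?_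
      · obtain ⟨r, hr, rfl⟩ := List.mem_map.1 ha
        obtain ⟨r1, r2⟩ := smallL_spec (List.all_eq_true.1 hLb r hr)
        rw [List.getD_eq_getElem _ _ (r1 ▸ hj)]
        have := r2 _ (List.getElem_mem (r1 ▸ hj))
        omega
      · have hT' : Golay.idx j < T.length := hT ▸ hj
        have := congrArg (fun l : List ℤ => l[Golay.idx j]?) hTP
        simp only [List.getElem?_map, List.getElem?_eq_getElem hT', packCols,
          List.getElem?_range hj, Option.map_some, Option.some.injEq] at this
        rw [List.getD_eq_getElem _ _ hT']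
        exact this
    show (L.getD (Golay.idx i) []).getD (Golay.idx j) 0 =
      (T.getD (Golay.idx j) []).getD (Golay.idx i) 0
    have hi : Golay.idx i < L.length := hL ▸ Golay.idx_lt i
    rw [e, List.getD_eq_getElem L _ hi, List.getD_eq_getElem _ _ (show Golay.idx i <
      (L.map fun r => r.getD (Golay.idx j) 0).length by simpa using hi), List.getElem_map]
  refine ⟨⟨?_, mul_transpose_of_orth hL hLb ho, genImages_of_imgs hL hLb _ _ hg,
    htr ▸ genImages_of_imgs hT hTb _ _ hg'⟩, hP, hL, hLb⟩
  have := mul_transpose_of_orth hT hTb ho'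
  rwa [← htr, Matrix.transpose_transpose] at this

/-- An image checked through packed columns. -/
theorem matEl_smul_of_pack {L : List (List ℤ)} (h : MatOK (toMat L))
    (hb : ∀ r ∈ L, r.length = 24 ∧ ∀ a ∈ r, a.natAbs ≤ 8) (hL : L.length = 24) {x y : List ℤ}
    (hx : x.length = 24 ∧ ∀ a ∈ x, a.natAbs ≤ 8) (hy : y.length = 24 ∧ ∀ a ∈ y, a.natAbs ≤ 8)
    (he : dotL (packCols L) x = 8 * pack y) {v u : leechLattice}
    (hv : (v : GolayPt → ℤ) = vOf x) (hu : (u : GolayPt → ℤ) = vOf y) :
    matEl (toMat L) h • v = u := by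
  refine matEl_smul _ h fun i => ?_
  have key : (L.map fun r => dotL r x) = y.map (8 * ·) := by
    refine pack_inj _ _ (by simp [hL, hy.1]) (fun a ha => ?_) (fun a ha => ?_) ?_
    · obtain ⟨r, hr, rfl⟩ := List.mem_map.1 ha
      have := abs_dotL_le r x (hb r hr).2 hx.2
      rw [(hb r hr).1] at this
      omega
    · obtain ⟨c, hc, rfl⟩ := List.mem_map.1 ha
      have := hy.2 c hc
      omega
    · rw [pack_image L hx.1, pack_smul, he]
  rw [hv, hu, toMat_mulVec L hx.1, key]
  show (y.map fun a => 8 * a).getD (Golay.idx i) 0 = 8 * y.getD (Golay.idx i) 0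
  rw [← List.getD_map (f := fun a : ℤ => 8 * a)]
  simp

end Cfsg.Agent.Leech
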