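import Cfsg.Agent.EqLemmas

/-!
# The rank 24 lattice `leechLattice`: membership and closure

Main results (namespace `Cfsg.Agent.Leech`):
* `mem_leechSet_iff` : `x = m + 2a` with `∑ a ≡ 2m (mod 4)` and `a mod 2` a code word
* `leechSetSubgroup`, `mem_leechLattice : x ∈ leechLattice ↔ x ∈ leechSet`
* `mem_iff` : the same characterisation for `leechLattice`
* `mem_mk`, `mem_mk_even`, `exists_rep` (normal forms with `m = 0` or `m = 1`)
* `mem_comp_perm` : permutations of the code preserve the lattice
-/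

set_option autoImplicit false
open scoped Pointwise

namespace Cfsg.Agent.Leech

/-- Reduction of an integer vector modulo two. -/
def mod2 (a : GolayPt → ℤ) : GolayPt → ZMod 2 := fun i => (a i : ZMod 2)

theorem mod2_apply (a : GolayPt → ℤ) (i : GolayPt) : mod2 a i = (a i : ZMod 2) := rfl

theorem mod2_add (a b : GolayPt → ℤ) : mod2 (a + b) = mod2 a + mod2 b := by
  funext i; simp [mod2]

theorem mod2_neg (a : GolayPt → ℤ) : mod2 (-a) = -mod2 a := by
  funext i; simp only [mod2, Pi.neg_apply, Int.cast_neg]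

theorem mod2_zero : mod2 0 = 0 := by
  funext i; simp [mod2]

theorem one_mem_code : (1 : GolayPt → ZMod 2) ∈ golayCode :=
  Submodule.subset_span (Set.mem_union_right _ rfl)

theorem const_mem_code (c : ZMod 2) : (fun _ => c : GolayPt → ZMod 2) ∈ golayCode := by
  have h := golayCode.smul_mem c one_mem_code
  convert h using 1
  funext i; simp

theorem two_ne {u v : ZMod 2} : u + v ≠ 0 ↔ u = v + 1 := by revert u v; decide

theorem zmod2_lemma : ∀ p q : ZMod 2, (p ≠ 0 ↔ q = 0) → q = p + 1 := by decide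

theorem zmod2_ext : ∀ p q : ZMod 2, (p ≠ 0 ↔ q ≠ 0) → p = q := by decide

theorem card_pt : Fintype.card GolayPt = 24 := by simp

theorem mem_leechSet_iff {x : GolayPt → ℤ} :
    x ∈ leechSet ↔ ∃ (m : ℤ) (a : GolayPt → ℤ),
      (∀ i, x i = m + 2 * a i) ∧ ∑ i, a i ≡ 2 * m [ZMOD 4] ∧ mod2 a ∈ golayCode := by
  constructor
  · rintro ⟨m, hpar, hsum, hk⟩
    have hx : ∀ i, x i = m + 2 * ((x i - m) / 2) := by
      intro i
      have h := (hpar i).symm.dvd
      rw [Int.mul_ediv_cancel' h]; ring
    refine ⟨m, fun i => (x i - m) / 2, hx, ?_, ?_⟩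
    · have hs : ∑ i, x i = 24 * m + 2 * ∑ i, (x i - m) / 2 := by
        conv_lhs => rw [Finset.sum_congr rfl fun i _ => hx i]
        rw [Finset.sum_add_distrib, Finset.sum_const, Finset.card_univ, card_pt, Finset.mul_sum]
        simp
      rw [hs] at hsum
      generalize ∑ i, (x i - m) / 2 = S at hsum ⊢
      simp only [Int.ModEq] at hsum ⊢
      omega
    · obtain ⟨v, hv, he⟩ := hk m
      have hv' := golayCode.add_mem hv one_mem_code
      convert hv' using 1
      funext i
      have hi := Finset.ext_iff.1 he i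
      simp only [support₂, Finset.mem_filter, Finset.mem_univ, true_and] at hi
      have h2 : x i ≡ m [ZMOD 4] ↔ (((x i - m) / 2 : ℤ) : ZMod 2) = 0 := by
        rw [ZMod.intCast_zmod_eq_zero_iff_dvd]
        have := hx i
        simp only [Int.ModEq]
        push_cast
        omega
      rw [h2] at hi
      simp only [mod2, Pi.add_apply, Pi.one_apply]
      exact zmod2_lemma _ _ hi
  · rintro ⟨m, a, hx, hsum, hw⟩
    refine ⟨m, fun i => ?_, ?_, fun k => ?_⟩
    · have := hx i; simp only [Int.ModEq]; omega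
    · have hs : ∑ i, x i = 24 * m + 2 * ∑ i, a i := by
        rw [Finset.sum_congr rfl fun i _ => hx i, Finset.sum_add_distrib, Finset.sum_const,
          Finset.card_univ, card_pt, Finset.mul_sum]
        simp
      rw [hs]
      simp only [Int.ModEq] at hsum ⊢
      omega
    · by_cases hkm : k ≡ m [ZMOD 2]
      · obtain ⟨j, hj⟩ := hkm.symm.dvd
        refine ⟨mod2 a + fun _ => ((j : ZMod 2) + 1),
          golayCode.add_mem hw (const_mem_code _), ?_⟩
        ext i
        rw [support₂, Finset.mem_filter, Finset.mem_filter]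
        simp only [Finset.mem_univ, true_and, Pi.add_apply, mod2_apply]
        rw [two_ne, add_assoc, show (1 : ZMod 2) + 1 = 0 from rfl, add_zero,
          ZMod.intCast_eq_intCast_iff_dvd_sub]
        have := hx i
        simp only [Int.ModEq]
        push_cast
        omega
      · refine ⟨0, golayCode.zero_mem, ?_⟩
        ext i
        simp only [support₂, Finset.mem_filter, Finset.mem_univ, true_and, Pi.zero_apply, ne_eq,
          not_true_eq_false, false_iff]
        intro h
        apply hkm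
        have := hx i
        simp only [Int.ModEq] at h ⊢
        omega

/-- `leechSet` as an additive subgroup. -/
def leechSetSubgroup : AddSubgroup (GolayPt → ℤ) where
  carrier := leechSet
  zero_mem' := mem_leechSet_iff.2 ⟨0, 0, fun i => by simp, by simp,
    by rw [mod2_zero]; exact golayCode.zero_mem⟩
  add_mem' := by
    intro x y hx hy
    obtain ⟨m, a, h1, h2, h3⟩ := mem_leechSet_iff.1 hx
    obtain ⟨n, b, k1, k2, k3⟩ := mem_leechSet_iff.1 hy
    refine mem_leechSet_iff.2 ⟨m + n, a + b, fun i => ?_, ?_, ?_⟩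
    · simp only [Pi.add_apply, h1 i, k1 i]; ring
    · simp only [Pi.add_apply, Finset.sum_add_distrib]
      rw [mul_add]; exact h2.add k2
    · rw [mod2_add]; exact golayCode.add_mem h3 k3
  neg_mem' := by
    intro x hx
    obtain ⟨m, a, h1, h2, h3⟩ := mem_leechSet_iff.1 hx
    refine mem_leechSet_iff.2 ⟨-m, -a, fun i => ?_, ?_, ?_⟩
    · simp only [Pi.neg_apply, h1 i]; ring
    · simp only [Pi.neg_apply, Finset.sum_neg_distrib]
      rw [mul_neg]; exact h2.neg
    · rw [mod2_neg]; exact golayCode.neg_mem h3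

theorem leechLattice_eq : leechLattice = leechSetSubgroup :=
  le_antisymm ((AddSubgroup.closure_le _).2 fun _ h => h) fun _ h => AddSubgroup.subset_closure h

theorem mem_leechLattice {x : GolayPt → ℤ} : x ∈ leechLattice ↔ x ∈ leechSet := by
  rw [leechLattice_eq]; rfl

theorem mem_iff {x : GolayPt → ℤ} :
    x ∈ leechLattice ↔ ∃ (m : ℤ) (a : GolayPt → ℤ),
      (∀ i, x i = m + 2 * a i) ∧ ∑ i, a i ≡ 2 * m [ZMOD 4] ∧ mod2 a ∈ golayCode :=
  mem_leechLattice.trans mem_leechSet_iff

theorem mem_mk (m : ℤ) (a : GolayPt → ℤ) (hs : ∑ i, a i ≡ 2 * m [ZMOD 4])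
    (hw : mod2 a ∈ golayCode) : (fun i => m + 2 * a i) ∈ leechLattice :=
  mem_iff.2 ⟨m, a, fun _ => rfl, hs, hw⟩

theorem mem_mk_even (a : GolayPt → ℤ) (hs : (4 : ℤ) ∣ ∑ i, a i) (hw : mod2 a ∈ golayCode) :
    (2 : ℤ) • a ∈ leechLattice :=
  mem_iff.2 ⟨0, a, fun i => by simp, by simpa [Int.modEq_zero_iff_dvd] using hs, hw⟩

/-- Normal form of a lattice vector: the parity can be taken to be `0` or `1`. -/
theorem exists_rep {x : GolayPt → ℤ} (hx : x ∈ leechLattice) :
    ∃ (m : ℤ) (a : GolayPt → ℤ), (m = 0 ∨ m = 1) ∧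
      (∀ i, x i = m + 2 * a i) ∧ ∑ i, a i ≡ 2 * m [ZMOD 4] ∧ mod2 a ∈ golayCode := by
  obtain ⟨m, a, h1, h2, h3⟩ := mem_iff.1 hx
  refine ⟨m % 2, fun i => a i + m / 2, by omega, fun i => ?_, ?_, ?_⟩
  · have := h1 i; beta_reduce; omega
  · rw [Finset.sum_add_distrib, Finset.sum_const, Finset.card_univ, card_pt]
    simp only [Int.ModEq, nsmul_eq_mul] at h2 ⊢
    push_cast
    omega
  · have := golayCode.add_mem h3 (const_mem_code ((m / 2 : ℤ) : ZMod 2))
    convert this using 1
    funext i; simp [mod2]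

/-- Membership of a word in the code is read off from its support. -/
theorem mem_code_iff_support (w : GolayPt → ZMod 2) :
    w ∈ golayCode ↔ support₂ w ∈ supports (golayCode : Set (GolayPt → ZMod 2)) := by
  refine ⟨fun h => ⟨w, h, rfl⟩, fun ⟨v, hv, he⟩ => ?_⟩
  suffices h : w = v by rw [h]; exact hv
  funext i
  have hi := Finset.ext_iff.1 he i
  simp only [support₂, Finset.mem_filter, Finset.mem_univ, true_and] at hi
  exact (zmod2_ext _ _ hi).symm

/-- Permutations preserving the code act on code words. -/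
theorem comp_mem_code {σ : Equiv.Perm GolayPt} (hσ : σ ∈ M24) {w : GolayPt → ZMod 2}
    (hw : w ∈ golayCode) : w ∘ σ ∈ golayCode := by
  rw [mem_code_iff_support] at hw ⊢
  have h : support₂ (w ∘ σ) = σ⁻¹ • support₂ w := by
    ext i
    rw [Finset.mem_inv_smul_finset_iff]
    simp [support₂]
  rw [h]
  have h' := MulAction.mem_stabilizer_iff.1 ((Subgroup.inv_mem_iff _).2 hσ)
  rw [← h']
  exact Set.smul_mem_smul_set hw

/-- Coordinate permutations preserving the code preserve the lattice. -/
theorem mem_comp_perm {σ : Equiv.Perm GolayPt} (hσ : σ ∈ M24) {x : GolayPt → ℤ}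
    (hx : x ∈ leechLattice) : (fun i => x (σ i)) ∈ leechLattice := by
  obtain ⟨m, a, h1, h2, h3⟩ := mem_iff.1 hx
  exact mem_iff.2 ⟨m, fun i => a (σ i), fun i => h1 (σ i),
    by rwa [Equiv.sum_comp σ a], comp_mem_code hσ h3⟩

end Cfsg.Agent.Leech
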