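import Cfsg.Agent.Lib.Leech.Co0Center
import Cfsg.Agent.Lib.Golay.M24

/-!
# The stabiliser of the standard cross

* `stdStab` : the subgroup of elements mapping `stdCross` into itself;  `mem_stdStab_iff`
* `exists_mono_of_mem` : it consists of the monomial elements;  `natCard_stdStab = 4096 * 244823040`
* `exists_map_three`, `exists_sign_three` : permutations and code words with prescribed values on three points
-/

set_option autoImplicit false

open scoped Pointwise

namespace Cfsg.Agent.Leech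

theorem congr_of_mem_stdCross {y z : GolayPt → ℤ} (hy : y ∈ stdCross) (hz : z ∈ stdCross) :
    Congr y z := by
  rw [← cross_std none] at hy hz
  exact congr_trans (congr_symm hy.2.2) hz.2.2

theorem mem_stdCross_iff_congr {v : leechLattice} (i : GolayPt) :
    (v : GolayPt → ℤ) ∈ stdCross ↔
      sqNorm (v : GolayPt → ℤ) = 64 ∧ Congr (v : GolayPt → ℤ) (eightVec i : GolayPt → ℤ) := by
  constructor
  · intro h
    refine ⟨?_, congr_of_mem_stdCross h ⟨i, 8, Or.inl rfl, rfl⟩⟩
    obtain ⟨j, s, hs, he⟩ := h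
    rw [he, sqNorm_single]
    rcases hs with rfl | rfl <;> norm_num
  · rintro ⟨hn, hc⟩
    rw [← cross_std i]
    exact ⟨v.2, by rw [hn, sqNorm_single]; norm_num, congr_symm hc⟩

theorem eightVec_mem_stdCross (i : GolayPt) : (eightVec i : GolayPt → ℤ) ∈ stdCross :=
  ⟨i, 8, Or.inl rfl, rfl⟩

/-- Moving one vector of the standard cross into it moves all of them into it. -/
theorem stdCross_invariant {g : Co0} {i : GolayPt}
    (h : ((g • eightVec i : leechLattice) : GolayPt → ℤ) ∈ stdCross) {v : leechLattice}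
    (hv : (v : GolayPt → ℤ) ∈ stdCross) :
    ((g • v : leechLattice) : GolayPt → ℤ) ∈ stdCross := by
  obtain ⟨hn, hc⟩ := (mem_stdCross_iff_congr i).1 hv
  refine (mem_stdCross_iff_congr i).2 ⟨by rw [sqNorm_smul, hn], ?_⟩
  exact congr_trans (congr_smul g hc) ((mem_stdCross_iff_congr i).1 h).2

/-- The stabiliser of the standard cross. -/
def stdStab : Subgroup Co0 where
  carrier := {g | ((g • eightVec none : leechLattice) : GolayPt → ℤ) ∈ stdCross}
  one_mem' := by simpa using eightVec_mem_stdCross none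
  mul_mem' := by
    intro g h hg hh
    show (((g * h) • eightVec none : leechLattice) : GolayPt → ℤ) ∈ stdCross
    rw [mul_smul]
    exact stdCross_invariant hg hh
  inv_mem' := by
    intro g hg
    obtain ⟨hn, hc⟩ := (mem_stdCross_iff_congr none).1 hg
    refine (mem_stdCross_iff_congr none).2 ⟨by rw [sqNorm_smul, sqNorm_eightVec], ?_⟩
    have := congr_smul g⁻¹ hc
    rw [inv_smul_smul] at this
    exact congr_symm this

theorem mem_stdStab_iff {g : Co0} :
    g ∈ stdStab ↔ ∀ v : leechLattice, (v : GolayPt → ℤ) ∈ stdCross →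
      ((g • v : leechLattice) : GolayPt → ℤ) ∈ stdCross :=
  ⟨fun h _ hv => stdCross_invariant h hv, fun h => h _ (eightVec_mem_stdCross none)⟩

theorem mono_mem_stdStab (σ : Equiv.Perm GolayPt) (hσ : σ ∈ M24) (c : Finset GolayPt)
    (hc : c ∈ supports (golayCode : Set (GolayPt → ZMod 2))) : mono σ hσ c hc ∈ stdStab := by
  show ((mono σ hσ c hc • eightVec none : leechLattice) : GolayPt → ℤ) ∈ stdCross
  rw [vec_mono, coe_eightVec, signedPerm_single]
  exact ⟨σ none, _, by split_ifs <;> simp, rfl⟩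

/-- A lift of a code word to an even vector. -/
theorem exists_even_lift {w : GolayPt → ZMod 2} (hw : w ∈ golayCode) :
    ∃ a : GolayPt → ℤ, mod2 a = w ∧ (2 : ℤ) • a ∈ leechLattice := by
  set b : GolayPt → ℤ := fun i => ((w i).val : ℤ)
  have hb : mod2 b = w := funext fun i => by simp [b, mod2]
  obtain ⟨k, hk⟩ := two_dvd_sum (hb ▸ hw)
  refine ⟨b + Pi.single none (2 * (k % 2)), ?_, mem_mk_even _ ?_ ?_⟩
  · rw [mod2_add, hb, show mod2 (Pi.single none (2 * (k % 2))) = 0 from funext fun i => by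
      by_cases h : i = none <;> simp [mod2, h, show (2 : ZMod 2) = 0 from rfl], add_zero]
  · simp only [Pi.add_apply, Finset.sum_add_distrib, Finset.sum_pi_single', Finset.mem_univ,
      if_true, hk]
    omega
  · rw [mod2_add, hb, show mod2 (Pi.single none (2 * (k % 2))) = 0 from funext fun i => by
      by_cases h : i = none <;> simp [mod2, h, show (2 : ZMod 2) = 0 from rfl], add_zero]
    exact hw

theorem mem_code_of_two_smul {a : GolayPt → ℤ} (h : (2 : ℤ) • a ∈ leechLattice) :
    mod2 a ∈ golayCode :=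
  (mem_evenPart.1 (show dbl a ∈ leechLattice by
    convert h using 1
    rw [dbl_apply, ← natCast_zsmul]; rfl)).1

/-- Every element of the stabiliser of the standard cross is monomial. -/
theorem exists_mono_of_mem {g : Co0} (hg : g ∈ stdStab) :
    ∃ (σ : Equiv.Perm GolayPt) (hσ : σ ∈ M24) (c : Finset GolayPt)
      (hc : c ∈ supports (golayCode : Set (GolayPt → ZMod 2))), g = mono σ hσ c hc := by
  have h := fun i => mem_stdStab_iff.1 hg _ (eightVec_mem_stdCross i)
  choose π s hs hse using h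
  have hinj : Function.Injective π := by
    intro i j hij
    by_contra hne
    have h2 := dotInt_smul g (eightVec i) (eightVec j)
    rw [hse, hse, dotInt_single, hij, Pi.single_eq_same, coe_eightVec, coe_eightVec, dotInt_single,
      Pi.single_eq_of_ne (Ne.symm hne)] at h2
    rcases hs i with e | e <;> rcases hs j with e' | e' <;> rw [e, e'] at h2 <;> norm_num at h2
  set σ := Equiv.ofBijective π ((Fintype.bijective_iff_injective_and_card π).2 ⟨hinj, rfl⟩) with hσdef
  have hσe : ∀ i, σ i = π i := fun i => rfl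
  have hvec : ∀ (v : leechLattice) (i : GolayPt),
      8 * ((g • v : leechLattice) : GolayPt → ℤ) (σ i) = s i * (v : GolayPt → ℤ) i := by
    intro v i
    have e : (8 : ℤ) • (g • v) = ∑ l, (v : GolayPt → ℤ) l • (g • eightVec l) := by
      rw [← smul_zsmul, eight_smul_eq_sum, ← addHom_apply, map_sum]
      exact Finset.sum_congr rfl fun l _ => by rw [addHom_apply, smul_zsmul]
    have e' := congrFun (congrArg Subtype.val e) (σ i)
    rw [AddSubgroup.val_finsetSum, Finset.sum_apply] at e'
    simp only [AddSubgroup.coe_zsmul, Pi.smul_apply, smul_eq_mul, hse] at e'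
    rw [Finset.sum_eq_single i (fun l _ hl => by
      rw [Pi.single_eq_of_ne (fun e => hl (hinj (e.symm.trans (hσe i))))]; simp) (by simp),
      hσe, Pi.single_eq_same] at e'
    rw [hσe]; linarith
  have hcomp : ∀ w ∈ golayCode, w ∘ σ.symm ∈ golayCode := by
    intro w hw
    obtain ⟨a, ha, hmem⟩ := exists_even_lift hw
    have hgv : ∀ i, ((g • mkVec _ hmem : leechLattice) : GolayPt → ℤ) (σ i) = 2 * (s i / 8 * a i) := by
      intro i
      have := hvec (mkVec _ hmem) i
      simp only [Pi.smul_apply, smul_eq_mul] at this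
      rcases hs i with e | e <;> rw [e] at this ⊢ <;> omega
    have h2 := mem_code_of_two_smul (a := fun l => s (σ.symm l) / 8 * a (σ.symm l)) (by
      convert (g • mkVec _ hmem).2 using 1
      funext l
      have := hgv (σ.symm l)
      rw [Equiv.apply_symm_apply] at this
      rw [this]; rfl)
    convert h2 using 1
    funext l
    rw [← ha]
    simp only [Function.comp_apply, mod2_apply]
    rcases hs (σ.symm l) with e | e <;> simp [e]
  have hσM : σ ∈ M24 := by
    rw [Golay.mem_M24_iff]
    rintro S ⟨w, hw, rfl⟩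
    refine ⟨w ∘ σ.symm, hcomp w hw, ?_⟩
    ext i
    rw [← Finset.inv_smul_mem_iff]
    simp only [support₂, Finset.mem_filter, Finset.mem_univ, true_and, Equiv.Perm.smul_def,
      Equiv.Perm.coe_inv, Function.comp_apply]
  set m := mono σ hσM ∅ Golay.empty_mem with hm
  have hmi : ∀ i, m • eightVec i = eightVec (σ i) := fun i =>
    Subtype.ext (by rw [hm, vec_mono, coe_eightVec, signedPerm_single]; simp [coe_eightVec])
  set t : GolayPt → ℤ := fun l => s (σ.symm l) / 8 with ht
  have hdiag : ∀ l, (((g * m⁻¹) • eightVec l : leechLattice) : GolayPt → ℤ) = Pi.single l (8 * t l) := by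
    intro l
    have : m⁻¹ • eightVec l = eightVec (σ.symm l) := by
      rw [inv_smul_eq_iff, hmi, Equiv.apply_symm_apply]
    rw [mul_smul, this, hse, ← hσe, Equiv.apply_symm_apply]
    congr 1
    rcases hs (σ.symm l) with e | e <;> simp [ht, e]
  have hc := sign_set_mem (g := g * m⁻¹) (s := t) (fun l => by
    rcases hs (σ.symm l) with e | e <;> simp [ht, e]) hdiag
  refine ⟨σ, hσM, _, hc, ext_frame fun i => ?_⟩
  refine Subtype.ext ?_
  rw [hse, vec_mono, coe_eightVec, signedPerm_single, hσe]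
  congr 1
  rcases hs i with e | e <;> simp [ht, ← hσe, e]

theorem mono_injective {σ τ : Equiv.Perm GolayPt} {hσ : σ ∈ M24} {hτ : τ ∈ M24}
    {c d : Finset GolayPt} {hc : c ∈ supports (golayCode : Set (GolayPt → ZMod 2))}
    {hd : d ∈ supports (golayCode : Set (GolayPt → ZMod 2))}
    (h : mono σ hσ c hc = mono τ hτ d hd) : σ = τ ∧ c = d := by
  have key : ∀ i, σ i = τ i ∧ (σ i ∈ c ↔ τ i ∈ d) := by
    intro i
    have h2 := congrArg (fun g : Co0 => ((g • eightVec i : leechLattice) : GolayPt → ℤ)) h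
    simp only [vec_mono, coe_eightVec, signedPerm_single] at h2
    have hi : σ i = τ i := by
      by_contra hne
      have h3 := congrFun h2 (σ i)
      rw [Pi.single_eq_same, Pi.single_eq_of_ne hne] at h3
      split_ifs at h3 <;> omega
    refine ⟨hi, ?_⟩
    rw [hi] at h2 ⊢
    have h3 := congrFun h2 (τ i)
    rw [Pi.single_eq_same, Pi.single_eq_same] at h3
    split_ifs at h3 with h4 h5 <;> simp_all
  refine ⟨Equiv.ext fun i => (key i).1, Finset.ext fun l => ?_⟩
  obtain ⟨i, rfl⟩ := σ.surjective l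
  have := key i
  rw [this.2, this.1]

theorem natCard_stdStab : Nat.card stdStab = 4096 * 244823040 := by
  have hC : Nat.card (supports (golayCode : Set (GolayPt → ZMod 2))) = 4096 := by
    rw [← Golay.natCard_golayCode]
    refine (Nat.card_congr (Equiv.ofBijective
      (fun w : golayCode => (⟨support₂ (w : GolayPt → ZMod 2), w.1, w.2, rfl⟩ :
        supports (golayCode : Set (GolayPt → ZMod 2)))) ⟨fun v w h => ?_, ?_⟩)).symm
    · refine Subtype.ext (funext fun i => zmod2_ext _ _ ?_)
      have := Finset.ext_iff.1 (congrArg Subtype.val h) i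
      simpa [support₂] using this
    · rintro ⟨_, w, hw, rfl⟩
      exact ⟨⟨w, hw⟩, rfl⟩
  let f : supports (golayCode : Set (GolayPt → ZMod 2)) × M24 → stdStab :=
    fun p => ⟨mono p.2.1 p.2.2 p.1.1 p.1.2, mono_mem_stdStab _ _ _ _⟩
  have hf : Function.Bijective f := by
    refine ⟨fun p q h => ?_, fun g => ?_⟩
    · obtain ⟨h1, h2⟩ := mono_injective (hσ := p.2.2) (hτ := q.2.2) (hc := p.1.2) (hd := q.1.2)
        (congrArg Subtype.val h)
      exact Prod.ext (Subtype.ext h2) (Subtype.ext h1)
    · obtain ⟨σ, hσ, c, hc, he⟩ := exists_mono_of_mem g.2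
      exact ⟨(⟨c, hc⟩, ⟨σ, hσ⟩), Subtype.ext he.symm⟩
  rw [← Nat.card_congr (Equiv.ofBijective f hf), Nat.card_prod, hC, Golay.natCard_M24]

theorem exists_map_three {a b c a' b' c' : GolayPt} (h : a ≠ b ∧ b ≠ c ∧ a ≠ c)
    (h' : a' ≠ b' ∧ b' ≠ c' ∧ a' ≠ c') : ∃ σ ∈ M24, σ a = a' ∧ σ b = b' ∧ σ c = c' := by
  have := Golay.five_transitive
  have h3 : MulAction.IsMultiplyPretransitive M24 GolayPt 3 :=
    MulAction.isMultiplyPretransitive_of_le (n := 5) (by norm_num) (by simp)
  obtain ⟨h1, h2, h4⟩ := h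
  obtain ⟨h1', h2', h4'⟩ := h'
  have hi : ∀ (x y z : GolayPt), x ≠ y → y ≠ z → x ≠ z → Function.Injective ![x, y, z] := by
    intro x y z hxy hyz hxz i j
    fin_cases i <;> fin_cases j <;> simp [hxy, hyz, hxz, hxy.symm, hyz.symm, hxz.symm]
  obtain ⟨σ, hσ⟩ := h3.exists_smul_eq (⟨![a, b, c], hi _ _ _ h1 h2 h4⟩ : Fin 3 ↪ GolayPt)
    ⟨![a', b', c'], hi _ _ _ h1' h2' h4'⟩
  refine ⟨σ, σ.2, ?_, ?_, ?_⟩
  · simpa [Subgroup.smul_def, Equiv.Perm.smul_def] using DFunLike.congr_fun hσ 0
  · simpa [Subgroup.smul_def, Equiv.Perm.smul_def] using DFunLike.congr_fun hσ 1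
  · simpa [Subgroup.smul_def, Equiv.Perm.smul_def] using DFunLike.congr_fun hσ 2

theorem sign_three_base : ∀ p q r : Bool, ∃ x : Fin 8,
    (Golay.enc x.val).testBit 0 = p ∧ (Golay.enc x.val).testBit 1 = q ∧
      (Golay.enc x.val).testBit 2 = r := by
  decide +kernel

theorem exists_sign_three {a b c : GolayPt} (h : a ≠ b ∧ b ≠ c ∧ a ≠ c) (P Q R : Prop) :
    ∃ s ∈ supports (golayCode : Set (GolayPt → ZMod 2)), (a ∈ s ↔ P) ∧ (b ∈ s ↔ Q) ∧ (c ∈ s ↔ R) := by
  classical
  obtain ⟨σ, hσ, ha, hb, hc⟩ := exists_map_three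
    (a := Golay.pt 0) (b := Golay.pt 1) (c := Golay.pt 2) (by decide +kernel) h
  obtain ⟨x, hp, hq, hr⟩ := sign_three_base (decide P) (decide Q) (decide R)
  refine ⟨σ • Golay.pts (Golay.enc x.val), Golay.smul_mem_supports hσ
    (Golay.mem_supports_iff_exists.2 ⟨x.val, by omega, rfl⟩), ?_, ?_, ?_⟩
  · rw [← ha, ← Equiv.Perm.smul_def, Finset.smul_mem_smul_finset_iff, Golay.mem_pts,
      Golay.idx_pt (by norm_num), hp, decide_eq_true_eq]
  · rw [← hb, ← Equiv.Perm.smul_def, Finset.smul_mem_smul_finset_iff, Golay.mem_pts,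
      Golay.idx_pt (by norm_num), hq, decide_eq_true_eq]
  · rw [← hc, ← Equiv.Perm.smul_def, Finset.smul_mem_smul_finset_iff, Golay.mem_pts,
      Golay.idx_pt (by norm_num), hr, decide_eq_true_eq]

end Cfsg.Agent.Leech
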