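import Cfsg.Agent.Lib.Leech.Normal

/-!
# Elements of M24 moving an octad with two marked points and an outside point

* `exists_map_octad_two_out`, `permEl_smul_fvB`, `fvC`/`fvD` images
-/

set_option autoImplicit false

open scoped Pointwise

namespace Cfsg.Agent.Leech

theorem exists_frame_two {o : Finset GolayPt} (ho : o ∈ octads) {a b c : GolayPt} (ha : a ∈ o)
    (hb : b ∈ o) (hab : a ≠ b) (hc : c ∉ o) :
    ∃ x : Fin 7 → GolayPt, Golay.IsFrame x ∧ x 0 = a ∧ x 1 = b ∧ x 6 = c ∧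
      ∀ i : Fin 7, i.val < 6 → x i ∈ o := by
  set l := a :: b :: (o \ {a, b}).toList with hl
  have hnd : l.Nodup := by
    simp [hl, Finset.nodup_toList, hab]
  have hlen : l.length = 8 := by
    simp only [hl, List.length_cons, Finset.length_toList]
    rw [Finset.card_sdiff_of_subset (by simp [Finset.insert_subset_iff, ha, hb]),
      Finset.card_pair hab, show o.card = 8 from ho.2]
  have hmem : ∀ p ∈ l, p ∈ o := by
    intro p hp
    simp only [hl, List.mem_cons, Finset.mem_toList, Finset.mem_sdiff] at hp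
    rcases hp with rfl | rfl | ⟨hp, -⟩ <;> assumption
  let x : Fin 7 → GolayPt := fun i => if h : i.val < 6 then l[i.val]'(by omega) else c
  have hxo : ∀ i : Fin 7, i.val < 6 → x i ∈ o := fun i hi => by
    simp only [x, dif_pos hi]; exact hmem _ (List.getElem_mem _)
  refine ⟨x, ⟨fun i j hij => ?_, o, ho, hxo, by show c ∉ o; exact hc⟩, rfl, rfl, rfl, hxo⟩
  simp only [x] at hij
  split_ifs at hij with h1 h2 h3
  · exact Fin.ext ((hnd.getElem_inj_iff).1 hij)
  · exact absurd (hij ▸ hmem _ (List.getElem_mem _)) hc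
  · exact absurd (hij.symm ▸ hmem _ (List.getElem_mem _)) hc
  · exact Fin.ext (by omega)

theorem exists_map_octad_two_out {o o' : Finset GolayPt} (ho : o ∈ octads) (ho' : o' ∈ octads)
    {a b c a' b' c' : GolayPt} (ha : a ∈ o) (hb : b ∈ o) (hab : a ≠ b) (hc : c ∉ o)
    (ha' : a' ∈ o') (hb' : b' ∈ o') (hab' : a' ≠ b') (hc' : c' ∉ o') :
    ∃ σ ∈ M24, σ a = a' ∧ σ b = b' ∧ σ c = c' ∧ σ • o = o' := by
  obtain ⟨x, hx, x0, x1, x6, hxo⟩ := exists_frame_two ho ha hb hab hc
  obtain ⟨y, hy, y0, y1, y6, hyo⟩ := exists_frame_two ho' ha' hb' hab' hc'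
  obtain ⟨σ, hσ, he⟩ := Golay.exists_frame_map hx hy
  refine ⟨σ, hσ, by rw [← x0, he, y0], by rw [← x1, he, y1], by rw [← x6, he, y6], ?_⟩
  refine Golay.octad_eq_of_five (Golay.smul_mem_octads hσ ho) ho' ?_
  let f : Fin 5 → GolayPt := fun i => y (Fin.castLE (by norm_num) i)
  have hf : Function.Injective f := fun i j h => Fin.castLE_injective _ (hy.1 h)
  have h5 : (Finset.univ.image f).card = 5 := by
    rw [Finset.card_image_of_injective _ hf]; rfl
  rw [← h5]
  refine Finset.card_le_card fun q hq => ?_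
  obtain ⟨i, -, rfl⟩ := Finset.mem_image.1 hq
  refine Finset.mem_inter.2 ⟨?_, hyo _ (by simp; omega)⟩
  simp only [f]
  rw [← he, ← Equiv.Perm.smul_def, Finset.smul_mem_smul_finset_iff]
  exact hxo _ (by simp; omega)

theorem permEl_smul_octVec {σ : Equiv.Perm GolayPt} (hσ : σ ∈ M24) {o : Finset GolayPt}
    (ho : o ∈ octads) {v : leechLattice} (hv : (v : GolayPt → ℤ) = fvB o) :
    ((permEl σ hσ • v : leechLattice) : GolayPt → ℤ) = fvB (σ • o) := by
  funext i
  rw [vec_permEl, hv]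
  have h : σ.symm i ∈ o ↔ i ∈ σ • o := by
    rw [← Finset.inv_smul_mem_iff]; rfl
  simp [fvB, octVec, h]

theorem permEl_smul_fvD {σ : Equiv.Perm GolayPt} (hσ : σ ∈ M24) {k : GolayPt} {v : leechLattice}
    (hv : (v : GolayPt → ℤ) = fvD k) :
    ((permEl σ hσ • v : leechLattice) : GolayPt → ℤ) = fvD (σ k) := by
  funext i
  rw [vec_permEl, hv]
  simp [fvD, Equiv.symm_apply_eq]

end Cfsg.Agent.Leech
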