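import Cfsg.Agent.Lib.Leech.Census552
import Cfsg.Agent.Lib.Leech.FrameMaps

/-!
# The 275 points of a McLaughlin configuration

* `mclBase`, `ncard_mclBase`, `ncard_mclBase_eight`, `ncard_mclBase_sixteen`, `mclBase_orbits`
-/

set_option autoImplicit false

open scoped Pointwise

namespace Cfsg.Agent.Leech

/-- The normal form of the 275 points. -/
def mclBase : Set leechLattice :=
  {x | sqNorm (x : GolayPt → ℤ) = 32 ∧ dotInt (x : GolayPt → ℤ) (baseF : GolayPt → ℤ) = 24 ∧
    dotInt (x : GolayPt → ℤ) (baseU : GolayPt → ℤ) = 16}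

theorem pI_facts : (pI : GolayPt) ≠ none ∧ pI ≠ pO := by decide

theorem ncard_mclBase_filter (R : ℤ → Prop) :
    {x : leechLattice | x ∈ mclBase ∧ R (dotInt (x : GolayPt → ℤ) (baseX : GolayPt → ℤ))}.ncard =
      {j : GolayPt | j ≠ none ∧ j ≠ pO ∧ R (if j = pI then 32 else 16)}.ncard +
      {o : Finset GolayPt | o ∈ octads ∧ none ∈ o ∧ pO ∈ o ∧
        R (if pI ∈ o then 16 else 8)}.ncard +
      {o : Finset GolayPt | o ∈ octads ∧ none ∈ o ∧ pO ∉ o ∧
        R (if pI ∈ o then 8 else 16)}.ncard := by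
  show {x : leechLattice | (sqNorm (x : GolayPt → ℤ) = 32 ∧ _ ∧ _) ∧ _}.ncard = _
  rw [ncard_subtype (fun x => (sqNorm x = 32 ∧ dotInt x (baseF : GolayPt → ℤ) = 24 ∧
    dotInt x (baseU : GolayPt → ℤ) = 16) ∧ R (dotInt x (baseX : GolayPt → ℤ)))]
  rw [show {x | x ∈ leechLattice ∧ (sqNorm x = 32 ∧ dotInt x (baseF : GolayPt → ℤ) = 24 ∧
    dotInt x (baseU : GolayPt → ℤ) = 16) ∧ R (dotInt x (baseX : GolayPt → ℤ))} =
    {x | x ∈ set552 ∧ (dotInt x (baseU : GolayPt → ℤ) = 16 ∧
      R (dotInt x (baseX : GolayPt → ℤ)))} by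
      ext x; simp only [set552, Set.mem_ofPred_eq]; tauto]
  rw [ncard552]
  have eA : {j : GolayPt | j ≠ none ∧ (dotInt (fvA j : GolayPt → ℤ) (baseU : GolayPt → ℤ) = 16 ∧
      R (dotInt (fvA j : GolayPt → ℤ) (baseX : GolayPt → ℤ)))} =
      {j | j ≠ none ∧ j ≠ pO ∧ R (if j = pI then 32 else 16)} := by
    ext j
    simp only [Set.mem_ofPred_eq, dotInt_baseU, dotInt_baseX]
    refine and_congr_right fun hj => ?_
    rw [fvA_none hj, fvA_apply none_ne_pO.symm, fvA_apply pI_facts.1]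
    by_cases h : pO = j
    · simp [← h]
    · by_cases h' : pI = j
      · simp [← h', pI_facts.2, Ne.symm pI_facts.2]
      · simp [h, h', Ne.symm h, Ne.symm h']
  have eB : {o : Finset GolayPt | o ∈ octads ∧ none ∈ o ∧
      (dotInt (fvB o) (baseU : GolayPt → ℤ) = 16 ∧ R (dotInt (fvB o) (baseX : GolayPt → ℤ)))} =
      {o | o ∈ octads ∧ none ∈ o ∧ pO ∈ o ∧ R (if pI ∈ o then 16 else 8)} := by
    ext o
    simp only [Set.mem_ofPred_eq, dotInt_baseU, dotInt_baseX]
    refine and_congr_right fun _ => and_congr_right fun h => ?_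
    rw [fvB_none h, fvB_apply, fvB_apply]
    by_cases h' : pO ∈ o <;> by_cases h'' : pI ∈ o <;> simp [h', h'']
  have eC : {o : Finset GolayPt | o ∈ octads ∧ none ∈ o ∧
      (dotInt (fvC o) (baseU : GolayPt → ℤ) = 16 ∧ R (dotInt (fvC o) (baseX : GolayPt → ℤ)))} =
      {o | o ∈ octads ∧ none ∈ o ∧ pO ∉ o ∧ R (if pI ∈ o then 8 else 16)} := by
    ext o
    simp only [Set.mem_ofPred_eq, dotInt_baseU, dotInt_baseX]
    refine and_congr_right fun _ => and_congr_right fun h => ?_
    rw [fvC_none, fvC_apply o none_ne_pO.symm, fvC_apply o pI_facts.1]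
    by_cases h' : pO ∈ o <;> by_cases h'' : pI ∈ o <;> simp [h', h'']
  have eD : {k : GolayPt | k ≠ none ∧ (dotInt (fvD k) (baseU : GolayPt → ℤ) = 16 ∧
      R (dotInt (fvD k) (baseX : GolayPt → ℤ)))} = ∅ := by
    refine Set.eq_empty_of_forall_notMem fun k hk => ?_
    obtain ⟨hk, h, -⟩ := hk
    rw [dotInt_baseU, fvD_none hk, fvD_apply] at h
    split_ifs at h <;> omega
  rw [eA, eB, eC, eD, Set.ncard_empty, add_zero]

theorem ncard_mclBase : mclBase.ncard = 275 := by
  have h := ncard_mclBase_filter fun _ => True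
  simp only [and_true, Set.ofPred_mem_eq] at h
  rw [h]
  simp only [mem_iff_testBit, Bool.not_eq_true, ← Bool.not_eq_true', ← Bool.and_eq_true]
  rw [ncard_octads_filter fun m => m.testBit (Golay.idx none) && m.testBit (Golay.idx pO),
    ncard_octads_filter fun m => m.testBit (Golay.idx none) && !m.testBit (Golay.idx pO),
    Set.ncard_eq_toFinset_card']
  decide +kernel

theorem ncard_mclBase_eight :
    {x : leechLattice | x ∈ mclBase ∧
      dotInt (x : GolayPt → ℤ) (baseX : GolayPt → ℤ) = 8}.ncard = 112 := by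
  rw [ncard_mclBase_filter fun d => d = 8]
  have a : {j : GolayPt | j ≠ none ∧ j ≠ pO ∧ (if j = pI then 32 else 16 : ℤ) = 8} = ∅ :=
    Set.eq_empty_of_forall_notMem fun j hj => by have := hj.2.2; split_ifs at this <;> omega
  have b : ∀ o : Finset GolayPt, ((if pI ∈ o then 16 else 8 : ℤ) = 8 ↔ pI ∉ o) ∧
      ((if pI ∈ o then 8 else 16 : ℤ) = 8 ↔ pI ∈ o) := fun o => by by_cases h : pI ∈ o <;> simp [h]
  simp only [a, fun o => (b o).1, fun o => (b o).2, Set.ncard_empty, zero_add]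
  simp only [mem_iff_testBit, Bool.not_eq_true, ← Bool.not_eq_true', ← Bool.and_eq_true]
  rw [ncard_octads_filter fun m => m.testBit (Golay.idx none) &&
      (m.testBit (Golay.idx pO) && !m.testBit (Golay.idx pI)),
    ncard_octads_filter fun m => m.testBit (Golay.idx none) &&
      (!m.testBit (Golay.idx pO) && m.testBit (Golay.idx pI))]
  decide +kernel

theorem ncard_mclBase_sixteen :
    {x : leechLattice | x ∈ mclBase ∧
      dotInt (x : GolayPt → ℤ) (baseX : GolayPt → ℤ) = 16}.ncard = 162 := by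
  rw [ncard_mclBase_filter fun d => d = 16]
  have a : {j : GolayPt | j ≠ none ∧ j ≠ pO ∧ (if j = pI then 32 else 16 : ℤ) = 16} =
      {j | j ≠ none ∧ j ≠ pO ∧ j ≠ pI} := by
    ext j; by_cases h : j = pI <;> simp [h]
  have b : ∀ o : Finset GolayPt, ((if pI ∈ o then 16 else 8 : ℤ) = 16 ↔ pI ∈ o) ∧
      ((if pI ∈ o then 8 else 16 : ℤ) = 16 ↔ pI ∉ o) := fun o => by by_cases h : pI ∈ o <;> simp [h]
  simp only [a, fun o => (b o).1, fun o => (b o).2]
  simp only [mem_iff_testBit, Bool.not_eq_true, ← Bool.not_eq_true', ← Bool.and_eq_true]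
  rw [ncard_octads_filter fun m => m.testBit (Golay.idx none) &&
      (m.testBit (Golay.idx pO) && m.testBit (Golay.idx pI)),
    ncard_octads_filter fun m => m.testBit (Golay.idx none) &&
      (!m.testBit (Golay.idx pO) && !m.testBit (Golay.idx pI)),
    Set.ncard_eq_toFinset_card']
  decide +kernel

/-- The 21 octads through `∞`, `0`, `1`. -/
def oct21 : List ℕ :=
  [9347075, 14716939, 12656663, 8536111, 13893731, 9465987, 11010247, 11731203, 8421811, 8524371,
   8716939, 13124355, 10765331, 8983587, 8398155, 9471495, 9963547, 8505411, 8657159, 10496547,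
   12717187]

theorem oct21_spec : oct21.all (fun M => Golay.isCode M && Golay.popcount M == 8 &&
    M.testBit (Golay.idx none) && M.testBit (Golay.idx pO) && M.testBit (Golay.idx pI)) = true := by
  decide +kernel

theorem oct21_meet : Golay.allSpan (fun m => !(Golay.popcount m == 8 && m.testBit (Golay.idx none)
    && !m.testBit (Golay.idx pO) && !m.testBit (Golay.idx pI)) ||
    oct21.any (fun M => Golay.popcount (M &&& m) == 2)) Golay.rows 0 = true := by
  decide +kernel

theorem exists_octad_meet_two {o : Finset GolayPt} (ho : o ∈ octads) (h : none ∈ o)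
    (h0 : pO ∉ o) (h1 : pI ∉ o) :
    ∃ O ∈ octads, none ∈ O ∧ pO ∈ O ∧ pI ∈ O ∧ (O ∩ o).card = 2 := by
  have hm := Golay.supports_forall oct21_meet ho.1
  rw [mem_iff_testBit] at h h0 h1
  simp only [Bool.not_eq_true] at h0 h1
  simp only [Golay.popcount_maskOf, show o.card = 8 from ho.2, h, h0, h1, beq_self_eq_true,
    Bool.not_false, Bool.and_self, Bool.not_true, Bool.false_or, List.any_eq_true,
    beq_iff_eq] at hm
  obtain ⟨M, hM, hc⟩ := hm
  have hs := List.all_eq_true.1 oct21_spec M hM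
  simp only [Bool.and_eq_true] at hs
  refine ⟨Golay.pts M, Golay.pts_mem_octads (by simp [hs.1.1.1.1, beq_iff_eq.1 hs.1.1.1.2]),
    Golay.mem_pts.2 hs.1.1.2, Golay.mem_pts.2 hs.1.2, Golay.mem_pts.2 hs.2, ?_⟩
  have := Golay.card_pts (M &&& Golay.maskOf o)
  rw [Golay.pts_and, Golay.pts_maskOf, hc] at this
  exact this

/-- The conditions on an auxiliary vector in the normal form. -/
theorem exists_normal_with_aux {y : leechLattice} (hy : y ∈ mclBase) (t : leechLattice)
    (ht : sqNorm (t : GolayPt → ℤ) = 32)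
    (hU : (t : GolayPt → ℤ) none + (t : GolayPt → ℤ) pO = 0)
    (hX : (t : GolayPt → ℤ) none + (t : GolayPt → ℤ) pI = 4)
    (hF : dotInt (baseF : GolayPt → ℤ) (t : GolayPt → ℤ) = 16) :
    ∃ (g : Co0) (j : GolayPt), j ≠ none ∧ j ≠ pO ∧ g • baseF = baseF ∧ g • baseU = baseU ∧
      g • baseX = fvA j ∧ g • y ∈ mclBase ∧
      dotInt ((g • y : leechLattice) : GolayPt → ℤ) (baseU' : GolayPt → ℤ) =
        dotInt (y : GolayPt → ℤ) (t : GolayPt → ℤ) ∧
      dotInt ((g • y : leechLattice) : GolayPt → ℤ) (fvA j : GolayPt → ℤ) =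
        dotInt (y : GolayPt → ℤ) (baseX : GolayPt → ℤ) := by
  have hXn : sqNorm (baseX : GolayPt → ℤ) = 32 :=
    sqNorm_pairVec pI_facts.1.symm _ (Or.inl rfl) (Or.inl rfl)
  have hUX : dotInt (baseU : GolayPt → ℤ) (baseX : GolayPt → ℤ) = 16 := by decide +kernel
  have hFX : dotInt (baseF : GolayPt → ℤ) (baseX : GolayPt → ℤ) = 24 := by decide +kernel
  have hFU : dotInt (baseF : GolayPt → ℤ) (baseU : GolayPt → ℤ) = 24 := by decide +kernel
  obtain ⟨g, j, j1, j2, g1, g2, g3, g4⟩ := exists_normal_mcl_aux sqNorm_baseF sqNorm_baseU hXn ht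
    hFU hFX hUX (by rw [dotInt_comm, dotInt_baseU, hU, mul_zero]) hF
    (by rw [dotInt_comm, dotInt_baseX, hX]; norm_num)
  refine ⟨g, j, j1, j2, g1, g2, g4, ⟨by rw [sqNorm_smul]; exact hy.1, ?_, ?_⟩,
    dotInt_smul_of_eq g3 y, dotInt_smul_of_eq g4 y⟩
  · rw [dotInt_smul_of_eq g1]; exact hy.2.1
  · rw [dotInt_smul_of_eq g2]; exact hy.2.2

theorem sum_split_three {M : Type*} [AddCommMonoid M] (f : GolayPt → M) {O : Finset GolayPt}
    {a b c : GolayPt} (ha : a ∈ O) (hb : b ∈ O) (hc : c ∈ O) (hab : a ≠ b) (hac : a ≠ c)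
    (hbc : b ≠ c) : ∑ i ∈ O, f i = f a + (f b + (f c + ∑ i ∈ O \ {a, b, c}, f i)) := by
  rw [← Finset.sum_sdiff (show {a, b, c} ⊆ O by simp [Finset.insert_subset_iff, ha, hb, hc]),
    Finset.sum_insert (by simp [hab, hac]), Finset.sum_insert (by simp [hbc]),
    Finset.sum_singleton, add_comm, add_assoc, add_assoc]

/-- Every point of product 16 with `baseX` is moved to `baseY`. -/
theorem exists_to_baseY {y : leechLattice} (hy : y ∈ mclBase)
    (h : dotInt (y : GolayPt → ℤ) (baseX : GolayPt → ℤ) = 16) :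
    ∃ g : Co0, g • baseF = baseF ∧ g • baseU = baseU ∧ g • baseX = baseX ∧ g • y = baseY := by
  suffices ht : ∃ t : leechLattice, sqNorm (t : GolayPt → ℤ) = 32 ∧
      (t : GolayPt → ℤ) none + (t : GolayPt → ℤ) pO = 0 ∧
      (t : GolayPt → ℤ) none + (t : GolayPt → ℤ) pI = 4 ∧
      dotInt (baseF : GolayPt → ℤ) (t : GolayPt → ℤ) = 16 ∧
      dotInt (y : GolayPt → ℤ) (t : GolayPt → ℤ) = 16 by
    obtain ⟨t, t1, t2, t3, t4, t5⟩ := ht
    obtain ⟨g, j, j1, j2, g1, g2, g3, ⟨a1, a2, a3⟩, g5, g6⟩ :=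
      exists_normal_with_aux hy t t1 t2 t3 t4
    rw [t5, dotInt_baseU'] at g5
    rw [h] at g6
    rw [dotInt_baseU] at a3
    obtain ⟨j', j1', j2', he⟩ := pair_of_coords a1 (by omega) (by omega) a2
    rw [he] at g6
    have hne : j ≠ j' := by
      rintro rfl
      rw [fvA, dotInt_pairVec, coe_pairVec] at g6
      simp [j1, Ne.symm j1] at g6
    obtain ⟨σ, hσ, s1, s2, s3, s4⟩ := exists_map_four
      (show [none, pO, j, j'].Nodup by
        simp [none_ne_pO, Ne.symm j1, Ne.symm j1', Ne.symm j2, Ne.symm j2', hne])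
      (show [none, pO, pI, pII].Nodup by decide)
    refine ⟨permEl σ hσ * g, by rw [mul_smul, g1, permEl_smul_baseF hσ s1], ?_, ?_, ?_⟩
    · rw [mul_smul, g2, baseU, permEl_smul_pairVec]; simp only [s1, s2]
    · rw [mul_smul, g3, fvA, permEl_smul_pairVec]; simp only [s1, s3]; rfl
    · rw [mul_smul, he, fvA, permEl_smul_pairVec]; simp only [s1, s4]; rfl
  obtain ⟨hn, hF, hU⟩ := hy
  rw [dotInt_baseU] at hU
  rw [dotInt_baseX] at h
  rcases classify552 y.2 hn hF with ⟨j, hj, he⟩ | ⟨o, ho, ho1, he⟩ | ⟨o, ho, ho1, he⟩ | ⟨k, hk, he⟩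
  · rw [he, fvA_none hj, fvA_apply none_ne_pO.symm] at hU
    refine ⟨baseU', sqNorm_baseU', by decide +kernel, by decide +kernel, by decide +kernel, ?_⟩
    rw [he, dotInt_baseU', fvA_none hj, fvA_apply none_ne_pO.symm]
    omega
  · rw [he, fvB_none ho1, fvB_apply] at hU h
    have h0 : pO ∈ o := by by_contra h0; rw [if_neg h0] at hU; omega
    have h1 : pI ∈ o := by by_contra h1; rw [if_neg h1] at h; omega
    obtain ⟨r, hr⟩ : (o \ {none, pO, pI}).Nonempty := Finset.card_pos.1 (by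
      have := Finset.le_card_sdiff ({none, pO, pI} : Finset GolayPt) o
      have := Finset.card_le_three (a := none) (b := pO) (c := pI)
      rw [show o.card = 8 from ho.2] at *
      omega)
    simp only [Finset.mem_sdiff, Finset.mem_insert, Finset.mem_singleton, not_or] at hr
    obtain ⟨hro, r0, r1, r2⟩ := hr
    have hM : ({pO, r} : Finset GolayPt) ⊆ o := by simp [Finset.insert_subset_iff, h0, hro]
    refine ⟨⟨octVec o {pO, r}, octVec_mem ho (by
        rw [Finset.inter_eq_right.2 hM, Finset.card_pair (Ne.symm r1)]; decide)⟩,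
      sqNorm_octVec ho _, ?_, ?_, ?_, ?_⟩
    · simp [octVec, ho1, h0, Ne.symm r0, none_ne_pO]
    · simp [octVec, ho1, h1, Ne.symm r0, none_ne_pO, pI_facts.2, Ne.symm r2]
    · rw [dotInt_comm, dotInt_baseF_octVec ho hM, Finset.card_pair (Ne.symm r1)]
      simp [octVec, ho1, Ne.symm r0, none_ne_pO]
    · rw [he, dotInt_octVec, Finset.inter_eq_right.2 hM, Finset.sum_pair (Ne.symm r1),
        Finset.sum_congr rfl (g := fun _ => (2 : ℤ)) fun i hi => by rw [fvB_apply, if_pos hi],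
        Finset.sum_const, show o.card = 8 from ho.2, fvB_apply, fvB_apply, if_pos h0, if_pos hro]
      norm_num
  · rw [he, fvC_none, fvC_apply o none_ne_pO.symm] at hU
    rw [he, fvC_none, fvC_apply o pI_facts.1] at h
    have h0 : pO ∉ o := by intro h0; rw [if_pos h0] at hU; omega
    have h1 : pI ∉ o := by intro h1; rw [if_pos h1] at h; omega
    obtain ⟨O, hO, O1, O2, O3, hc⟩ := exists_octad_meet_two ho ho1 h0 h1
    obtain ⟨r, hr, hrO⟩ : ∃ r, r ≠ none ∧ O ∩ o = {none, r} := by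
      obtain ⟨a, b, hab, he2⟩ := Finset.card_eq_two.1 hc
      have : none ∈ ({a, b} : Finset GolayPt) := he2 ▸ Finset.mem_inter.2 ⟨O1, ho1⟩
      rcases Finset.mem_insert.1 this with rfl | hb
      · exact ⟨b, Ne.symm hab, he2⟩
      · rw [Finset.mem_singleton] at hb; subst hb
        exact ⟨a, hab, he2.trans (Finset.pair_comm _ _)⟩
    have hr' : r ∈ O ∩ o := hrO ▸ by simp
    rw [Finset.mem_inter] at hr'
    have r1 : pO ≠ r := fun e => h0 (e ▸ hr'.2)
    have hM : ({pO, r} : Finset GolayPt) ⊆ O := by simp [Finset.insert_subset_iff, O2, hr'.1]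
    refine ⟨⟨octVec O {pO, r}, octVec_mem hO (by
        rw [Finset.inter_eq_right.2 hM, Finset.card_pair r1]; decide)⟩,
      sqNorm_octVec hO _, ?_, ?_, ?_, ?_⟩
    · simp [octVec, O1, O2, Ne.symm hr, none_ne_pO]
    · simp [octVec, O1, O3, Ne.symm hr, none_ne_pO, pI_facts.2,
        show pI ≠ r from fun e => h1 (e ▸ hr'.2)]
    · rw [dotInt_comm, dotInt_baseF_octVec hO hM, Finset.card_pair r1]
      simp [octVec, O1, Ne.symm hr, none_ne_pO]
    · rw [he, dotInt_octVec, Finset.inter_eq_right.2 hM, Finset.sum_pair r1,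
        sum_split_three _ O1 O2 hr'.1 none_ne_pO (Ne.symm hr) r1,
        Finset.sum_congr rfl (g := fun _ => (1 : ℤ)) fun i hi => by
          simp only [Finset.mem_sdiff, Finset.mem_insert, Finset.mem_singleton, not_or] at hi
          have : i ∉ o := fun hio => by
            have := hrO ▸ Finset.mem_inter.2 ⟨hi.1, hio⟩
            simp [hi.2.1, hi.2.2.2] at this
          rw [fvC_apply o hi.2.1, if_neg this],
        Finset.sum_const, Finset.card_sdiff_of_subset (by
          simp [Finset.insert_subset_iff, O1, O2, hr'.1]),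
        show O.card = 8 from hO.2, Finset.card_eq_three.2 ⟨_, _, _, none_ne_pO, Ne.symm hr, r1, rfl⟩,
        fvC_none, fvC_apply o none_ne_pO.symm, fvC_apply o hr, if_neg h0, if_pos hr'.2]
      norm_num
  · exfalso
    rw [he, fvD_none hk, fvD_apply] at hU
    split_ifs at hU <;> omega

/-- Every point of product 8 with `baseX` is moved to an octad vector. -/
theorem exists_to_fvB {y : leechLattice} (hy : y ∈ mclBase)
    (h : dotInt (y : GolayPt → ℤ) (baseX : GolayPt → ℤ) = 8) :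
    ∃ (g : Co0) (o : Finset GolayPt), o ∈ octads ∧ none ∈ o ∧ pO ∈ o ∧ pI ∉ o ∧
      g • baseF = baseF ∧ g • baseU = baseU ∧ g • baseX = baseX ∧
      ((g • y : leechLattice) : GolayPt → ℤ) = fvB o := by
  obtain ⟨hn, hF, hU⟩ := id hy
  rw [dotInt_baseU] at hU
  rw [dotInt_baseX] at h
  rcases classify552 y.2 hn hF with ⟨j, hj, he⟩ | ⟨o, ho, ho1, he⟩ | ⟨o, ho, ho1, he⟩ | ⟨k, hk, he⟩
  · exfalso
    rw [he, fvA_none hj, fvA_apply pI_facts.1] at h
    split_ifs at h <;> omega
  · rw [he, fvB_none ho1, fvB_apply] at hU h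
    have h0 : pO ∈ o := by by_contra h0; rw [if_neg h0] at hU; omega
    have h1 : pI ∉ o := by intro h1; rw [if_pos h1] at h; omega
    exact ⟨1, o, ho, ho1, h0, h1, one_smul _ _, one_smul _ _, one_smul _ _, by rw [one_smul, he]⟩
  · rw [he, fvC_none, fvC_apply o none_ne_pO.symm] at hU
    rw [he, fvC_none, fvC_apply o pI_facts.1] at h
    have h0 : pO ∉ o := by intro h0; rw [if_pos h0] at hU; omega
    have h1 : pI ∈ o := by by_contra h1; rw [if_neg h1] at h; omega
    obtain ⟨S, hS1, hS2, hS⟩ := Finset.exists_subsuperset_card_eq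
      (show {none, pI} ⊆ o by simp [Finset.insert_subset_iff, ho1, h1])
      (show ({none, pI} : Finset GolayPt).card ≤ 4 by
        rw [Finset.card_pair pI_facts.1.symm]; norm_num)
      (show 4 ≤ o.card by rw [ho.2]; norm_num)
    obtain ⟨O, hO, O2, hOo⟩ := exists_octad_meet ho hS2 hS h0
    have O1 : none ∈ O := (Finset.mem_inter.1 (hOo ▸ hS1 (by simp))).1
    have O3 : pI ∈ O := (Finset.mem_inter.1 (hOo ▸ hS1 (by simp))).1
    obtain ⟨r, hr⟩ : ((O \ o) \ {pO}).Nonempty := Finset.card_pos.1 (by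
      have a := Finset.card_sdiff_add_card_inter O o
      rw [hOo, hS, show O.card = 8 from hO.2] at a
      rw [Finset.card_sdiff_of_subset (by simp [O2, h0]), Finset.card_singleton]; omega)
    simp only [Finset.mem_sdiff, Finset.mem_singleton] at hr
    obtain ⟨⟨hrO, hro⟩, r1⟩ := hr
    have r0 : r ≠ none := fun e => hro (e ▸ ho1)
    have hM : ({pO, r} : Finset GolayPt) ⊆ O := by simp [Finset.insert_subset_iff, O2, hrO]
    obtain ⟨t, ht⟩ : ∃ t : leechLattice, (t : GolayPt → ℤ) = octVec O {pO, r} :=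
      ⟨⟨octVec O {pO, r}, octVec_mem hO (by
        rw [Finset.inter_eq_right.2 hM, Finset.card_pair (Ne.symm r1)]; decide)⟩, rfl⟩
    have hyt : dotInt (y : GolayPt → ℤ) (t : GolayPt → ℤ) = 0 := by
      rw [he, ht, dotInt_octVec, Finset.inter_eq_right.2 hM, Finset.sum_pair (Ne.symm r1),
        fvC_apply o none_ne_pO.symm, fvC_apply o r0, if_neg h0, if_neg hro,
        ← Finset.sum_inter_add_sum_sdiff O o, hOo, ← Finset.sum_sdiff
          (show {none} ⊆ S by simpa using hS1 (by simp)), Finset.sum_singleton, fvC_none,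
        Finset.sum_congr rfl (g := fun _ => (-1 : ℤ)) fun i hi => by
          simp only [Finset.mem_sdiff, Finset.mem_singleton] at hi
          rw [fvC_apply o hi.2, if_pos (hS2 hi.1)],
        Finset.sum_congr (s₁ := O \ o) rfl (g := fun _ => (1 : ℤ)) fun i hi => by
          simp only [Finset.mem_sdiff] at hi
          rw [fvC_apply o (show i ≠ none from fun e => hi.2 (e ▸ ho1)), if_neg hi.2],
        Finset.sum_const, Finset.sum_const, Finset.card_sdiff_of_subset
          (show {none} ⊆ S by simpa using hS1 (by simp)), hS, Finset.card_singleton]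
      have a := Finset.card_sdiff_add_card_inter O o
      rw [hOo, hS, show O.card = 8 from hO.2] at a
      rw [show (O \ o).card = 4 by omega]
      norm_num
    obtain ⟨g, j, j1, j2, g1, g2, g3, ⟨a1, a2, a3⟩, g5, g6⟩ := exists_normal_with_aux hy t
      (by rw [ht]; exact sqNorm_octVec hO _)
      (by rw [ht]; simp [octVec, O1, O2, Ne.symm r0, none_ne_pO])
      (by rw [ht]; simp [octVec, O1, O3, Ne.symm r0, none_ne_pO, pI_facts.2,
        show pI ≠ r from fun e => hro (e ▸ h1)])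
      (by rw [ht, dotInt_comm, dotInt_baseF_octVec hO hM, Finset.card_pair (Ne.symm r1)]
          simp [octVec, O1, Ne.symm r0, none_ne_pO])
    rw [hyt, dotInt_baseU'] at g5
    rw [dotInt_baseX, show ((y : GolayPt → ℤ) none + (y : GolayPt → ℤ) pI) = 2 by
      rw [he, fvC_none, fvC_apply o pI_facts.1, if_pos h1]; norm_num] at g6
    rw [dotInt_baseU] at a3
    obtain ⟨σ, hσ, s1, s2, s3⟩ :=
      exists_map_three ⟨none_ne_pO, Ne.symm j2, Ne.symm j1⟩ pt_distinct
    rcases classify552 (g • y).2 a1 a2 with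
      ⟨i, hi, e⟩ | ⟨o', ho', ho1', e⟩ | ⟨o', ho', ho1', e⟩ | ⟨k, hk, e⟩
    · rw [e, fvA_none hi] at g5 a3; omega
    · rw [e, fvB_none ho1', fvB_apply] at g5
      rw [e, fvA, dotInt_pairVec, fvB_none ho1', fvB_apply] at g6
      have h0' : pO ∈ o' := by by_contra h0'; rw [if_neg h0'] at g5; omega
      have h1' : j ∉ o' := by intro h1'; rw [if_pos h1'] at g6; omega
      refine ⟨permEl σ hσ * g, σ • o', Golay.smul_mem_octads hσ ho', ?_, ?_, ?_, ?_, ?_, ?_, ?_⟩
      · rw [← s1, ← Equiv.Perm.smul_def, Finset.smul_mem_smul_finset_iff]; exact ho1'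
      · rw [← s2, ← Equiv.Perm.smul_def, Finset.smul_mem_smul_finset_iff]; exact h0'
      · rw [← s3, ← Equiv.Perm.smul_def, Finset.smul_mem_smul_finset_iff]; exact h1'
      · rw [mul_smul, g1, permEl_smul_baseF hσ s1]
      · rw [mul_smul, g2, baseU, permEl_smul_pairVec]; simp only [s1, s2]
      · rw [mul_smul, g3, fvA, permEl_smul_pairVec]; simp only [s1, s3]; rfl
      · rw [mul_smul]; exact permEl_smul_octVec hσ ho' e
    · rw [e, fvC_none] at g5 a3; omega
    · rw [e, fvD_none hk] at g5 a3; omega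
  · exfalso
    rw [he, fvD_none hk, fvD_apply] at hU
    split_ifs at hU <;> omega

theorem mclBase_orbits {y y' : leechLattice} (hy : y ∈ mclBase) (hy' : y' ∈ mclBase)
    (hne : y ≠ baseX) (_hne : y' ≠ baseX)
    (h : dotInt (y : GolayPt → ℤ) (baseX : GolayPt → ℤ) =
      dotInt (y' : GolayPt → ℤ) (baseX : GolayPt → ℤ)) :
    ∃ g : Co0, g • baseF = baseF ∧ g • baseU = baseU ∧ g • baseX = baseX ∧ g • y = y' := by
  have cls : dotInt (y : GolayPt → ℤ) (baseX : GolayPt → ℤ) = 8 ∨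
      dotInt (y : GolayPt → ℤ) (baseX : GolayPt → ℤ) = 16 := by
    obtain ⟨hn, hF, hU⟩ := hy
    rw [dotInt_baseU] at hU
    rw [dotInt_baseX]
    rcases classify552 y.2 hn hF with ⟨j, hj, he⟩ | ⟨o, ho, ho1, he⟩ | ⟨o, ho, ho1, he⟩ |
      ⟨k, hk, he⟩
    · rw [he, fvA_none hj, fvA_apply pI_facts.1]
      by_cases hp : pI = j
      · exact absurd (Subtype.ext (by rw [he, ← hp]; rfl)) hne
      · simp [hp]
    · rw [he, fvB_none ho1, fvB_apply]; split_ifs <;> simp
    · rw [he, fvC_none, fvC_apply o pI_facts.1]; split_ifs <;> simp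
    · rw [he, fvD_none hk, fvD_apply] at hU; split_ifs at hU <;> omega
  rcases cls with c | c
  · obtain ⟨g, o, ho, o1, o2, o3, g1, g2, g3, g4⟩ := exists_to_fvB hy c
    obtain ⟨k, o', ho', o1', o2', o3', k1, k2, k3, k4⟩ := exists_to_fvB hy' (h ▸ c)
    obtain ⟨σ, hσ, s1, s2, s3, s4⟩ :=
      exists_map_octad_two_out ho ho' o1 o2 none_ne_pO o3 o1' o2' none_ne_pO o3'
    refine ⟨k⁻¹ * permEl σ hσ * g, ?_, ?_, ?_, ?_⟩
    · rw [mul_smul, mul_smul, g1, permEl_smul_baseF hσ s1, inv_smul_eq_iff, k1]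
    · rw [mul_smul, mul_smul, g2, inv_smul_eq_iff, k2, baseU, permEl_smul_pairVec]
      simp only [s1, s2]
    · rw [mul_smul, mul_smul, g3, inv_smul_eq_iff, k3, baseX, permEl_smul_pairVec]
      simp only [s1, s3]
    · rw [mul_smul, mul_smul, inv_smul_eq_iff]
      exact Subtype.ext (by rw [permEl_smul_octVec hσ ho g4, s4, k4])
  · obtain ⟨g, g1, g2, g3, g4⟩ := exists_to_baseY hy c
    obtain ⟨k, k1, k2, k3, k4⟩ := exists_to_baseY hy' (h ▸ c)
    exact ⟨k⁻¹ * g, by rw [mul_smul, g1, inv_smul_eq_iff, k1],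
      by rw [mul_smul, g2, inv_smul_eq_iff, k2], by rw [mul_smul, g3, inv_smul_eq_iff, k3],
      by rw [mul_smul, g4, inv_smul_eq_iff, k4]⟩

end Cfsg.Agent.Leech
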