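import Cfsg.Agent.Lib.Leech.McLSimple
import Cfsg.Agent.Lib.Leech.MclConfig

/-!
# The stabiliser of a vector of norm 48 is simple

* `co3Group`, `pts552`, `natCard_co3Group`, `isSimpleGroup_co3Group`
-/

set_option autoImplicit false

open scoped Pointwise

namespace Cfsg.Agent.Leech

open MulAction

/-- The stabiliser of `baseF`. -/
def co3Group : Subgroup Co0 := stabilizer Co0 baseF

/-- The 552 minimal vectors of product 24 with `baseF`. -/
def pts552 : Set leechLattice :=
  {x | sqNorm (x : GolayPt → ℤ) = 32 ∧ dotInt (x : GolayPt → ℤ) (baseF : GolayPt → ℤ) = 24}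

theorem co3_fix {g : Co0} (h : g ∈ co3Group) : g • baseF = baseF := mem_stabilizer_iff.1 h

theorem co3_inf : co3Group ⊓ stabilizer Co0 baseU = mclGroup := rfl

theorem smul_mem_pts552 {g : Co0} (h : g ∈ co3Group) {x : leechLattice} (hx : x ∈ pts552) :
    g • x ∈ pts552 :=
  ⟨by rw [sqNorm_smul]; exact hx.1, by rw [dotInt_smul_of_eq (co3_fix h)]; exact hx.2⟩

theorem baseU_mem552 : baseU ∈ pts552 := ⟨sqNorm_baseU, by decide +kernel⟩

theorem co3_orbit : {y | ∃ a ∈ co3Group, a • baseU = y} = pts552 := by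
  ext y
  constructor
  · rintro ⟨a, ha, rfl⟩; exact smul_mem_pts552 ha baseU_mem552
  · intro hy
    obtain ⟨g, g1, g2⟩ := exists_normal_six sqNorm_baseF hy.1 (by rw [dotInt_comm]; exact hy.2)
    exact ⟨g⁻¹, mem_stabilizer_iff.2 (inv_smul_eq_iff.2 g1.symm), inv_smul_eq_iff.2 g2.symm⟩

theorem flip_mem552 {x : leechLattice} (hx : x ∈ pts552) : baseF - x ∈ pts552 := by
  refine ⟨?_, ?_⟩
  · rw [AddSubgroup.coe_sub, sqNorm_sub, sqNorm_baseF, hx.1, dotInt_comm, hx.2]; norm_num
  · rw [AddSubgroup.coe_sub, dotInt_sub_left, ← sqNorm_eq_dotInt, sqNorm_baseF, hx.2]; norm_num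

theorem dot_flip (x : leechLattice) :
    dotInt ((baseF - x : leechLattice) : GolayPt → ℤ) (baseU : GolayPt → ℤ) =
      24 - dotInt (x : GolayPt → ℤ) (baseU : GolayPt → ℤ) := by
  rw [AddSubgroup.coe_sub, dotInt_sub_left]
  have : dotInt (baseF : GolayPt → ℤ) (baseU : GolayPt → ℤ) = 24 := by decide +kernel
  rw [this]

theorem dot_flip_flip {x y : leechLattice} (hx : x ∈ pts552) (hy : y ∈ pts552) :
    dotInt ((baseF - x : leechLattice) : GolayPt → ℤ) ((baseF - y : leechLattice) : GolayPt → ℤ) =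
      dotInt (x : GolayPt → ℤ) (y : GolayPt → ℤ) := by
  rw [AddSubgroup.coe_sub, AddSubgroup.coe_sub, dotInt_sub_left, dotInt_sub_right, dotInt_sub_right,
    dotInt_comm (baseF : GolayPt → ℤ) (y : GolayPt → ℤ), ← sqNorm_eq_dotInt, sqNorm_baseF, hy.2,
    hx.2]
  ring

theorem mclBase_sub {x : leechLattice} (hx : x ∈ mclBase) : x ∈ pts552 := ⟨hx.1, hx.2.1⟩

/-- The points seen from `baseU`. -/
theorem pts552_cases {x : leechLattice} (hx : x ∈ pts552) :
    x = baseU ∨ x = baseF - baseU ∨ x ∈ mclBase ∨ baseF - x ∈ mclBase := by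
  have key : dotInt (x : GolayPt → ℤ) (baseU : GolayPt → ℤ) = 16 ∨
      dotInt (x : GolayPt → ℤ) (baseU : GolayPt → ℤ) = 8 ∨ x = baseU ∨ x = baseF - baseU := by
    rw [dotInt_baseU]
    rcases classify552 x.2 hx.1 hx.2 with ⟨j, hj, he⟩ | ⟨o, ho, h, he⟩ | ⟨o, ho, h, he⟩ |
      ⟨k, hk, he⟩
    · by_cases e : j = pO
      · subst e; exact Or.inr (Or.inr (Or.inl (Subtype.ext he)))
      · rw [he, fvA_none hj, fvA_apply none_ne_pO.symm, if_neg (Ne.symm e)]; simp
    · rw [he, fvB_none h, fvB_apply]; split_ifs <;> simp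
    · rw [he, fvC_none, fvC_apply o none_ne_pO.symm]; split_ifs <;> simp
    · by_cases e : k = pO
      · subst e
        refine Or.inr (Or.inr (Or.inr (Subtype.ext ?_)))
        rw [he]
        decide +kernel
      · rw [he, fvD_none hk, fvD_apply, if_neg (Ne.symm e)]; simp
  rcases key with h | h | h | h
  · exact Or.inr (Or.inr (Or.inl ⟨hx.1, hx.2, h⟩))
  · refine Or.inr (Or.inr (Or.inr ⟨(flip_mem552 hx).1, (flip_mem552 hx).2, ?_⟩))
    rw [dot_flip, h]; norm_num
  · exact Or.inl h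
  · exact Or.inr (Or.inl h)

theorem ncard_pts552 : pts552.ncard = 552 := by
  have h : pts552 = ({x : leechLattice | sqNorm (x : GolayPt → ℤ) = 32 ∧
      dotInt (x : GolayPt → ℤ) (baseF : GolayPt → ℤ) = 24} : Set leechLattice) := rfl
  rw [h, ncard_subtype (fun x => sqNorm x = 32 ∧ dotInt x (baseF : GolayPt → ℤ) = 24)]
  have := ncard552 fun _ => True
  simp only [and_true, Set.ofPred_mem_eq] at this
  rw [show {x | x ∈ leechLattice ∧ sqNorm x = 32 ∧ dotInt x (baseF : GolayPt → ℤ) = 24} = set552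
    from rfl, this, ncard_octads_none, Set.ncard_eq_toFinset_card']
  decide +kernel

theorem finite_pts552 : pts552.Finite :=
  Set.finite_of_ncard_ne_zero (by rw [ncard_pts552]; norm_num)

theorem natCard_co3Group : Nat.card co3Group = 495766656000 := by
  have h := ncard_orbit_mul co3Group baseU
  rw [co3_orbit, ncard_pts552, co3_inf, natCard_mclGroup] at h
  exact h.symm

theorem mcl_trans275 {x y : leechLattice} (hx : x ∈ mclBase) (hy : y ∈ mclBase) :
    ∃ t ∈ mclGroup, t • x = y := by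
  have hFU : dotInt (baseF : GolayPt → ℤ) (baseU : GolayPt → ℤ) = 24 := by decide +kernel
  obtain ⟨k, k1, k2, k3⟩ := exists_normal_mcl sqNorm_baseF sqNorm_baseU hx.1 hFU
    (by rw [dotInt_comm]; exact hx.2.1) (by rw [dotInt_comm]; exact hx.2.2)
  obtain ⟨l, l1, l2, l3⟩ := exists_normal_mcl sqNorm_baseF sqNorm_baseU hy.1 hFU
    (by rw [dotInt_comm]; exact hy.2.1) (by rw [dotInt_comm]; exact hy.2.2)
  exact ⟨l⁻¹ * k, ⟨mem_stabilizer_iff.2 (by rw [mul_smul, k1, inv_smul_eq_iff, l1]),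
    mem_stabilizer_iff.2 (by rw [mul_smul, k2, inv_smul_eq_iff, l2])⟩,
    by rw [mul_smul, k3, inv_smul_eq_iff, l3]⟩

theorem smul_flip {g : Co0} (h : g ∈ co3Group) (x : leechLattice) :
    g • (baseF - x) = baseF - g • x := by rw [smul_vsub, co3_fix h]

theorem mcl_trans275' {x y : leechLattice} (hx : baseF - x ∈ mclBase) (hy : baseF - y ∈ mclBase) :
    ∃ t ∈ mclGroup, t • x = y := by
  obtain ⟨t, ht, he⟩ := mcl_trans275 hx hy
  refine ⟨t, ht, ?_⟩
  rw [smul_flip (inf_le_left (a := co3Group) (b := stabilizer Co0 baseU) ht)] at he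
  exact sub_right_injective he

theorem exists_ne_mclBase (x : leechLattice) : ∃ y ∈ mclBase, y ≠ x :=
  Set.exists_ne_of_one_lt_ncard (by rw [ncard_mclBase]; norm_num) x

theorem eq_of_mcl_fixed {x : leechLattice} (hx : x ∈ pts552) (h : ∀ t ∈ mclGroup, t • x = x) :
    x = baseU ∨ x = baseF - baseU := by
  rcases pts552_cases hx with e | e | e | e
  · exact Or.inl e
  · exact Or.inr e
  · obtain ⟨y, hy, hne⟩ := exists_ne_mclBase x
    obtain ⟨t, ht, he⟩ := mcl_trans275 e hy
    exact absurd (he ▸ h t ht) hne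
  · obtain ⟨y, hy, hne⟩ := exists_ne_mclBase (baseF - x)
    obtain ⟨t, ht, he⟩ := mcl_trans275' e (y := baseF - y) (by rwa [sub_sub_cancel])
    rw [h t ht] at he
    exact absurd (by rw [he, sub_sub_cancel]) hne

theorem co3_eq_one_of_fix {g : Co0} (hg : g ∈ co3Group) (h : ∀ x ∈ pts552, g • x = x) : g = 1 := by
  let K : Subgroup Co0 := co3Group ⊓ ⨅ x ∈ pts552, stabilizer Co0 x
  have hgK : g ∈ K := ⟨hg, Subgroup.mem_iInf.2 fun x => Subgroup.mem_iInf.2 fun hx =>
    mem_stabilizer_iff.2 (h x hx)⟩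
  have hK : ∀ k ∈ K, ∀ x ∈ pts552, k • x = x := fun k hk x hx =>
    mem_stabilizer_iff.1 (Subgroup.mem_iInf.1 (Subgroup.mem_iInf.1 hk.2 x) hx)
  have hKT : K ≤ mclGroup := fun k hk =>
    ⟨hk.1, mem_stabilizer_iff.2 (hK k hk _ baseU_mem552)⟩
  have hn : (K.subgroupOf mclGroup).Normal := by
    refine ⟨fun k hk t => ?_⟩
    rw [Subgroup.mem_subgroupOf] at hk ⊢
    refine ⟨(t * k * t⁻¹).2.1, Subgroup.mem_iInf.2 fun x => Subgroup.mem_iInf.2 fun hx =>
      mem_stabilizer_iff.2 ?_⟩
    show ((t : Co0) * (k : Co0) * (t : Co0)⁻¹) • x = x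
    rw [mul_smul, mul_smul, hK _ hk _ (smul_mem_pts552 (inv_mem t.2.1) hx), smul_inv_smul]
  have := isSimpleGroup_mclGroup
  rcases hn.eq_bot_or_eq_top with e | e
  · have : (⟨g, hKT hgK⟩ : mclGroup) ∈ K.subgroupOf mclGroup := Subgroup.mem_subgroupOf.2 hgK
    rw [e, Subgroup.mem_bot] at this
    exact congrArg Subtype.val this
  · rw [Subgroup.subgroupOf_eq_top] at e
    obtain ⟨y, hy, hne⟩ := exists_ne_mclBase baseX
    obtain ⟨x, hx, hne'⟩ := exists_ne_mclBase y
    obtain ⟨t, ht, he⟩ := mcl_trans275 hy hx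
    exact absurd (he ▸ hK t (e ht) y (mclBase_sub hy)) hne'

/-- No element of the stabiliser maps every point to its partner. -/
theorem no_flip {n : Co0} (hn : n ∈ co3Group) (h : ∀ x ∈ pts552, n • x = baseF - x) : False := by
  set w : GolayPt → ℤ := ((n • baseU' : leechLattice) : GolayPt → ℤ) + (baseU' : GolayPt → ℤ)
  have hUF : dotInt (baseU' : GolayPt → ℤ) (baseF : GolayPt → ℤ) = 16 := by decide +kernel
  have hF : dotInt w (baseF : GolayPt → ℤ) = 32 := by
    rw [show w = _ from rfl, dotInt_add_left, dotInt_smul_of_eq (co3_fix hn), hUF]; norm_num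
  have hA : ∀ j, j ≠ none → w j = 4 - w none := by
    intro j hj
    have hx : fvA j ∈ pts552 := ⟨(fvA_mem552 hj).2.1, (fvA_mem552 hj).2.2⟩
    have e : n • (baseF - fvA j) = fvA j := by
      rw [h _ (flip_mem552 hx), sub_sub_cancel]
    have h16 : dotInt w (fvA j : GolayPt → ℤ) = 16 := by
      rw [show w = _ from rfl, dotInt_add_left, dotInt_smul_of_eq e, AddSubgroup.coe_sub,
        dotInt_sub_right, hUF]
      ring
    rw [fvA, dotInt_pairVec] at h16
    omega
  rw [dotInt_baseF, ← Finset.add_sum_erase _ _ (Finset.mem_univ none),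
    Finset.sum_congr rfl fun i hi => hA i (Finset.mem_erase.1 hi).1, Finset.sum_const,
    Finset.card_erase_of_mem (Finset.mem_univ none), Finset.card_univ, card_pt, nsmul_eq_mul] at hF
  omega

/-- The orbit of `baseU` under a subgroup. -/
def orbU (N : Subgroup Co0) : Set leechLattice := {y | ∃ a ∈ N, a • baseU = y}

section normal

variable {N : Subgroup Co0}

theorem orbU_sub (hN : N ≤ co3Group) : orbU N ⊆ pts552 := by
  rintro _ ⟨a, ha, rfl⟩; exact smul_mem_pts552 (hN ha) baseU_mem552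

theorem orbU_mcl (hc : ∀ g ∈ co3Group, ∀ n ∈ N, g * n * g⁻¹ ∈ N) {t : Co0} (ht : t ∈ mclGroup)
    {y : leechLattice} (hy : y ∈ orbU N) : t • y ∈ orbU N := by
  obtain ⟨n, hn, rfl⟩ := hy
  refine ⟨t * n * t⁻¹, hc t ht.1 n hn, ?_⟩
  rw [mul_smul, mul_smul, inv_smul_eq_iff.2 (mclGroup_fix ht).2.symm]

theorem orbU_dvd (hN : N ≤ co3Group) (hc : ∀ g ∈ co3Group, ∀ n ∈ N, g * n * g⁻¹ ∈ N) :
    (orbU N).ncard ∣ 552 := by
  set K := N ⊔ mclGroup
  have hTL : mclGroup ≤ co3Group := inf_le_left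
  have hKL : K ≤ co3Group := sup_le hN hTL
  have hst : K ≤ stabilizer Co0 (orbU N) := by
    refine sup_le (fun n hn => ?_) (fun t ht => ?_)
    · refine mem_stabilizer_iff.2 (Set.ext fun y => ?_)
      rw [Set.mem_smul_set_iff_inv_smul_mem]
      constructor
      · rintro ⟨a, ha, e⟩; exact ⟨n * a, mul_mem hn ha, by rw [mul_smul, e, smul_inv_smul]⟩
      · rintro ⟨a, ha, rfl⟩; exact ⟨n⁻¹ * a, mul_mem (inv_mem hn) ha, by rw [mul_smul]⟩
    · refine mem_stabilizer_iff.2 (Set.ext fun y => ?_)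
      rw [Set.mem_smul_set_iff_inv_smul_mem]
      exact ⟨fun h => by simpa using orbU_mcl hc ht h, fun h => orbU_mcl hc (inv_mem ht) h⟩
  have horb : {y | ∃ a ∈ K, a • baseU = y} = orbU N := by
    ext y
    refine ⟨?_, fun ⟨a, ha, e⟩ => ⟨a, le_sup_left (a := N) ha, e⟩⟩
    rintro ⟨a, ha, rfl⟩
    rw [← mem_stabilizer_iff.1 (hst ha)]
    exact Set.smul_mem_smul_set ⟨1, one_mem N, one_smul _ _⟩
  have hinf : K ⊓ stabilizer Co0 baseU = mclGroup :=
    le_antisymm (fun g hg => ⟨hKL hg.1, hg.2⟩) (le_inf le_sup_right inf_le_right)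
  have h := ncard_orbit_mul K baseU
  have h' := ncard_orbit_mul co3Group baseU
  rw [horb, hinf] at h
  rw [co3_orbit, ncard_pts552, co3_inf] at h'
  have := Subgroup.card_dvd_of_le hKL
  rw [← h, ← h'] at this
  exact (Nat.mul_dvd_mul_iff_right Nat.card_pos).1 this

theorem orbU_ne_one (hN : N ≤ co3Group) (hne : N ≠ ⊥)
    (hc : ∀ g ∈ co3Group, ∀ n ∈ N, g * n * g⁻¹ ∈ N) : ∃ n ∈ N, n • baseU ≠ baseU := by
  by_contra h
  push Not at h
  refine hne ((Subgroup.eq_bot_iff_forall N).2 fun n hn => co3_eq_one_of_fix (hN hn) fun x hx => ?_)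
  obtain ⟨g, hg, rfl⟩ : x ∈ {y | ∃ a ∈ co3Group, a • baseU = y} := co3_orbit ▸ hx
  have := h _ (hc g⁻¹ (inv_mem hg) n hn)
  rwa [inv_inv, mul_smul, mul_smul, inv_smul_eq_iff] at this

theorem orbU_big_of_mem (hN : N ≤ co3Group) (hc : ∀ g ∈ co3Group, ∀ n ∈ N, g * n * g⁻¹ ∈ N)
    {x : leechLattice} (hx : x ∈ orbU N) (h : x ∈ mclBase ∨ baseF - x ∈ mclBase) :
    (orbU N).ncard = 276 ∨ (orbU N).ncard = 552 := by
  have hfin : (orbU N).Finite := finite_pts552.subset (orbU_sub hN)
  have h275 : 275 ≤ (orbU N).ncard := by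
    rw [← ncard_mclBase]
    rcases h with h | h
    · refine Set.ncard_le_ncard (fun y hy => ?_) hfin
      obtain ⟨t, ht, rfl⟩ := mcl_trans275 h hy
      exact orbU_mcl hc ht hx
    · refine Set.ncard_le_ncard_of_injOn (fun y => baseF - y) (fun y hy => ?_)
        (sub_right_injective.injOn) hfin
      obtain ⟨t, ht, he⟩ := mcl_trans275' h (y := baseF - y) (by rwa [sub_sub_cancel])
      exact he ▸ orbU_mcl hc ht hx
  have hd := orbU_dvd hN hc
  obtain ⟨k, hk⟩ := hd
  have : k ≤ 2 := by nlinarith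
  interval_cases k <;> omega

/-- A normal subgroup containing the stabiliser of a point is everything. -/
theorem eq_of_mcl_le (hN : N ≤ co3Group)
    (hc : ∀ g ∈ co3Group, ∀ n ∈ N, g * n * g⁻¹ ∈ N) (hT : mclGroup ≤ N) : N = co3Group := by
  have hfin : (orbU N).Finite := finite_pts552.subset (orbU_sub hN)
  have hU : baseU ∈ orbU N := ⟨1, one_mem N, one_smul _ _⟩
  have h275 : 275 ≤ (orbU N).ncard := by
    obtain ⟨g, hg, hgX⟩ : baseX ∈ {y | ∃ a ∈ co3Group, a • baseU = y} := by
      rw [co3_orbit]; exact ⟨by decide +kernel, by decide +kernel⟩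
    rw [← ncard_mclBase, ← Set.ncard_image_of_injective (orbU N) (MulAction.injective g)]
    refine Set.ncard_le_ncard (fun y hy => ?_) (hfin.image _)
    obtain ⟨t, ht, rfl⟩ := mcl_trans275 (x := baseX)
      ⟨by decide +kernel, by decide +kernel, by decide +kernel⟩ hy
    have := hc g⁻¹ (inv_mem hg) t (hT ht)
    exact ⟨_, ⟨_, this, rfl⟩, by
      show g • (g⁻¹ * t * g⁻¹⁻¹) • baseU = t • baseX
      rw [inv_inv, mul_smul, mul_smul, smul_inv_smul, hgX]⟩
  have hsmall : (orbU N).ncard = 276 ∨ (orbU N).ncard = 552 := by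
    obtain ⟨k, hk⟩ := orbU_dvd hN hc
    have : k ≤ 2 := by nlinarith
    interval_cases k <;> omega
  have hall : orbU N = pts552 := by
    rcases hsmall with h | h
    swap
    · exact Set.eq_of_subset_of_ncard_le (orbU_sub hN) (by rw [ncard_pts552, h]) finite_pts552
    exfalso
    obtain ⟨x, hx, hx1⟩ : ∃ x ∈ orbU N, x ∉ ({baseU, baseF - baseU} : Set leechLattice) := by
      apply Set.exists_mem_notMem_of_ncard_lt_ncard (hs := Set.toFinite _)
      have := Set.ncard_insert_le baseU {baseF - baseU}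
      rw [Set.ncard_singleton] at this
      omega
    simp only [Set.mem_insert_iff, Set.mem_singleton_iff, not_or] at hx1
    have hA : ∀ a b, a ∈ orbU N → b ∈ orbU N →
        ∃ c ∈ orbU N, dotInt (c : GolayPt → ℤ) (baseU : GolayPt → ℤ) =
          dotInt (a : GolayPt → ℤ) (b : GolayPt → ℤ) := by
      rintro a _ ⟨na, hna, rfl⟩ ⟨nb, hnb, rfl⟩
      refine ⟨(nb⁻¹ * na) • baseU, ⟨_, mul_mem (inv_mem hnb) hna, rfl⟩, ?_⟩
      rw [← dotInt_smul nb, ← mul_smul, mul_inv_cancel_left]
    have hcase : ∀ {a b : leechLattice} (d : ℤ), a ∈ orbU N → b ∈ orbU N → a ∈ pts552 →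
        dotInt (a : GolayPt → ℤ) (b : GolayPt → ℤ) = d →
        ∃ c ∈ orbU N, dotInt (c : GolayPt → ℤ) (baseU : GolayPt → ℤ) = d :=
      fun d ha hb _ hd => by obtain ⟨c, hc1, hc2⟩ := hA _ _ ha hb; exact ⟨c, hc1, hc2.trans hd⟩
    rcases pts552_cases (orbU_sub hN hx) with e | e | e | e
    · exact hx1.1 e
    · exact hx1.2 e
    · -- the orbit is `baseU` with the 275
      have hsub : insert baseU mclBase ⊆ orbU N := by
        refine Set.insert_subset hU fun y hy => ?_
        obtain ⟨t, ht, rfl⟩ := mcl_trans275 e hy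
        exact orbU_mcl hc ht hx
      have heq := Set.eq_of_subset_of_ncard_le hsub (by
        rw [h, Set.ncard_insert_of_notMem (fun hm => by
          have := hm.2.2; rw [← sqNorm_eq_dotInt, sqNorm_baseU] at this; omega)
          (hfin.subset fun y hy => hsub (Set.mem_insert_of_mem _ hy)), ncard_mclBase]) hfin
      obtain ⟨y, hy⟩ : {y : leechLattice | y ∈ mclBase ∧
          dotInt (y : GolayPt → ℤ) (baseX : GolayPt → ℤ) = 8}.Nonempty :=
        Set.nonempty_of_ncard_ne_zero (by rw [ncard_mclBase_eight]; norm_num)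
      obtain ⟨c, hc1, hc2⟩ := hcase 8 (hsub (Set.mem_insert_of_mem _ hy.1))
        (hsub (Set.mem_insert_of_mem _ ⟨by decide +kernel, by decide +kernel, by decide +kernel⟩))
        (mclBase_sub hy.1) hy.2
      rw [← heq] at hc1
      rcases hc1 with rfl | hc1
      · rw [← sqNorm_eq_dotInt, sqNorm_baseU] at hc2; omega
      · rw [hc1.2.2] at hc2; omega
    · have hsub : insert baseU ((fun y => baseF - y) '' mclBase) ⊆ orbU N := by
        refine Set.insert_subset hU ?_
        rintro _ ⟨y, hy, rfl⟩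
        obtain ⟨t, ht, he⟩ := mcl_trans275' e (y := baseF - y) (by rwa [sub_sub_cancel])
        show baseF - y ∈ orbU N
        exact he ▸ orbU_mcl hc ht hx
      have heq := Set.eq_of_subset_of_ncard_le hsub (by
        rw [h, Set.ncard_insert_of_notMem (by
            rintro ⟨y, hy, he⟩
            have h2 := dot_flip y
            rw [show baseF - y = baseU from he, hy.2.2, ← sqNorm_eq_dotInt, sqNorm_baseU] at h2
            omega)
          (hfin.subset fun y hy => hsub (Set.mem_insert_of_mem _ hy)),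
          Set.ncard_image_of_injective _ sub_right_injective, ncard_mclBase]) hfin
      obtain ⟨y, hy⟩ : {y : leechLattice | y ∈ mclBase ∧
          dotInt (y : GolayPt → ℤ) (baseX : GolayPt → ℤ) = 16}.Nonempty :=
        Set.nonempty_of_ncard_ne_zero (by rw [ncard_mclBase_sixteen]; norm_num)
      have hXm : baseX ∈ mclBase := ⟨by decide +kernel, by decide +kernel, by decide +kernel⟩
      obtain ⟨c, hc1, hc2⟩ := hcase 16
        (hsub (Set.mem_insert_of_mem _ ⟨y, hy.1, rfl⟩))
        (hsub (Set.mem_insert_of_mem _ ⟨baseX, hXm, rfl⟩))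
        (flip_mem552 (mclBase_sub hy.1))
        (by rw [dot_flip_flip (mclBase_sub hy.1) (mclBase_sub hXm)]; exact hy.2)
      rw [← heq] at hc1
      rcases hc1 with rfl | ⟨z, hz, rfl⟩
      · rw [← sqNorm_eq_dotInt, sqNorm_baseU] at hc2; omega
      · rw [dot_flip, hz.2.2] at hc2; omega
  refine le_antisymm hN fun g hg => ?_
  obtain ⟨n, hn, he⟩ : g • baseU ∈ orbU N := hall ▸ smul_mem_pts552 hg baseU_mem552
  have : n⁻¹ * g ∈ N := hT (show n⁻¹ * g ∈ co3Group ⊓ stabilizer Co0 baseU from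
    Subgroup.mem_inf.2 ⟨co3Group.mul_mem (co3Group.inv_mem (hN hn)) hg,
      mem_stabilizer_iff.2 (by rw [mul_smul, ← he, inv_smul_smul])⟩)
  simpa using mul_mem hn this

/-- A normal subgroup meeting the stabiliser of a point trivially is trivial. -/
theorem false_of_free (hN : N ≤ co3Group) (hne : N ≠ ⊥)
    (hc : ∀ g ∈ co3Group, ∀ n ∈ N, g * n * g⁻¹ ∈ N)
    (hfree : ∀ n ∈ N, n • baseU = baseU → n = 1) : False := by
  have hinj : ∀ a ∈ N, ∀ b ∈ N, a • baseU = b • baseU → a = b := fun a ha b hb e =>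
    inv_mul_eq_one.1 (hfree _ (mul_mem (inv_mem ha) hb) (by rw [mul_smul, ← e, inv_smul_smul]))
  have hcard : Nat.card N = (orbU N).ncard := by
    have h := ncard_orbit_mul N baseU
    rw [show N ⊓ stabilizer Co0 baseU = ⊥ from (Subgroup.eq_bot_iff_forall _).2 fun n hn =>
      hfree n hn.1 (mem_stabilizer_iff.1 hn.2), Subgroup.card_bot, mul_one] at h
    exact h.symm
  -- elements of the two long orbits have constant order
  have hA : ∀ a ∈ N, ∀ b ∈ N, a • baseU ∈ mclBase → b • baseU ∈ mclBase →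
      orderOf a = orderOf b := by
    intro a ha b hb h1 h2
    obtain ⟨t, ht, he⟩ := mcl_trans275 h1 h2
    have hb' : b = t * a * t⁻¹ := hinj b hb _ (hc t ht.1 a ha) (by
      rw [mul_smul, mul_smul, inv_smul_eq_iff.2 (mclGroup_fix ht).2.symm, he])
    rw [hb', ← MulAut.conj_apply]
    exact (orderOf_injective (MulAut.conj t).toMonoidHom (MulAut.conj t).injective a).symm
  have hB : ∀ a ∈ N, ∀ b ∈ N, baseF - a • baseU ∈ mclBase → baseF - b • baseU ∈ mclBase →
      orderOf a = orderOf b := by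
    intro a ha b hb h1 h2
    obtain ⟨t, ht, he⟩ := mcl_trans275' h1 h2
    have hb' : b = t * a * t⁻¹ := hinj b hb _ (hc t ht.1 a ha) (by
      rw [mul_smul, mul_smul, inv_smul_eq_iff.2 (mclGroup_fix ht).2.symm, he])
    rw [hb', ← MulAut.conj_apply]
    exact (orderOf_injective (MulAut.conj t).toMonoidHom (MulAut.conj t).injective a).symm
  have hD : ∀ a ∈ N, a • baseU = baseF - baseU → a * a = 1 := by
    intro a ha he
    have hfix : ∀ t ∈ mclGroup, t • (a⁻¹ • baseU) = a⁻¹ • baseU := by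
      intro t ht
      have htU := (mclGroup_fix ht).2
      have e : t * a * t⁻¹ = a := hinj _ (hc t ht.1 a ha) a ha (by
        rw [mul_smul, mul_smul, inv_smul_eq_iff.2 htU.symm, he, smul_flip ht.1, htU])
      rw [smul_smul, show t * a⁻¹ = a⁻¹ * t by
        rw [eq_inv_mul_iff_mul_eq, ← mul_assoc, mul_inv_eq_iff_eq_mul]
        exact (mul_inv_eq_iff_eq_mul.1 e).symm, ← smul_smul, htU]
    rcases eq_of_mcl_fixed (smul_mem_pts552 (inv_mem (hN ha)) baseU_mem552) hfix with e | e
    · have := hfree _ (inv_mem ha) e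
      rw [inv_eq_one] at this
      rw [this, one_mul]
    · have := hinj _ (inv_mem ha) a ha (e.trans he.symm)
      exact mul_eq_one_iff_eq_inv.2 this.symm
  have hn0 : ∃ n0 ∈ N, n0 • baseU = baseF - baseU ∧
      ∀ g ∈ co3Group, g * n0 * g⁻¹ = n0 := by
    by_cases hbig : ∃ x ∈ orbU N, x ∈ mclBase ∨ baseF - x ∈ mclBase
    · obtain ⟨x, hx, hxm⟩ := hbig
      have hd : ∀ p, p.Prime → p = 2 ∨ p = 3 ∨ p = 23 → p ∣ Nat.card N := by
        intro p _ hp
        rw [hcard]
        rcases orbU_big_of_mem hN hc hx hxm with h | h <;> rw [h] <;>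
          rcases hp with rfl | rfl | rfl <;> norm_num
      have hel : ∀ p, p.Prime → p = 2 ∨ p = 3 ∨ p = 23 → ∃ a ∈ N, orderOf a = p := by
        intro p hp h
        have : Fact p.Prime := ⟨hp⟩
        obtain ⟨a, ha⟩ := exists_prime_orderOf_dvd_card' (G := N) p (hd p hp h)
        exact ⟨a, a.2, by rw [Subgroup.orderOf_coe, ha]⟩
      obtain ⟨a3, m3, o3⟩ := hel 3 (by norm_num) (by simp)
      obtain ⟨a23, m23, o23⟩ := hel 23 (by norm_num) (by simp)
      have hloc : ∀ a ∈ N, ∀ p, orderOf a = p → 2 < p →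
          a • baseU ∈ mclBase ∨ baseF - a • baseU ∈ mclBase := by
        intro a ha p hp h2
        rcases pts552_cases (smul_mem_pts552 (hN ha) baseU_mem552) with e | e | e | e
        · rw [hfree a ha e, orderOf_one] at hp; omega
        · have h' := orderOf_le_of_pow_eq_one (n := 2) (x := a) (by norm_num)
            (by rw [pow_two]; exact hD a ha e)
          omega
        · exact Or.inl e
        · exact Or.inr e
      have hinv : ∀ a ∈ N, orderOf a = 2 → a • baseU = baseF - baseU := by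
        intro a ha h2
        rcases pts552_cases (smul_mem_pts552 (hN ha) baseU_mem552) with e | e | e | e
        · rw [hfree a ha e, orderOf_one] at h2; omega
        · exact e
        · rcases hloc _ m3 3 o3 (by norm_num) with u | u
          · have := hA a ha _ m3 e u; omega
          rcases hloc _ m23 23 o23 (by norm_num) with v | v
          · have := hA a ha _ m23 e v; omega
          · have := hB _ m3 _ m23 u v; omega
        · rcases hloc _ m3 3 o3 (by norm_num) with u | u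
          · rcases hloc _ m23 23 o23 (by norm_num) with v | v
            · have := hA _ m3 _ m23 u v; omega
            · have := hB a ha _ m23 e v; omega
          · have := hB a ha _ m3 e u; omega
      obtain ⟨a2, m2, o2⟩ := hel 2 Nat.prime_two (by simp)
      refine ⟨a2, m2, hinv a2 m2 o2, fun g hg => hinj _ (hc g hg a2 m2) a2 m2 ?_⟩
      rw [hinv a2 m2 o2]
      refine hinv _ (hc g hg a2 m2) ?_
      rw [← MulAut.conj_apply]
      exact (orderOf_injective (MulAut.conj g).toMonoidHom (MulAut.conj g).injective a2).trans o2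
    · push Not at hbig
      have key : ∀ a ∈ N, a ≠ 1 → a • baseU = baseF - baseU := by
        intro a ha hne'
        rcases pts552_cases (smul_mem_pts552 (hN ha) baseU_mem552) with e | e | e | e
        · exact absurd (hfree a ha e) hne'
        · exact e
        · exact absurd e (hbig _ ⟨a, ha, rfl⟩).1
        · exact absurd e (hbig _ ⟨a, ha, rfl⟩).2
      obtain ⟨n, hn, hn'⟩ := orbU_ne_one hN hne hc
      have h1 : n ≠ 1 := fun e => hn' (by rw [e, one_smul])
      refine ⟨n, hn, key n hn h1, fun g hg => hinj _ (hc g hg n hn) n hn ?_⟩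
      rw [key n hn h1]
      refine key _ (hc g hg n hn) fun e => h1 ?_
      exact conj_eq_one_iff.1 e
  obtain ⟨n0, hn, he, hcent⟩ := hn0
  refine no_flip (hN hn) fun x hx => ?_
  obtain ⟨g, hg, rfl⟩ : x ∈ {y | ∃ a ∈ co3Group, a • baseU = y} := co3_orbit ▸ hx
  rw [smul_smul, show n0 * g = g * n0 from (mul_inv_eq_iff_eq_mul.1 (hcent g hg)).symm, mul_smul,
    he, smul_flip hg]

end normal

theorem isSimpleGroup_co3Group : IsSimpleGroup co3Group := by
  have : Nontrivial co3Group :=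
    Finite.one_lt_card_iff_nontrivial.1 (by rw [natCard_co3Group]; norm_num)
  refine ⟨fun M hM => or_iff_not_imp_left.2 fun hne => ?_⟩
  set N := M.map co3Group.subtype
  have hN : N ≤ co3Group := Subgroup.map_subtype_le M
  have hne' : N ≠ ⊥ := by
    rwa [ne_eq, Subgroup.map_eq_bot_iff_of_injective _ co3Group.subtype_injective]
  have hc : ∀ g ∈ co3Group, ∀ n ∈ N, g * n * g⁻¹ ∈ N := by
    rintro g hg _ ⟨m, hm, rfl⟩
    exact ⟨_, hM.conj_mem m hm ⟨g, hg⟩, rfl⟩
  have hnorm : (N.subgroupOf mclGroup).Normal := ⟨fun n hn t => by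
    rw [Subgroup.mem_subgroupOf] at hn ⊢
    exact hc t t.2.1 _ hn⟩
  have := isSimpleGroup_mclGroup
  rcases hnorm.eq_bot_or_eq_top with e | e
  · refine (false_of_free hN hne' hc fun n hn he => ?_).elim
    have : (⟨n, hN hn, mem_stabilizer_iff.2 he⟩ : mclGroup) ∈ N.subgroupOf mclGroup :=
      Subgroup.mem_subgroupOf.2 hn
    rw [e, Subgroup.mem_bot] at this
    exact congrArg Subtype.val this
  · rw [Subgroup.subgroupOf_eq_top] at e
    have h := eq_of_mcl_le hN hc e
    rw [eq_top_iff]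
    intro g _
    obtain ⟨m, hm, he⟩ : (g : Co0) ∈ N := h.symm ▸ g.2
    exact (Subtype.ext he : m = g) ▸ hm

end Cfsg.Agent.Leech
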