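import Cfsg.Agent.Lib.Leech.Normal

/-!
# Counting the 552 vectors and their subconfigurations

* `set552` and `ncard552` : counting a subset of the 552 vectors by the four families
* `ncard_octads_filter` : octad counts by a kernel check
* `ncard_transfer` : transporting a count by an element of `Co0`
-/

set_option autoImplicit false

open scoped Pointwise

namespace Cfsg.Agent.Leech

theorem fvC_mem {o : Finset GolayPt} (ho : o ∈ octads) (h : none ∈ o) : fvC o ∈ leechLattice := by
  obtain ⟨⟨w, hw, hsupp⟩, h8⟩ := ho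
  set a : GolayPt → ℤ := fun i => if i = none then 1 else if i ∈ o then -1 else 0
  refine mem_iff.2 ⟨1, a, fun i => ?_, ?_, ?_⟩
  · simp only [fvC, a]; split_ifs <;> norm_num
  · have : ∀ i, a i = (if i = none then 2 else 0) - (if i ∈ o then 1 else 0) := fun i => by
      simp only [a]
      by_cases hi : i = none
      · subst hi; simp [h]
      · simp only [hi, if_false]; split_ifs <;> norm_num
    rw [Finset.sum_congr rfl fun i _ => this i, Finset.sum_sub_distrib, Finset.sum_ite_eq',
      if_pos (Finset.mem_univ _), Finset.sum_ite, Finset.filter_univ_mem, Finset.sum_const,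
      Finset.sum_const_zero, h8]
    decide
  · suffices he : mod2 a = w by rw [he]; exact hw
    funext i
    have hi : i ∈ o ↔ w i ≠ 0 := by rw [← hsupp]; simp [support₂]
    simp only [mod2_apply, a]
    by_cases hn : i = none
    · subst hn; rw [if_pos rfl, zmod2_eq_one.1 (hi.1 h)]; rfl
    · rw [if_neg hn]
      by_cases hio : i ∈ o
      · rw [if_pos hio, zmod2_eq_one.1 (hi.1 hio)]; rfl
      · rw [if_neg hio, not_not.1 (fun hw => hio (hi.2 hw))]; simp

theorem fvD_mem : ∀ k : GolayPt, fvD k ∈ leechLattice := by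
  intro k
  refine mem_leechLattice.2 (Spor.mem_leechSet_of_const_mod_four (fvD k) 1 1 rfl (fun i => ?_) ?_)
  · simp only [fvD]; split_ifs <;> rfl
  · have h : ∀ i, fvD k i = 1 + (if i = k then -4 else 0) := fun i => by
      simp only [fvD]; split_ifs <;> norm_num
    rw [Finset.sum_congr rfl fun i _ => h i, Finset.sum_add_distrib, Finset.sum_const,
      Finset.card_univ, card_pt, Finset.sum_ite_eq', if_pos (Finset.mem_univ _)]
    decide

/-- The 552 vectors. -/
def set552 : Set (GolayPt → ℤ) :=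
  {x | x ∈ leechLattice ∧ sqNorm x = 32 ∧ dotInt x (baseF : GolayPt → ℤ) = 24}

theorem fvA_mem552 {j : GolayPt} (hj : j ≠ none) : (fvA j : GolayPt → ℤ) ∈ set552 := by
  refine ⟨(fvA j).2, sqNorm_pairVec (Ne.symm hj) _ (Or.inl rfl) (Or.inl rfl), ?_⟩
  rw [dotInt_comm, fvA, dotInt_pairVec]; simp [baseF, fiveFun, hj]

theorem fvB_mem552 {o : Finset GolayPt} (ho : o ∈ octads) (h : none ∈ o) : fvB o ∈ set552 := by
  refine ⟨fvB_mem ho, sqNorm_octVec ho ∅, ?_⟩
  rw [fvB, dotInt_baseF_octVec ho (Finset.empty_subset _)]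
  simp [octVec, h]

theorem fvC_mem552 {o : Finset GolayPt} (ho : o ∈ octads) (h : none ∈ o) : fvC o ∈ set552 := by
  refine ⟨fvC_mem ho h, ?_, ?_⟩
  · have hs : ∀ i, fvC o i ^ 2 = (if i = none then 8 else 0) + 1 := fun i => by
      simp only [fvC]; split_ifs <;> norm_num
    rw [sqNorm, Finset.sum_congr rfl fun i _ => hs i, Finset.sum_add_distrib, Finset.sum_ite_eq',
      if_pos (Finset.mem_univ _), Finset.sum_const, Finset.card_univ, card_pt]
    rfl
  · have hs : ∀ i, fvC o i = (if i = none then 4 else 0) + (1 - if i ∈ o then 2 else 0) := fun i => by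
      simp only [fvC]
      by_cases hi : i = none
      · subst hi; simp [h]
      · simp only [hi, if_false]; split_ifs <;> norm_num
    rw [dotInt_baseF, Finset.sum_congr rfl fun i _ => hs i, Finset.sum_add_distrib,
      Finset.sum_ite_eq', if_pos (Finset.mem_univ _), Finset.sum_sub_distrib, Finset.sum_const,
      Finset.card_univ, card_pt, Finset.sum_ite, Finset.filter_univ_mem, Finset.sum_const,
      Finset.sum_const_zero, show o.card = 8 from ho.2]
    simp [fvC]

theorem fvD_mem552 {k : GolayPt} (hk : k ≠ none) : fvD k ∈ set552 := by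
  refine ⟨fvD_mem k, ?_, ?_⟩
  · have hs : ∀ i, fvD k i ^ 2 = (if i = k then 8 else 0) + 1 := fun i => by
      simp only [fvD]; split_ifs <;> norm_num
    rw [sqNorm, Finset.sum_congr rfl fun i _ => hs i, Finset.sum_add_distrib, Finset.sum_ite_eq',
      if_pos (Finset.mem_univ _), Finset.sum_const, Finset.card_univ, card_pt]
    rfl
  · have hs : ∀ i, fvD k i = 1 + (if i = k then -4 else 0) := fun i => by
      simp only [fvD]; split_ifs <;> norm_num
    rw [dotInt_baseF, Finset.sum_congr rfl fun i _ => hs i, Finset.sum_add_distrib,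
      Finset.sum_ite_eq', if_pos (Finset.mem_univ _), Finset.sum_const, Finset.card_univ, card_pt]
    simp [fvD, Ne.symm hk]

theorem fvA_none {j : GolayPt} (hj : j ≠ none) : (fvA j : GolayPt → ℤ) none = 4 := by
  simp [fvA, coe_pairVec, Ne.symm hj]

theorem fvA_apply {j p : GolayPt} (hp : p ≠ none) :
    (fvA j : GolayPt → ℤ) p = if p = j then 4 else 0 := by
  simp [fvA, coe_pairVec, hp, Pi.single_apply]

theorem fvB_none {o : Finset GolayPt} (h : none ∈ o) : fvB o none = 2 := by simp [fvB, octVec, h]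

theorem fvB_apply (o : Finset GolayPt) (p : GolayPt) : fvB o p = if p ∈ o then 2 else 0 := by
  simp [fvB, octVec]

theorem fvC_none (o : Finset GolayPt) : fvC o none = 3 := by simp [fvC]

theorem fvC_apply (o : Finset GolayPt) {p : GolayPt} (hp : p ≠ none) :
    fvC o p = if p ∈ o then -1 else 1 := by simp [fvC, hp]

theorem fvD_none {k : GolayPt} (hk : k ≠ none) : fvD k none = 1 := by simp [fvD, Ne.symm hk]

theorem fvD_apply (k p : GolayPt) : fvD k p = if p = k then -3 else 1 := rfl

theorem finite_set552 : set552.Finite := by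
  refine (finite_shellSet (by norm_num : 8 ∣ (32 : ℕ)) (by norm_num) (by norm_num) allVals).subset ?_
  rw [shellSet_full (by norm_num)]
  exact fun x hx => ⟨hx.1, by exact_mod_cast hx.2.1⟩

theorem ncard552 (Q : (GolayPt → ℤ) → Prop) :
    {x | x ∈ set552 ∧ Q x}.ncard =
      {j : GolayPt | j ≠ none ∧ Q (fvA j : GolayPt → ℤ)}.ncard +
      {o : Finset GolayPt | o ∈ octads ∧ none ∈ o ∧ Q (fvB o)}.ncard +
      {o : Finset GolayPt | o ∈ octads ∧ none ∈ o ∧ Q (fvC o)}.ncard +
      {k : GolayPt | k ≠ none ∧ Q (fvD k)}.ncard := by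
  classical
  set SA := {j : GolayPt | j ≠ none ∧ Q (fvA j : GolayPt → ℤ)}
  set SB := {o : Finset GolayPt | o ∈ octads ∧ none ∈ o ∧ Q (fvB o)}
  set SC := {o : Finset GolayPt | o ∈ octads ∧ none ∈ o ∧ Q (fvC o)}
  set SD := {k : GolayPt | k ≠ none ∧ Q (fvD k)}
  have hset : {x | x ∈ set552 ∧ Q x} =
      (fun j => (fvA j : GolayPt → ℤ)) '' SA ∪ fvB '' SB ∪ fvC '' SC ∪ fvD '' SD := by
    ext x
    constructor
    · rintro ⟨hx, hq⟩
      rcases classify552 hx.1 hx.2.1 hx.2.2 with ⟨j, hj, rfl⟩ | ⟨o, ho, h, rfl⟩ |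
        ⟨o, ho, h, rfl⟩ | ⟨k, hk, rfl⟩
      · exact Or.inl (Or.inl (Or.inl ⟨j, ⟨hj, hq⟩, rfl⟩))
      · exact Or.inl (Or.inl (Or.inr ⟨o, ⟨ho, h, hq⟩, rfl⟩))
      · exact Or.inl (Or.inr ⟨o, ⟨ho, h, hq⟩, rfl⟩)
      · exact Or.inr ⟨k, ⟨hk, hq⟩, rfl⟩
    · rintro (((⟨j, hj, rfl⟩ | ⟨o, ho, rfl⟩) | ⟨o, ho, rfl⟩) | ⟨k, hk, rfl⟩)
      · exact ⟨fvA_mem552 hj.1, hj.2⟩
      · exact ⟨fvB_mem552 ho.1 ho.2.1, ho.2.2⟩
      · exact ⟨fvC_mem552 ho.1 ho.2.1, ho.2.2⟩
      · exact ⟨fvD_mem552 hk.1, hk.2⟩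
  have hA : Set.InjOn (fun j => (fvA j : GolayPt → ℤ)) SA := by
    intro i hi j hj h
    have := congrFun h i
    simp only [fvA_apply hi.1, if_true] at this
    by_contra hne
    simp [hne] at this
  have hB : Set.InjOn fvB SB := by
    intro o _ o' _ h
    ext p
    have := congrFun h p
    simp only [fvB_apply] at this
    split_ifs at this with h1 h2 <;> simp_all
  have hC : Set.InjOn fvC SC := by
    intro o ho o' ho' h
    ext p
    by_cases hp : p = none
    · subst hp; exact iff_of_true ho.2.1 ho'.2.1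
    have := congrFun h p
    simp only [fvC_apply _ hp] at this
    split_ifs at this with h1 h2 <;> simp_all
  have hD : Set.InjOn fvD SD := by
    intro i _ j _ h
    have := congrFun h i
    simp only [fvD_apply, if_true] at this
    by_contra hne
    simp [hne] at this
  have hvA : ∀ x ∈ (fun j => (fvA j : GolayPt → ℤ)) '' SA, x none = 4 := by
    rintro x ⟨j, hj, rfl⟩; exact fvA_none hj.1
  have hvB : ∀ x ∈ fvB '' SB, x none = 2 := by rintro x ⟨o, ho, rfl⟩; exact fvB_none ho.2.1
  have hvC : ∀ x ∈ fvC '' SC, x none = 3 := by rintro x ⟨o, -, rfl⟩; exact fvC_none o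
  have hvD : ∀ x ∈ fvD '' SD, x none = 1 := by rintro x ⟨k, hk, rfl⟩; exact fvD_none hk.1
  rw [hset, Set.ncard_union_eq ?_ (Set.toFinite _) (Set.toFinite _),
    Set.ncard_union_eq ?_ (Set.toFinite _) (Set.toFinite _),
    Set.ncard_union_eq ?_ (Set.toFinite _) (Set.toFinite _), hA.ncard_image, hB.ncard_image,
    hC.ncard_image, hD.ncard_image]
  · exact Set.disjoint_left.2 fun x h1 h2 => by have := hvA x h1; have := hvB x h2; omega
  · refine Set.disjoint_left.2 fun x h1 h2 => ?_
    have := hvC x h2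
    rcases h1 with h1 | h1
    · have := hvA x h1; omega
    · have := hvB x h1; omega
  · refine Set.disjoint_left.2 fun x h1 h2 => ?_
    have := hvD x h2
    rcases h1 with (h1 | h1) | h1
    · have := hvA x h1; omega
    · have := hvB x h1; omega
    · have := hvC x h1; omega

theorem ncard_octads_filter (p : ℕ → Bool) :
    {o : Finset GolayPt | o ∈ octads ∧ p (Golay.maskOf o) = true}.ncard =
      Golay.countSpan (fun m => Golay.popcount m == 8 && p m) Golay.rows 0 := by
  rw [← Golay.ncard_supports_filter]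
  congr 1
  ext s
  simp only [Set.mem_ofPred_eq, Bool.and_eq_true, beq_iff_eq, Golay.popcount_maskOf]
  exact ⟨fun h => ⟨h.1.1, h.1.2, h.2⟩, fun h => ⟨⟨h.1, h.2.1⟩, h.2.2⟩⟩

theorem mem_iff_testBit (o : Finset GolayPt) (p : GolayPt) :
    p ∈ o ↔ (Golay.maskOf o).testBit (Golay.idx p) = true := by
  rw [← Golay.mem_pts, Golay.pts_maskOf]

theorem ncard_octads_none :
    {o : Finset GolayPt | o ∈ octads ∧ none ∈ o}.ncard = 253 := by
  simp only [mem_iff_testBit]
  rw [ncard_octads_filter fun m => m.testBit (Golay.idx none)]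
  decide +kernel

theorem ncard_subtype (P : (GolayPt → ℤ) → Prop) :
    {x : leechLattice | P (x : GolayPt → ℤ)}.ncard = {x | x ∈ leechLattice ∧ P x}.ncard := by
  rw [← Set.ncard_image_of_injective _ Subtype.val_injective]
  congr 1
  ext x
  constructor
  · rintro ⟨y, hy, rfl⟩; exact ⟨y.2, hy⟩
  · rintro ⟨hx, hP⟩; exact ⟨⟨x, hx⟩, hP, rfl⟩

theorem ncard_transfer (g : Co0) {P Q : leechLattice → Prop} (h : ∀ x, P x ↔ Q (g • x)) :
    {x | P x}.ncard = {x | Q x}.ncard := by
  rw [← Set.ncard_image_of_injective {x | P x} (MulAction.injective g)]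
  congr 1
  ext x
  constructor
  · rintro ⟨y, hy, rfl⟩; exact (h y).1 hy
  · intro hx
    exact ⟨g⁻¹ • x, (h _).2 (by rw [smul_inv_smul]; exact hx), smul_inv_smul g x⟩

theorem sqNorm_sub_eq_iff {u v : GolayPt → ℤ} (hu : sqNorm u = 48) (hv : sqNorm v = 32) :
    sqNorm (u - v) = 32 ↔ dotInt v u = 24 := by
  rw [sqNorm_sub, hu, hv, dotInt_comm u v]; omega

theorem dotInt_smul_of_eq {g : Co0} {u u' : leechLattice} (hu : g • u = u') (x : leechLattice) :
    dotInt ((g • x : leechLattice) : GolayPt → ℤ) (u' : GolayPt → ℤ)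
      = dotInt (x : GolayPt → ℤ) (u : GolayPt → ℤ) := by
  rw [← hu, dotInt_smul]

end Cfsg.Agent.Leech
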