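import Cfsg.Agent.S1578

/-!
# Census of minimal vectors by inner product with a minimal vector

* `cnt`, `sum_cnt`, `min_census`
-/

set_option autoImplicit false

namespace Cfsg.Agent.Leech

/-- The number of minimal vectors of product `d` with `z`. -/
noncomputable def cnt (z : GolayPt → ℤ) (d : ℤ) : ℕ :=
  ((shell 32 hN32).filter fun x => dotInt z x = d).card

theorem cnt_eq_ncard (z : GolayPt → ℤ) (d : ℤ) :
    {w : GolayPt → ℤ | w ∈ leechLattice ∧ sqNorm w = 32 ∧ dotInt z w = d}.ncard = cnt z d := by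
  rw [cnt, ← Set.ncard_coe_finset]
  congr 1
  ext w
  simp only [Set.mem_ofPred_eq, Finset.coe_filter, mem_shell, Nat.cast_ofNat]
  tauto

theorem cnt_smul (g : Co0) (z : leechLattice) (d : ℤ) :
    cnt ((g • z : leechLattice) : GolayPt → ℤ) d = cnt (z : GolayPt → ℤ) d := by
  rw [← cnt_eq_ncard, ← cnt_eq_ncard,
    ← ncard_subtype (fun w => sqNorm w = 32 ∧ dotInt ((g • z : leechLattice) : GolayPt → ℤ) w = d),
    ← ncard_subtype (fun w => sqNorm w = 32 ∧ dotInt (z : GolayPt → ℤ) w = d)]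
  symm
  refine ncard_transfer g fun x => ?_
  rw [sqNorm_smul, dotInt_smul]

theorem cnt_baseU {v : GolayPt → ℤ} (hv : v ∈ shell 32 hN32) (d : ℤ) :
    cnt v d = cnt (baseU : GolayPt → ℤ) d := by
  obtain ⟨h1, h2⟩ := (mem_shell hN32).1 hv
  obtain ⟨g, hg⟩ := exists_to_baseU golayUnique (v := ⟨v, h1⟩) (by exact_mod_cast h2)
  rw [← hg, cnt_smul]

/-- Pairs of minimal vectors of product `e` are pairs of a vector and one of its summands. -/
theorem sum_cnt {N : ℕ} (hN : 8 ∣ N ∧ 24 ≤ N ∧ N ≤ 64) {e d : ℤ} (h1 : (N : ℤ) = 64 + 2 * e)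
    (h2 : d = 32 + e) :
    ∑ v ∈ shell 32 hN32, cnt v e = ∑ z ∈ shell N hN, cnt z d := by
  simp only [cnt, ← Finset.card_sigma]
  refine Finset.card_nbij' (fun p => ⟨p.1 + p.2, p.2⟩) (fun p => ⟨p.1 - p.2, p.2⟩) ?_ ?_ ?_ ?_
  · rintro ⟨v, x⟩ hp
    simp only [Finset.mem_coe, Finset.mem_sigma, Finset.mem_filter, mem_shell, Nat.cast_ofNat] at hp ⊢
    obtain ⟨⟨a, a'⟩, ⟨b, b'⟩, c⟩ := hp
    refine ⟨⟨add_mem a b, by rw [sqNorm_add, a', b', c]; omega⟩, ⟨b, b'⟩, ?_⟩
    rw [dotInt_add_left, c, ← sqNorm_eq_dotInt, b']; omega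
  · rintro ⟨z, x⟩ hp
    simp only [Finset.mem_coe, Finset.mem_sigma, Finset.mem_filter, mem_shell, Nat.cast_ofNat] at hp ⊢
    obtain ⟨⟨a, a'⟩, ⟨b, b'⟩, c⟩ := hp
    refine ⟨⟨sub_mem a b, by rw [sqNorm_sub, a', b', c]; omega⟩, ⟨b, b'⟩, ?_⟩
    rw [dotInt_sub_left, c, ← sqNorm_eq_dotInt, b']; omega
  · rintro ⟨v, x⟩ -; simp
  · rintro ⟨v, x⟩ -; simp

theorem cnt_48 {z : GolayPt → ℤ} (hz : z ∈ shell 48 hN48) : cnt z 24 = 552 := by
  obtain ⟨h1, h2⟩ := (mem_shell hN48).1 hz
  have h := S1578.count ⟨z, h1⟩ (by exact_mod_cast h2)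
  rw [← cnt_eq_ncard, ← ncard_subtype (fun w => sqNorm w = 32 ∧ dotInt z w = 24), ← h]
  congr 1
  ext x
  exact and_congr_right fun hx => by
    rw [sqNorm_sub_eq_iff (by exact_mod_cast h2) hx, dotInt_comm]

theorem dotInt_single_left (j : GolayPt) (s : ℤ) (w : GolayPt → ℤ) :
    dotInt (Pi.single j s) w = s * w j := by
  rw [dotInt, Finset.sum_eq_single j (fun i _ hi => by rw [Pi.single_eq_of_ne hi, zero_mul])
    (fun h => absurd (Finset.mem_univ j) h), Pi.single_eq_same]

theorem cnt_single {j : GolayPt} {s : ℤ} (hs : s = 8 ∨ s = -8) : cnt (Pi.single j s) 32 = 46 := by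
  classical
  rw [← cnt_eq_ncard]
  set a : ℤ := s / 2 with ha
  have e : {w : GolayPt → ℤ | w ∈ leechLattice ∧ sqNorm w = 32 ∧ dotInt (Pi.single j s) w = 32} =
      ↑(((Finset.univ.erase j) ×ˢ ({4, -4} : Finset ℤ)).image fun p =>
        (Pi.single j a + Pi.single p.1 p.2 : GolayPt → ℤ)) := by
    ext w
    simp only [Set.mem_ofPred_eq, dotInt_single_left, Finset.coe_image, Finset.coe_product,
      Finset.coe_erase, Finset.coe_univ, Finset.coe_insert, Finset.coe_singleton, Set.mem_image,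
      Set.mem_prod, Set.mem_sdiff, Set.mem_univ, true_and, Set.mem_singleton_iff, Set.mem_insert_iff,
      Prod.exists]
    constructor
    · rintro ⟨hw, hn, hd⟩
      have hj : w j = a := by rcases hs with rfl | rfl <;> omega
      have h4 : w j = 4 ∨ w j = -4 := by rcases hs with rfl | rfl <;> omega
      rcases min_shape hw hn with hP | ⟨o, M, -, -, -, rfl⟩ | ⟨k, c, -, hk, hi, -⟩
      · obtain ⟨k, l, hkl, hk, hl, h0⟩ := hP
        have main : ∀ l, l ≠ j → (w l = 4 ∨ w l = -4) → (∀ i, i ≠ j → i ≠ l → w i = 0) →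
            ∃ x b, (¬ x = j ∧ (b = 4 ∨ b = -4)) ∧ Pi.single j a + Pi.single x b = w := by
          intro l hlj hl h0
          refine ⟨l, w l, ⟨hlj, hl⟩, funext fun i => ?_⟩
          by_cases hij : i = j
          · subst hij; simp [hj, Ne.symm hlj]
          · by_cases hil : i = l
            · subst hil; simp [hij]
            · simp [hij, hil, h0 i hij hil]
        by_cases hjk : j = k
        · subst hjk; exact main l (Ne.symm hkl) hl h0
        · by_cases hjl : j = l
          · subst hjl; exact main k hkl hk fun i a b => h0 i b a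
          · exact absurd (h0 j hjk hjl) (by omega)
      · simp only [octVec] at h4; split_ifs at h4 <;> simp at h4
      · by_cases hjk : j = k
        · subst hjk; omega
        · have := hi j hjk; omega
    · rintro ⟨l, b, ⟨hlj, hb⟩, rfl⟩
      obtain ⟨σ, τ, hσ, hτ, h1, h2⟩ : ∃ σ τ : ℤ, (σ = 1 ∨ σ = -1) ∧ (τ = 1 ∨ τ = -1) ∧
          4 * σ = a ∧ 4 * τ = b := by
        refine ⟨a / 4, b / 4, ?_, ?_, ?_, ?_⟩ <;> rcases hs with rfl | rfl <;>
          rcases hb with rfl | rfl <;> simp [ha]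
      have he : ((pairVec j l σ τ (by rcases hσ with rfl | rfl <;> rcases hτ with rfl | rfl <;>
          norm_num) : leechLattice) : GolayPt → ℤ) = Pi.single j a + Pi.single l b := by
        rw [coe_pairVec, h1, h2]
      rw [← he]
      refine ⟨SetLike.coe_mem _, sqNorm_pairVec (Ne.symm hlj) _ hσ hτ, ?_⟩
      rw [he, Pi.add_apply, Pi.single_eq_same, Pi.single_eq_of_ne (Ne.symm hlj), ha]
      rcases hs with rfl | rfl <;> norm_num
  rw [e, Set.ncard_coe_finset, Finset.card_image_of_injOn, Finset.card_product,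
    Finset.card_erase_of_mem (Finset.mem_univ j), Finset.card_univ, card_pt]
  · rfl
  rintro ⟨l, b⟩ h ⟨l', b'⟩ h' he
  simp only [Finset.coe_product, Set.mem_prod, Finset.mem_coe, Finset.mem_erase, Finset.mem_univ,
    and_true, Finset.mem_insert, Finset.mem_singleton] at h h'
  have := congrFun he l
  simp only [Pi.add_apply, Pi.single_eq_same, Pi.single_eq_of_ne h.1, zero_add] at this
  by_cases hl : l = l'
  · subst hl; rw [Pi.single_eq_same] at this; rw [this]
  · rw [Pi.single_eq_of_ne hl] at this; omega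

theorem cnt_64 {z : GolayPt → ℤ} (hz : z ∈ shell 64 hN64) : cnt z 32 = 46 := by
  obtain ⟨h1, h2⟩ := (mem_shell hN64).1 hz
  obtain ⟨g, hg⟩ := exists_to_stdCross golayUnique ⟨z, h1⟩ (by exact_mod_cast h2)
  obtain ⟨j, s, hs, he⟩ := hg
  have h := cnt_single (j := j) hs
  rw [← he, cnt_smul] at h
  exact h

theorem cnt_neg {z : GolayPt → ℤ} (d : ℤ) : cnt z (-d) = cnt z d := by
  refine Finset.card_nbij' (fun x => -x) (fun x => -x) ?_ ?_ ?_ ?_ <;> intro x hx
  all_goals try simp only [Finset.mem_coe, Finset.mem_filter, mem_shell, Nat.cast_ofNat] at hx ⊢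
  · exact ⟨⟨neg_mem hx.1.1, by rw [sqNorm_neg]; exact hx.1.2⟩, by rw [dotInt_neg_right, hx.2, neg_neg]⟩
  · exact ⟨⟨neg_mem hx.1.1, by rw [sqNorm_neg]; exact hx.1.2⟩, by rw [dotInt_neg_right, hx.2]⟩
  · exact neg_neg x
  · exact neg_neg x

theorem cnt_32 {v : GolayPt → ℤ} (hv : v ∈ shell 32 hN32) : cnt v 32 = 1 := by
  rw [cnt, Finset.card_eq_one]
  refine ⟨v, Finset.eq_singleton_iff_unique_mem.2 ⟨?_, fun x hx => ?_⟩⟩
  · rw [Finset.mem_filter, ← sqNorm_eq_dotInt]
    exact ⟨hv, by exact_mod_cast ((mem_shell hN32).1 hv).2⟩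
  · simp only [Finset.mem_filter, mem_shell, Nat.cast_ofNat] at hx hv
    refine (sub_eq_zero.1 (sqNorm_eq_zero.1 ?_)).symm
    rw [sqNorm_sub, hv.2, hx.1.2, hx.2]; norm_num

theorem min_census {v : GolayPt → ℤ} (hv : v ∈ leechLattice) (hvn : sqNorm v = 32) :
    cnt v (-16) = 4600 ∧ cnt v (-8) = 47104 ∧ cnt v 0 = 93150 := by
  have hv' : v ∈ shell 32 hN32 := (mem_shell hN32).2 ⟨hv, by exact_mod_cast hvn⟩
  have hM : (shell 32 hN32).card = 196560 := (card_shell hN32).trans count32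
  have s8 : 196560 * cnt v (-8) = 16773120 * 552 := by
    have h := sum_cnt hN48 (e := -8) (d := 24) (by norm_num) (by norm_num)
    rw [Finset.sum_congr rfl fun x hx => (cnt_baseU hx (-8)).trans (cnt_baseU hv' (-8)).symm,
      Finset.sum_congr rfl fun x hx => cnt_48 hx, Finset.sum_const, Finset.sum_const, hM,
      (card_shell hN48).trans count48] at h
    simpa using h
  have s0 : 196560 * cnt v 0 = 398034000 * 46 := by
    have h := sum_cnt hN64 (e := 0) (d := 32) (by norm_num) (by norm_num)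
    rw [Finset.sum_congr rfl fun x hx => (cnt_baseU hx 0).trans (cnt_baseU hv' 0).symm,
      Finset.sum_congr rfl fun x hx => cnt_64 hx, Finset.sum_const, Finset.sum_const, hM,
      (card_shell hN64).trans count64] at h
    simpa using h
  have hmaps : ∀ x ∈ shell 32 hN32, dotInt v x ∈ ({32, -32, 16, -16, 8, -8, 0} : Finset ℤ) := by
    intro x hx
    simp only [mem_shell, Nat.cast_ofNat] at hx
    have h8 := dvd_dotInt hv hx.1
    have hs := sqNorm_sub v x
    have ha := sqNorm_add v x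
    rw [hvn, hx.2] at hs ha
    have n1 := sqNorm_nonneg (v - x)
    have n2 := sqNorm_nonneg (v + x)
    simp only [Finset.mem_insert, Finset.mem_singleton]
    by_cases e1 : v - x = 0
    · have := congrArg sqNorm e1
      rw [hs, sqNorm_zero] at this
      omega
    by_cases e2 : v + x = 0
    · have := congrArg sqNorm e2
      rw [ha, sqNorm_zero] at this
      omega
    have := min_norm (sub_mem hv hx.1) e1
    have := min_norm (add_mem hv hx.1) e2
    omega
  have tot := Finset.card_eq_sum_card_fiberwise hmaps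
  rw [hM, Finset.sum_insert (by decide), Finset.sum_insert (by decide),
    Finset.sum_insert (by decide), Finset.sum_insert (by decide), Finset.sum_insert (by decide),
    Finset.sum_insert (by decide), Finset.sum_singleton] at tot
  change 196560 = cnt v 32 + (cnt v (-32) + (cnt v 16 + (cnt v (-16) +
    (cnt v 8 + (cnt v (-8) + cnt v 0))))) at tot
  rw [cnt_neg 32, cnt_neg 16, cnt_neg 8, cnt_32 hv'] at tot
  rw [cnt_neg 8] at s8
  refine ⟨?_, ?_, ?_⟩ <;> (try rw [cnt_neg]) <;> omega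

end Cfsg.Agent.Leech
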