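import Cfsg.Agent.Lib.Leech.HSSimple

/-!
# The McLaughlin group is simple

* `mclPts`, `mclPts_cases`, `ncard_mclPts`, `isSimpleGroup_mclGroup`
-/

set_option autoImplicit false

open scoped Pointwise symmDiff

namespace Cfsg.Agent.Leech

open MulAction

/-- The stabiliser of the normal form of a McLaughlin configuration. -/
def mclGroup : Subgroup Co0 := stabilizer Co0 baseF ⊓ stabilizer Co0 baseU

theorem mclGroup_fix {g : Co0} (h : g ∈ mclGroup) : g • baseF = baseF ∧ g • baseU = baseU :=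
  ⟨mem_stabilizer_iff.1 h.1, mem_stabilizer_iff.1 h.2⟩

/-- The orbit of `baseU'`. -/
def mclPts : Set leechLattice :=
  {z | sqNorm (z : GolayPt → ℤ) = 32 ∧ dotInt (z : GolayPt → ℤ) (baseF : GolayPt → ℤ) = 16 ∧
    dotInt (z : GolayPt → ℤ) (baseU : GolayPt → ℤ) = 0}

theorem baseU'_mem_mclPts : baseU' ∈ mclPts :=
  ⟨sqNorm_baseU', by decide +kernel, by decide +kernel⟩

theorem mclGroup_orbit : {y | ∃ a ∈ mclGroup, a • baseU' = y} = mclPts := by
  ext y
  constructor
  · rintro ⟨a, ha, rfl⟩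
    obtain ⟨h1, h2⟩ := mclGroup_fix ha
    refine ⟨by rw [sqNorm_smul, sqNorm_baseU'], ?_, ?_⟩
    · rw [dotInt_smul_of_eq h1]; exact baseU'_mem_mclPts.2.1
    · rw [dotInt_smul_of_eq h2]; exact baseU'_mem_mclPts.2.2
  · intro hy
    obtain ⟨g, g1, g2, g3⟩ := exists_normal_aux sqNorm_baseF sqNorm_baseU hy.1
      (by decide +kernel) (by rw [dotInt_comm]; exact hy.2.2) (by rw [dotInt_comm]; exact hy.2.1)
    exact ⟨g⁻¹, ⟨mem_stabilizer_iff.2 (inv_smul_eq_iff.2 g1.symm),
      mem_stabilizer_iff.2 (inv_smul_eq_iff.2 g2.symm)⟩, inv_smul_eq_iff.2 g3.symm⟩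

theorem mclGroup_inf : mclGroup ⊓ stabilizer Co0 baseU' = stab3 := rfl

/-- The four suborbits. -/
def mclClass : Fin 4 → Set leechLattice :=
  ![{baseU'},
    {z | ∃ o, o ∈ octads ∧ (none ∉ o ∧ pO ∉ o) ∧ (z : GolayPt → ℤ) = octVec o ∅},
    {z | ∃ o r, o ∈ octads ∧ (none ∈ o ∧ pO ∈ o) ∧ r ∈ o ∧ r ≠ none ∧ r ≠ pO ∧
      (z : GolayPt → ℤ) = octVec o {pO, r}},
    {z | ∃ o k, o ∈ octads ∧ (none ∉ o ∧ pO ∈ o) ∧ k ∈ o ∧ k ≠ pO ∧
      (z : GolayPt → ℤ) = oddVec k o}]

theorem mclPts_cases {z : leechLattice} (hz : z ∈ mclPts) : ∃ i, z ∈ mclClass i := by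
  obtain ⟨hn, hF, hU⟩ := hz
  have hm : z ∈ orthU := ⟨hn, hU⟩
  have h0 := orthU_coord hm
  rw [dotInt_baseF] at hF
  rcases min_shape z.2 hn with hp | ⟨o, M, ho, hMo, -, he⟩ | hodd
  · by_cases hz0 : (z : GolayPt → ℤ) none = 0
    · exfalso
      obtain ⟨k, l, hkl, hk, hl, hrest⟩ := hp
      have hsum : ∑ i, (z : GolayPt → ℤ) i = (z : GolayPt → ℤ) k + (z : GolayPt → ℤ) l := by
        rw [← Finset.sum_pair hkl]
        exact (Finset.sum_subset (Finset.subset_univ _) fun i _ hi => by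
          simp only [Finset.mem_insert, Finset.mem_singleton, not_or] at hi
          exact hrest i hi.1 hi.2).symm
      rw [hsum, hz0] at hF
      omega
    · rcases mem_baseU'_or hm hp hz0 with rfl | rfl
      · exact ⟨0, rfl⟩
      · exfalso
        revert hF
        decide +kernel
  · rw [he] at h0 hF
    rw [sum_octVec ho hMo] at hF
    by_cases h1 : none ∈ o
    · by_cases h2 : none ∈ M
      · simp only [octVec, if_pos h1, if_pos h2] at hF
        omega
      · simp only [octVec, if_pos h1, if_neg h2] at hF h0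
        have o2 : pO ∈ o := by by_contra h; rw [if_neg h] at h0; omega
        rw [if_pos o2] at h0
        have hM0 : pO ∈ M := by by_contra h; rw [if_neg h] at h0; omega
        have hc : M.card = 2 := by omega
        obtain ⟨r, hr, hMr⟩ : ∃ r, r ≠ pO ∧ M = {pO, r} := by
          obtain ⟨a, b, hab, rfl⟩ := Finset.card_eq_two.1 hc
          rcases Finset.mem_insert.1 hM0 with rfl | h
          · exact ⟨b, Ne.symm hab, rfl⟩
          · rw [Finset.mem_singleton] at h; subst h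
            exact ⟨a, hab, Finset.pair_comm _ _⟩
        have hrM : r ∈ M := hMr ▸ by simp
        exact ⟨2, o, r, ho, ⟨h1, o2⟩, hMo hrM, fun e => h2 (e ▸ hrM), hr, hMr ▸ he⟩
    · simp only [octVec, if_neg h1] at hF h0
      have hc : M.card = 0 := by omega
      rw [Finset.card_eq_zero] at hc
      subst hc
      exact ⟨1, o, ho, ⟨h1, fun h => by rw [if_pos h] at h0; simp at h0⟩, he⟩
  · obtain ⟨k, c, hc, he⟩ := exists_oddVec hodd
    obtain ⟨k1, k2, hiff⟩ := odd_orth hm he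
    obtain ⟨w, hw, hsupp⟩ := id hc
    have hw8 := code_weight hw
    rw [hsupp] at hw8
    rw [he, odd_sum ((oddVec_abs k c k).2 rfl)
      (fun i hi => by simp only [oddVec, fvD, if_neg hi]; split_ifs <;> simp)
      (oddVec_res k c)] at hF
    have hne : c.card ≠ 0 := fun h => by
      rw [Finset.card_eq_zero] at h; subst h; simp at hiff
    by_cases h1 : none ∈ c
    · exfalso
      simp only [oddVec, fvD, if_pos h1, if_neg (Ne.symm k1)] at hF
      split_ifs at hF <;> omega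
    · simp only [oddVec, fvD, if_neg h1, if_neg (Ne.symm k1)] at hF
      split_ifs at hF with hk
      · exact ⟨3, c, k, ⟨hc, by omega⟩, ⟨h1, by by_contra h; exact h1 (hiff.2 h)⟩, hk, k2, he⟩
      · exfalso; omega

theorem mclClass_disjoint {z : leechLattice} (i j : Fin 4) (hi : z ∈ mclClass i)
    (hj : z ∈ mclClass j) : i = j := by
  have key : ∀ i : Fin 4, z ∈ mclClass i →
      ((i : ℕ) = 0 ∧ (z : GolayPt → ℤ) none = 4) ∨ ((i : ℕ) = 1 ∧ (z : GolayPt → ℤ) none = 0) ∨
      ((i : ℕ) = 2 ∧ (z : GolayPt → ℤ) none = 2) ∨ ((i : ℕ) = 3 ∧ (z : GolayPt → ℤ) none = 1) := by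
    intro i hi
    fin_cases i
    · refine Or.inl ⟨rfl, ?_⟩
      rw [show z = baseU' from hi]; decide +kernel
    · obtain ⟨o, -, ⟨h, -⟩, he⟩ := hi
      exact Or.inr (Or.inl ⟨rfl, by rw [he]; simp [octVec, h]⟩)
    · obtain ⟨o, r, -, ⟨h, -⟩, -, hr, -, he⟩ := hi
      refine Or.inr (Or.inr (Or.inl ⟨rfl, ?_⟩))
      rw [he]; simp [octVec, h, none_ne_pO, Ne.symm hr]
    · obtain ⟨o, k, -, ⟨h, -⟩, hk, -, he⟩ := hi
      refine Or.inr (Or.inr (Or.inr ⟨rfl, ?_⟩))
      rw [he]; simp [oddVec, fvD, h, show none ≠ k from fun e => h (e ▸ hk)]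
  refine Fin.ext ?_
  have := key i hi
  have := key j hj
  omega

theorem exists_frame_three {o : Finset GolayPt} (ho : o ∈ octads) {a b c d : GolayPt} (ha : a ∈ o)
    (hb : b ∈ o) (hc : c ∈ o) (hab : a ≠ b) (hac : a ≠ c) (hbc : b ≠ c) (hd : d ∉ o) :
    ∃ x : Fin 7 → GolayPt, Golay.IsFrame x ∧ x 0 = a ∧ x 1 = b ∧ x 2 = c ∧ x 6 = d ∧
      ∀ i : Fin 7, i.val < 6 → x i ∈ o := by
  set l := a :: b :: c :: (o \ {a, b, c}).toList with hl
  have hnd : l.Nodup := by
    simp [hl, Finset.nodup_toList, hab, hac, hbc]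
  have hlen : l.length = 8 := by
    simp only [hl, List.length_cons, Finset.length_toList]
    rw [Finset.card_sdiff_of_subset (by simp [Finset.insert_subset_iff, ha, hb, hc]),
      Finset.card_eq_three.2 ⟨a, b, c, hab, hac, hbc, rfl⟩, show o.card = 8 from ho.2]
  have hmem : ∀ p ∈ l, p ∈ o := by
    intro p hp
    simp only [hl, List.mem_cons, Finset.mem_toList, Finset.mem_sdiff] at hp
    rcases hp with rfl | rfl | rfl | ⟨hp, -⟩ <;> assumption
  let x : Fin 7 → GolayPt := fun i => if h : i.val < 6 then l[i.val]'(by omega) else d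
  have hxo : ∀ i : Fin 7, i.val < 6 → x i ∈ o := fun i hi => by
    simp only [x, dif_pos hi]; exact hmem _ (List.getElem_mem _)
  refine ⟨x, ⟨fun i j hij => ?_, o, ho, hxo, by show d ∉ o; exact hd⟩, rfl, rfl, rfl, rfl, hxo⟩
  simp only [x] at hij
  split_ifs at hij with h1 h2 h3
  · exact Fin.ext ((hnd.getElem_inj_iff).1 hij)
  · exact absurd (hij ▸ hmem _ (List.getElem_mem _)) hd
  · exact absurd (hij.symm ▸ hmem _ (List.getElem_mem _)) hd
  · exact Fin.ext (by omega)

theorem exists_map_octad_three_in {o o' : Finset GolayPt} (ho : o ∈ octads) (ho' : o' ∈ octads)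
    {a b c a' b' c' : GolayPt} (ha : a ∈ o) (hb : b ∈ o) (hc : c ∈ o) (hab : a ≠ b) (hac : a ≠ c)
    (hbc : b ≠ c) (ha' : a' ∈ o') (hb' : b' ∈ o') (hc' : c' ∈ o') (hab' : a' ≠ b') (hac' : a' ≠ c')
    (hbc' : b' ≠ c') : ∃ σ ∈ M24, σ a = a' ∧ σ b = b' ∧ σ c = c' ∧ σ • o = o' := by
  obtain ⟨d, hd⟩ : (oᶜ).Nonempty := Finset.card_pos.1 (by
    rw [Finset.card_compl, card_pt, ho.2]; norm_num)
  obtain ⟨d', hd'⟩ : (o'ᶜ).Nonempty := Finset.card_pos.1 (by
    rw [Finset.card_compl, card_pt, ho'.2]; norm_num)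
  rw [Finset.mem_compl] at hd hd'
  obtain ⟨x, hx, x0, x1, x2, -, hxo⟩ := exists_frame_three ho ha hb hc hab hac hbc hd
  obtain ⟨y, hy, y0, y1, y2, -, hyo⟩ := exists_frame_three ho' ha' hb' hc' hab' hac' hbc' hd'
  obtain ⟨σ, hσ, he⟩ := Golay.exists_frame_map hx hy
  refine ⟨σ, hσ, by rw [← x0, he, y0], by rw [← x1, he, y1], by rw [← x2, he, y2], ?_⟩
  refine Golay.octad_eq_of_five (Golay.smul_mem_octads hσ ho) ho' ?_
  let f : Fin 5 → GolayPt := fun i => y (Fin.castLE (by norm_num) i)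
  have hf : Function.Injective f := fun i j h => Fin.castLE_injective _ (hy.1 h)
  have h5 : (Finset.univ.image f).card = 5 := by
    rw [Finset.card_image_of_injective _ hf]; rfl
  rw [← h5]
  refine Finset.card_le_card fun q hq => ?_
  obtain ⟨i, -, rfl⟩ := Finset.mem_image.1 hq
  refine Finset.mem_inter.2 ⟨?_, hyo _ (by simp; omega)⟩
  simp only [f]
  rw [← he, ← Equiv.Perm.smul_def, Finset.smul_mem_smul_finset_iff]
  exact hxo _ (by simp; omega)

theorem mcl_trans (i : Fin 4) {y z : leechLattice} (hy : y ∈ mclClass i) (hz : z ∈ mclClass i) :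
    ∃ g ∈ mclGroup ⊓ stabilizer Co0 baseU', g • y = z := by
  fin_cases i
  · exact ⟨1, one_mem _, by rw [one_smul]; exact (hy : y = baseU').trans (hz : z = baseU').symm⟩
  · obtain ⟨o, ho, ⟨o1, o2⟩, he⟩ := hy
    obtain ⟨o', ho', ⟨o1', o2'⟩, he'⟩ := hz
    obtain ⟨σ, hσ, s, s1, s2⟩ := exists_map_octad_two ho ho' o1 o2 none_ne_pO o1' o2' none_ne_pO
    refine ⟨permEl σ hσ, permEl_mem_stab3 hσ s1 s2, Subtype.ext ?_⟩
    rw [permEl_smul_octVecM hσ he, s, he', Finset.smul_finset_empty]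
  · obtain ⟨o, r, ho, ⟨o1, o2⟩, hr, r1, r2, he⟩ := hy
    obtain ⟨o', r', ho', ⟨o1', o2'⟩, hr', r1', r2', he'⟩ := hz
    obtain ⟨σ, hσ, s1, s2, s3, s⟩ := exists_map_octad_three_in ho ho' o1 o2 hr none_ne_pO
      (Ne.symm r1) (Ne.symm r2) o1' o2' hr' none_ne_pO (Ne.symm r1') (Ne.symm r2')
    refine ⟨permEl σ hσ, permEl_mem_stab3 hσ s1 s2, Subtype.ext ?_⟩
    rw [permEl_smul_octVecM hσ he, s, he', Finset.smul_finset_insert, Finset.smul_finset_singleton,
      Equiv.Perm.smul_def, Equiv.Perm.smul_def, s2, s3]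
  · obtain ⟨o, k, ho, ⟨o1, o2⟩, hk, k2, he⟩ := hy
    obtain ⟨o', k', ho', ⟨o1', o2'⟩, hk', k2', he'⟩ := hz
    obtain ⟨σ, hσ, s2, s3, s1, s⟩ := exists_map_octad_two_out ho ho' o2 hk (Ne.symm k2) o1
      o2' hk' (Ne.symm k2') o1'
    refine ⟨permEl σ hσ, permEl_mem_stab3 hσ s1 s2, Subtype.ext ?_⟩
    rw [permEl_smul_oddVec hσ he, s, s3, he']

theorem ncard_mcl0 : (mclPts ∩ mclClass 0).ncard = 1 := by
  show (mclPts ∩ {baseU'}).ncard = 1
  rw [Set.inter_eq_right.2 (Set.singleton_subset_iff.2 baseU'_mem_mclPts), Set.ncard_singleton]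

theorem ncard_mcl1 : (mclPts ∩ mclClass 1).ncard = 330 := by
  have h := ncard_octad_vectors (fun o => none ∉ o ∧ pO ∉ o) (fun _ M => M = ∅) 1
    (fun o _ _ => by
      rw [Finset.card_eq_one]
      refine ⟨∅, ?_⟩
      ext M
      simp only [Finset.mem_filter, Finset.mem_powerset, Finset.mem_singleton]
      exact ⟨fun h => h.2.2, fun h => by subst h; simp⟩)
  have h330 : {o : Finset GolayPt | o ∈ octads ∧ none ∉ o ∧ pO ∉ o}.ncard = 330 := by
    simp only [mem_iff_testBit, Bool.not_eq_true, ← Bool.not_eq_true', ← Bool.and_eq_true]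
    rw [ncard_octads_filter fun m => !m.testBit (Golay.idx none) && !m.testBit (Golay.idx pO)]
    decide +kernel
  rw [h330, mul_one] at h
  rw [← Set.ncard_image_of_injective _ Subtype.val_injective]
  refine (congrArg Set.ncard (Set.ext fun x => ?_)).trans h
  constructor
  · rintro ⟨v, ⟨-, o, ho, hP, he⟩, rfl⟩
    exact ⟨o, ∅, ho, hP, Finset.empty_subset _, by simp, rfl, he⟩
  · rintro ⟨o, M, ho, hP, hM, -, rfl, rfl⟩
    refine ⟨⟨octVec o ∅, octVec_mem ho (by simp)⟩, ⟨⟨sqNorm_octVec ho ∅, ?_, ?_⟩, o, ho, hP, rfl⟩,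
      rfl⟩
    · rw [dotInt_baseF, sum_octVec ho hM]; simp [octVec, hP.1]
    · rw [dotInt_baseU]; simp [octVec, hP.1, hP.2]

theorem ncard_mcl2 : (mclPts ∩ mclClass 2).ncard = 462 := by
  have h := ncard_octad_vectors (fun o => none ∈ o ∧ pO ∈ o)
    (fun _ M => pO ∈ M ∧ none ∉ M ∧ M.card = 2) 6 (fun o ho hP => by
      have e : (o.powerset.filter fun M => Even M.card ∧ (pO ∈ M ∧ none ∉ M ∧ M.card = 2)) =
          (o \ {none, pO}).image fun r => ({pO, r} : Finset GolayPt) := by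
        ext M
        simp only [Finset.mem_filter, Finset.mem_powerset, Finset.mem_image, Finset.mem_sdiff,
          Finset.mem_insert, Finset.mem_singleton, not_or]
        constructor
        · rintro ⟨hM, -, h1, h2, hc⟩
          obtain ⟨a, b, hab, rfl⟩ := Finset.card_eq_two.1 hc
          rcases Finset.mem_insert.1 h1 with rfl | h
          · exact ⟨b, ⟨hM (by simp), fun e => h2 (by simp [e]), Ne.symm hab⟩, rfl⟩
          · rw [Finset.mem_singleton] at h; subst h
            exact ⟨a, ⟨hM (by simp), fun e => h2 (by simp [e]), hab⟩, Finset.pair_comm _ _⟩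
        · rintro ⟨r, ⟨hr, r1, r2⟩, rfl⟩
          refine ⟨by simp [Finset.insert_subset_iff, hP.2, hr],
            by rw [Finset.card_pair (Ne.symm r2)]; decide, by simp,
            by simp [none_ne_pO, Ne.symm r1], Finset.card_pair (Ne.symm r2)⟩
      rw [e, Finset.card_image_of_injOn, Finset.card_sdiff_of_subset
        (by simp [Finset.insert_subset_iff, hP.1, hP.2]), Finset.card_pair none_ne_pO,
        show o.card = 8 from ho.2]
      intro r hr r' hr' he
      simp only [Finset.coe_sdiff, Set.mem_sdiff, Finset.coe_insert, Finset.coe_singleton,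
        Set.mem_insert_iff, Set.mem_singleton_iff, not_or] at hr hr'
      simp only at he
      have : r ∈ ({pO, r'} : Finset GolayPt) := he ▸ by simp
      simpa [hr.2.2] using this)
  rw [ncard_octads_two] at h
  rw [← Set.ncard_image_of_injective _ Subtype.val_injective]
  refine (congrArg Set.ncard (Set.ext fun x => ?_)).trans h
  constructor
  · rintro ⟨v, ⟨-, o, r, ho, hP, hr, r1, r2, he⟩, rfl⟩
    exact ⟨o, {pO, r}, ho, hP, by simp [Finset.insert_subset_iff, hP.2, hr],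
      by rw [Finset.card_pair (Ne.symm r2)]; decide,
      ⟨by simp, by simp [none_ne_pO, Ne.symm r1], Finset.card_pair (Ne.symm r2)⟩, he⟩
  · rintro ⟨o, M, ho, hP, hM, hE, ⟨h1, h2, hc⟩, rfl⟩
    obtain ⟨r, hr, rfl⟩ : ∃ r, r ≠ pO ∧ M = {pO, r} := by
      obtain ⟨a, b, hab, rfl⟩ := Finset.card_eq_two.1 hc
      rcases Finset.mem_insert.1 h1 with rfl | h
      · exact ⟨b, Ne.symm hab, rfl⟩
      · rw [Finset.mem_singleton] at h; subst h
        exact ⟨a, hab, Finset.pair_comm _ _⟩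
    refine ⟨⟨octVec o {pO, r}, octVec_mem ho (by rwa [Finset.inter_eq_right.2 hM])⟩,
      ⟨⟨sqNorm_octVec ho _, ?_, ?_⟩, o, r, ho, hP, hM (by simp),
        fun e => h2 (by simp [e]), hr, rfl⟩, rfl⟩
    · rw [dotInt_baseF, sum_octVec ho hM]
      simp only [Finset.card_pair (Ne.symm hr)]
      simp [octVec, hP.1, h2]
    · rw [dotInt_baseU]; simp [octVec, hP.1, hP.2, h2]

theorem ncard_mcl3 : (mclPts ∩ mclClass 3).ncard = 1232 := by
  classical
  let T : Finset (Finset GolayPt) := octFin.filter fun o => none ∉ o ∧ pO ∈ o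
  let S : Finset ((_ : Finset GolayPt) × GolayPt) := T.sigma fun o => o.erase pO
  have hT : T.card = 176 := by
    have h176 : {o : Finset GolayPt | o ∈ octads ∧ none ∉ o ∧ pO ∈ o}.ncard = 176 := by
      simp only [mem_iff_testBit, Bool.not_eq_true, ← Bool.not_eq_true', ← Bool.and_eq_true]
      rw [ncard_octads_filter fun m => !m.testBit (Golay.idx none) && m.testBit (Golay.idx pO)]
      decide +kernel
    rw [← h176, ← Set.ncard_coe_finset]
    congr 1
    ext o
    simp [T, mem_octFin]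
  have hinj : Set.InjOn (fun p : (_ : Finset GolayPt) × GolayPt => oddVec p.2 p.1) S := by
    rintro ⟨o, k⟩ - ⟨o', k'⟩ - e
    obtain ⟨rfl, rfl⟩ := oddVec_inj e
    rfl
  have hcard : (S.image fun p => oddVec p.2 p.1).card = 1232 := by
    rw [Finset.card_image_of_injOn hinj, Finset.card_sigma,
      Finset.sum_congr rfl (g := fun _ => 7) fun o ho => by
        simp only [T, Finset.mem_filter, mem_octFin] at ho
        rw [Finset.card_erase_of_mem ho.2.2, show o.card = 8 from ho.1.2],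
      Finset.sum_const, hT]
    rfl
  rw [← Set.ncard_image_of_injective _ Subtype.val_injective, ← hcard, ← Set.ncard_coe_finset]
  refine congrArg Set.ncard (Set.ext fun x => ?_)
  simp only [S, T, Finset.coe_image, Set.mem_image, Finset.mem_coe, Finset.mem_sigma,
    Finset.mem_filter, mem_octFin, Finset.mem_erase]
  constructor
  · rintro ⟨v, ⟨-, o, k, ho, hP, hk, k2, he⟩, rfl⟩
    exact ⟨⟨o, k⟩, ⟨⟨ho, hP⟩, k2, hk⟩, he.symm⟩
  · rintro ⟨⟨o, k⟩, ⟨⟨ho, hP⟩, k2, hk⟩, rfl⟩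
    refine ⟨⟨oddVec k o, oddVec_mem ho.1⟩, ⟨⟨sqNorm_oddVec k o, ?_, ?_⟩,
      o, k, ho, hP, hk, k2, rfl⟩, rfl⟩
    · rw [dotInt_baseF, odd_sum ((oddVec_abs k o k).2 rfl)
        (fun i hi => by simp only [oddVec, fvD, if_neg hi]; split_ifs <;> simp) (oddVec_res k o),
        if_pos hk]
      simp only [show o.card = 8 from ho.2]
      simp [oddVec, fvD, hP.1, show none ≠ k from fun e => hP.1 (e ▸ hk)]
    · rw [dotInt_baseU]
      simp [oddVec, fvD, hP.1, hP.2, show none ≠ k from fun e => hP.1 (e ▸ hk), Ne.symm k2]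

theorem ncard_mclClass (i : Fin 4) : (mclPts ∩ mclClass i).ncard = ![1, 330, 462, 1232] i := by
  fin_cases i
  · exact ncard_mcl0
  · exact ncard_mcl1
  · exact ncard_mcl2
  · exact ncard_mcl3

theorem ncard_mclPts : mclPts.ncard = 2025 := by
  have e : mclPts = ⋃ i, mclPts ∩ mclClass i := by
    ext x
    simp only [Set.mem_iUnion, Set.mem_inter_iff]
    exact ⟨fun h => (mclPts_cases h).imp fun i hi => ⟨h, hi⟩, fun ⟨_, h, _⟩ => h⟩
  have hfin : mclPts.Finite := finite_orthU.subset fun z hz => ⟨hz.1, hz.2.2⟩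
  conv_lhs => rw [e]
  rw [Set.ncard_iUnion_of_finite (fun i => hfin.subset Set.inter_subset_left),
    finsum_eq_sum_of_fintype]
  · simp only [ncard_mclClass]; rfl
  · intro i j hij
    exact Set.disjoint_left.2 fun x hx hx' => hij (mclClass_disjoint i j hx.2 hx'.2)

theorem natCard_mclGroup : Nat.card mclGroup = 898128000 := by
  have h := ncard_orbit_mul mclGroup baseU'
  rw [mclGroup_orbit, ncard_mclPts, mclGroup_inf, natCard_stab3] at h
  exact h.symm

theorem exists_octad_through_avoid {a b c : GolayPt} (h : a ≠ b ∧ b ≠ c ∧ a ≠ c) :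
    ∃ o ∈ octads, a ∈ o ∧ b ∈ o ∧ c ∉ o := by
  obtain ⟨σ, hσ, ha, hb, hc⟩ := exists_map_three (a := Golay.pt 2) (b := Golay.pt 12)
    (c := Golay.pt 1) (by decide +kernel) h
  have h0 : Golay.pt 2 ∈ Golay.pts 0xd4b004 ∧ Golay.pt 12 ∈ Golay.pts 0xd4b004 ∧
      Golay.pt 1 ∉ Golay.pts 0xd4b004 := by decide +kernel
  refine ⟨σ • Golay.pts 0xd4b004,
    Golay.smul_mem_octads hσ (Golay.rows_octads _ (by decide +kernel)), ?_, ?_, ?_⟩
  · rw [← ha, ← Equiv.Perm.smul_def, Finset.smul_mem_smul_finset_iff]; exact h0.1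
  · rw [← hb, ← Equiv.Perm.smul_def, Finset.smul_mem_smul_finset_iff]; exact h0.2.1
  · rw [← hc, ← Equiv.Perm.smul_def, Finset.smul_mem_smul_finset_iff]; exact h0.2.2

theorem mcl_eq_one_of_fix {g : Co0} (hg : g ∈ mclGroup) (h : ∀ y ∈ mclPts, g • y = y) : g = 1 := by
  have hm : g ∈ stab3 := ⟨hg, mem_stabilizer_iff.2 (h _ baseU'_mem_mclPts)⟩
  obtain ⟨σ, hσ, h1, h2, rfl⟩ := exists_perm_of_stab3 hm
  refine eq_one_of_fix_all h1 h2 fun k k1 k2 => ?_
  obtain ⟨o, ho, o2, ok, o1⟩ := exists_octad_through_avoid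
    (a := pO) (b := k) (c := none) ⟨Ne.symm k2, k1, none_ne_pO.symm⟩
  have hz : (⟨oddVec k o, oddVec_mem ho.1⟩ : leechLattice) ∈ mclPts := by
    refine ⟨sqNorm_oddVec k o, ?_, ?_⟩
    · rw [dotInt_baseF, odd_sum ((oddVec_abs k o k).2 rfl)
        (fun i hi => by simp only [oddVec, fvD, if_neg hi]; split_ifs <;> simp) (oddVec_res k o),
        if_pos ok]
      simp only [show o.card = 8 from ho.2]
      simp [oddVec, fvD, o1, Ne.symm k1]
    · rw [dotInt_baseU]
      simp [oddVec, fvD, o1, o2, Ne.symm k1, Ne.symm k2]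
  have e := congrArg Subtype.val (h _ hz)
  rw [permEl_smul_oddVec hσ rfl] at e
  exact (oddVec_inj e).1

theorem isSimpleGroup_mclGroup : IsSimpleGroup mclGroup := by
  have hsub : IsSimpleGroup ↥(mclGroup ⊓ stabilizer Co0 baseU') := isSimpleGroup_stab3
  refine isSimpleGroup_of_stab mclGroup baseU' mclPts mclGroup_orbit ?_
    (fun g hg h => mcl_eq_one_of_fix hg h) fun N hN => ?_
  · exact isCoatom_subgroupOf_of_classes mclGroup baseU' mclPts
      (Set.finite_of_ncard_ne_zero (by rw [ncard_mclPts]; norm_num)) mclGroup_orbit 0 mclClass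
      (fun y hy => mclPts_cases hy) (fun y _ i j => mclClass_disjoint i j)
      (fun i y _ z _ hi hj => mcl_trans i hi hj) ![1, 330, 462, 1232] ncard_mclClass rfl rfl
      (by rw [ncard_mclPts]; norm_num) (by decide +kernel)
  · rw [ncard_mclPts] at hN
    exact SimpleStab.exists_characteristic_of_two_primes (p := 3) (q := 5) (a := 4) (b := 2)
      (by norm_num) (by norm_num) (by norm_num) (by norm_num) (by norm_num) (by rw [hN]; norm_num)

end Cfsg.Agent.Leech
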