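import Cfsg.Agent.Lib.Leech.Census552
import Cfsg.Agent.Lib.Leech.FrameMaps

/-!
# The hundred points of a Higman–Sims configuration

* `HSPoint v w x`, `hs_point_iff`, `ncard_hs_points`, `hs_transitive`, `hs_rank_three`
-/

set_option autoImplicit false

open scoped Pointwise

namespace Cfsg.Agent.Leech

/-- A point of the configuration of `v` and `w`. -/
def HSPoint (v w x : leechLattice) : Prop :=
  sqNorm (x : GolayPt → ℤ) = 32 ∧ dotInt (v : GolayPt → ℤ) (x : GolayPt → ℤ) = 24 ∧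
    dotInt (w : GolayPt → ℤ) (x : GolayPt → ℤ) = -24

theorem hs_point_iff {v w x : leechLattice} : HSPoint v w x ↔
    sqNorm (x : GolayPt → ℤ) = 32 ∧ dotInt (x : GolayPt → ℤ) (v : GolayPt → ℤ) = 24 ∧
      dotInt (x : GolayPt → ℤ) ((v + w : leechLattice) : GolayPt → ℤ) = 0 := by
  rw [HSPoint, dotInt_comm (v : GolayPt → ℤ), dotInt_comm (w : GolayPt → ℤ), AddSubgroup.coe_add,
    dotInt_add_right]
  constructor <;> rintro ⟨a, b, c⟩ <;> exact ⟨a, b, by omega⟩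

/-- The normal form of the hundred points. -/
def hsBase : Set leechLattice :=
  {x | sqNorm (x : GolayPt → ℤ) = 32 ∧ dotInt (x : GolayPt → ℤ) (baseF : GolayPt → ℤ) = 24 ∧
    dotInt (x : GolayPt → ℤ) (baseU' : GolayPt → ℤ) = 0}

theorem hs_point_transfer {v w : leechLattice} {g : Co0} (g1 : g • v = baseF)
    (g2 : g • (v + w) = baseU') (x : leechLattice) : HSPoint v w x ↔ g • x ∈ hsBase := by
  rw [hs_point_iff]
  show _ ↔ sqNorm _ = 32 ∧ _ ∧ _
  rw [sqNorm_smul, dotInt_smul_of_eq g1, dotInt_smul_of_eq g2]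

theorem ncard_hsBase_filter (R : ℤ → Prop) :
    {x : leechLattice | x ∈ hsBase ∧ R (dotInt (x : GolayPt → ℤ) (baseU : GolayPt → ℤ))}.ncard =
      {j : GolayPt | j ≠ none ∧ j = pO ∧ R 32}.ncard +
      {o : Finset GolayPt | o ∈ octads ∧ none ∈ o ∧ pO ∈ o ∧ R 16}.ncard +
      {k : GolayPt | k ≠ none ∧ k ≠ pO ∧ R 8}.ncard := by
  show {x : leechLattice | (sqNorm (x : GolayPt → ℤ) = 32 ∧ _ ∧ _) ∧ _}.ncard = _
  rw [ncard_subtype (fun x => (sqNorm x = 32 ∧ dotInt x (baseF : GolayPt → ℤ) = 24 ∧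
    dotInt x (baseU' : GolayPt → ℤ) = 0) ∧ R (dotInt x (baseU : GolayPt → ℤ)))]
  rw [show {x | x ∈ leechLattice ∧ (sqNorm x = 32 ∧ dotInt x (baseF : GolayPt → ℤ) = 24 ∧
    dotInt x (baseU' : GolayPt → ℤ) = 0) ∧ R (dotInt x (baseU : GolayPt → ℤ))} =
    {x | x ∈ set552 ∧ (dotInt x (baseU' : GolayPt → ℤ) = 0 ∧ R (dotInt x (baseU : GolayPt → ℤ)))} by
      ext x; simp only [set552, Set.mem_ofPred_eq]; tauto]
  rw [ncard552]
  have eA : {j : GolayPt | j ≠ none ∧ (dotInt (fvA j : GolayPt → ℤ) (baseU' : GolayPt → ℤ) = 0 ∧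
      R (dotInt (fvA j : GolayPt → ℤ) (baseU : GolayPt → ℤ)))} = {j | j ≠ none ∧ j = pO ∧ R 32} := by
    ext j
    simp only [Set.mem_ofPred_eq, dotInt_baseU, dotInt_baseU']
    refine and_congr_right fun hj => ?_
    rw [fvA_none hj, fvA_apply none_ne_pO.symm]
    by_cases h : pO = j
    · simp [h]
    · simp [h, Ne.symm h]
  have eB : {o : Finset GolayPt | o ∈ octads ∧ none ∈ o ∧ (dotInt (fvB o) (baseU' : GolayPt → ℤ) = 0 ∧
      R (dotInt (fvB o) (baseU : GolayPt → ℤ)))} = {o | o ∈ octads ∧ none ∈ o ∧ pO ∈ o ∧ R 16} := by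
    ext o
    simp only [Set.mem_ofPred_eq, dotInt_baseU, dotInt_baseU']
    refine and_congr_right fun _ => and_congr_right fun h => ?_
    rw [fvB_none h, fvB_apply]
    by_cases h' : pO ∈ o <;> simp [h']
  have eC : {o : Finset GolayPt | o ∈ octads ∧ none ∈ o ∧ (dotInt (fvC o) (baseU' : GolayPt → ℤ) = 0 ∧
      R (dotInt (fvC o) (baseU : GolayPt → ℤ)))} = ∅ := by
    refine Set.eq_empty_of_forall_notMem fun o ho => ?_
    obtain ⟨-, -, h, -⟩ := ho
    rw [dotInt_baseU', fvC_none, fvC_apply o none_ne_pO.symm] at h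
    split_ifs at h <;> omega
  have eD : {k : GolayPt | k ≠ none ∧ (dotInt (fvD k) (baseU' : GolayPt → ℤ) = 0 ∧
      R (dotInt (fvD k) (baseU : GolayPt → ℤ)))} = {k | k ≠ none ∧ k ≠ pO ∧ R 8} := by
    ext k
    simp only [Set.mem_ofPred_eq, dotInt_baseU, dotInt_baseU']
    refine and_congr_right fun hk => ?_
    rw [fvD_none hk, fvD_apply]
    by_cases h : pO = k
    · simp [h]
    · simp [h, Ne.symm h]
  rw [eA, eB, eC, eD, Set.ncard_empty, add_zero]

theorem ncard_pO : {j : GolayPt | j ≠ none ∧ j = pO}.ncard = 1 := by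
  rw [Set.ncard_eq_one]
  exact ⟨pO, Set.ext fun j => ⟨fun h => h.2, fun h => ⟨h ▸ none_ne_pO.symm, h⟩⟩⟩

theorem ncard_octads_two : {o : Finset GolayPt | o ∈ octads ∧ none ∈ o ∧ pO ∈ o}.ncard = 77 := by
  simp only [mem_iff_testBit, ← Bool.and_eq_true]
  rw [ncard_octads_filter fun m => m.testBit (Golay.idx none) && m.testBit (Golay.idx pO)]
  decide +kernel

theorem ncard_not_two : {k : GolayPt | k ≠ none ∧ k ≠ pO}.ncard = 22 := by
  rw [Set.ncard_eq_toFinset_card']; rfl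

theorem ncard_hsBase : hsBase.ncard = 100 := by
  have h := ncard_hsBase_filter fun _ => True
  simp only [and_true, Set.ofPred_mem_eq] at h
  rw [h, ncard_pO, ncard_octads_two, ncard_not_two]

theorem ncard_hsBase_near :
    {x : leechLattice | x ∈ hsBase ∧ dotInt (x : GolayPt → ℤ) (baseU : GolayPt → ℤ) = 8}.ncard = 22 := by
  rw [ncard_hsBase_filter (fun d => d = 8)]
  norm_num
  exact ncard_not_two

theorem ncard_hsBase_far :
    {x : leechLattice | x ∈ hsBase ∧ x ≠ baseU ∧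
      dotInt (x : GolayPt → ℤ) (baseU : GolayPt → ℤ) ≠ 8}.ncard = 77 := by
  have h32 : ∀ x : leechLattice, x ∈ hsBase →
      (x ≠ baseU ↔ dotInt (x : GolayPt → ℤ) (baseU : GolayPt → ℤ) ≠ 32) := by
    intro x hx
    refine not_congr ⟨fun h => by rw [h, ← sqNorm_eq_dotInt, sqNorm_baseU], fun h => ?_⟩
    refine Subtype.ext (sub_eq_zero.1 (sqNorm_eq_zero.1 ?_))
    rw [sqNorm_sub, hx.1, sqNorm_baseU, h]; norm_num
  rw [show {x : leechLattice | x ∈ hsBase ∧ x ≠ baseU ∧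
      dotInt (x : GolayPt → ℤ) (baseU : GolayPt → ℤ) ≠ 8} = {x | x ∈ hsBase ∧
      (dotInt (x : GolayPt → ℤ) (baseU : GolayPt → ℤ) ≠ 32 ∧
       dotInt (x : GolayPt → ℤ) (baseU : GolayPt → ℤ) ≠ 8)} from
    Set.ext fun x => and_congr_right fun hx => and_congr_left fun _ => h32 x hx]
  rw [ncard_hsBase_filter (fun d => d ≠ 32 ∧ d ≠ 8)]
  simp only [ne_eq, not_true_eq_false, and_false, Set.ofPred_false, Set.ncard_empty,
    zero_add, add_zero, Int.reduceEq, not_false_eq_true, and_true]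
  exact ncard_octads_two

theorem hsBase_orbits {y y' : leechLattice} (hy : y ∈ hsBase) (hy' : y' ∈ hsBase) (hne : y ≠ baseU)
    (hne' : y' ≠ baseU)
    (h : dotInt (y : GolayPt → ℤ) (baseU : GolayPt → ℤ) = 8 ↔
      dotInt (y' : GolayPt → ℤ) (baseU : GolayPt → ℤ) = 8) :
    ∃ g : Co0, g • baseF = baseF ∧ g • baseU = baseU ∧ g • baseU' = baseU' ∧ g • y = y' := by
  have cls : ∀ y : leechLattice, y ∈ hsBase → y ≠ baseU →
      (∃ o ∈ octads, none ∈ o ∧ pO ∈ o ∧ (y : GolayPt → ℤ) = fvB o ∧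
        dotInt (y : GolayPt → ℤ) (baseU : GolayPt → ℤ) = 16) ∨
      (∃ k, k ≠ none ∧ k ≠ pO ∧ (y : GolayPt → ℤ) = fvD k ∧
        dotInt (y : GolayPt → ℤ) (baseU : GolayPt → ℤ) = 8) := by
    intro y hy hne
    obtain ⟨hn, hF, hU⟩ := hy
    rw [dotInt_baseU'] at hU
    rw [dotInt_baseU]
    rcases classify552 y.2 hn hF with ⟨j, hj, he⟩ | ⟨o, ho, h, he⟩ | ⟨o, ho, h, he⟩ | ⟨k, hk, he⟩
    · exfalso
      rw [he, fvA_none hj, fvA_apply none_ne_pO.symm] at hU
      by_cases hp : pO = j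
      · exact hne (Subtype.ext (by rw [he, ← hp]; rfl))
      · simp [hp] at hU
    · rw [he, fvB_none h, fvB_apply] at hU
      have h0 : pO ∈ o := by by_contra h0; simp [h0] at hU
      exact Or.inl ⟨o, ho, h, h0, he, by rw [he, fvB_none h, fvB_apply, if_pos h0]; rfl⟩
    · exfalso
      rw [he, fvC_none, fvC_apply o none_ne_pO.symm] at hU
      split_ifs at hU <;> omega
    · rw [he, fvD_none hk, fvD_apply] at hU
      have h0 : pO ≠ k := fun h0 => by rw [if_pos h0] at hU; omega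
      exact Or.inr ⟨k, hk, Ne.symm h0, he, by rw [he, fvD_none hk, fvD_apply, if_neg h0]; rfl⟩
  rcases cls y hy hne with ⟨o, ho, o1, o2, he, hd⟩ | ⟨k, k1, k2, he, hd⟩ <;>
    rcases cls y' hy' hne' with ⟨o', ho', o1', o2', he', hd'⟩ | ⟨k', k1', k2', he', hd'⟩
  · obtain ⟨c, hc⟩ : (oᶜ).Nonempty := Finset.card_pos.1 (by
      rw [Finset.card_compl, card_pt, ho.2]; norm_num)
    obtain ⟨c', hc'⟩ : (o'ᶜ).Nonempty := Finset.card_pos.1 (by
      rw [Finset.card_compl, card_pt, ho'.2]; norm_num)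
    obtain ⟨σ, hσ, s1, s2, -, s4⟩ := exists_map_octad_two_out ho ho' o1 o2 none_ne_pO
      (Finset.mem_compl.1 hc) o1' o2' none_ne_pO (Finset.mem_compl.1 hc')
    refine ⟨permEl σ hσ, permEl_smul_baseF hσ s1, ?_, ?_, Subtype.ext ?_⟩
    · rw [baseU, permEl_smul_pairVec]; simp only [s1, s2]
    · rw [baseU', permEl_smul_pairVec]; simp only [s1, s2]
    · rw [permEl_smul_octVec hσ ho he, s4, he']
  · exact absurd (h.2 hd') (by omega)
  · exact absurd (h.1 hd) (by omega)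
  · obtain ⟨σ, hσ, s1, s2, s3⟩ := exists_map_three ⟨none_ne_pO, Ne.symm k2, Ne.symm k1⟩
      ⟨none_ne_pO, Ne.symm k2', Ne.symm k1'⟩
    refine ⟨permEl σ hσ, permEl_smul_baseF hσ s1, ?_, ?_, Subtype.ext ?_⟩
    · rw [baseU, permEl_smul_pairVec]; simp only [s1, s2]
    · rw [baseU', permEl_smul_pairVec]; simp only [s1, s2]
    · rw [permEl_smul_fvD hσ he, s3, he']

end Cfsg.Agent.Leech
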