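import Cfsg.Agent.Lib.Leech.StabM22
import Cfsg.Agent.Lib.Leech.HSConfig

/-!
# The Higman–Sims group is simple
-/

set_option autoImplicit false

open scoped Pointwise

namespace Cfsg.Agent.Leech

open MulAction

/-- The stabiliser of the normal form of a Higman–Sims configuration. -/
def hsGroup : Subgroup Co0 := stabilizer Co0 baseF ⊓ stabilizer Co0 baseU'

theorem hsGroup_fix {g : Co0} (h : g ∈ hsGroup) : g • baseF = baseF ∧ g • baseU' = baseU' :=
  ⟨mem_stabilizer_iff.1 h.1, mem_stabilizer_iff.1 h.2⟩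

theorem hsGroup_inf : hsGroup ⊓ stabilizer Co0 baseU = stab3 := by
  rw [hsGroup, stab3, inf_right_comm]

theorem dot_F_U' : dotInt (baseF : GolayPt → ℤ) (baseU' : GolayPt → ℤ) = 16 := by decide +kernel

theorem baseU_mem_hsBase : baseU ∈ hsBase :=
  ⟨sqNorm_baseU, by decide +kernel, by decide +kernel⟩

theorem hsGroup_orbit : {y | ∃ a ∈ hsGroup, a • baseU = y} = hsBase := by
  ext y
  constructor
  · rintro ⟨a, ha, rfl⟩
    obtain ⟨h1, h2⟩ := hsGroup_fix ha
    refine ⟨by rw [sqNorm_smul, sqNorm_baseU], ?_, ?_⟩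
    · rw [dotInt_smul_of_eq h1]; exact baseU_mem_hsBase.2.1
    · rw [dotInt_smul_of_eq h2]; exact baseU_mem_hsBase.2.2
  · intro hy
    obtain ⟨g, g1, g2, g3⟩ := exists_normal_hs_point sqNorm_baseF sqNorm_baseU' hy.1
      (by rw [dotInt_comm]; exact hy.2.1) dot_F_U' hy.2.2
    exact ⟨g⁻¹, ⟨mem_stabilizer_iff.2 (inv_smul_eq_iff.2 g1.symm),
      mem_stabilizer_iff.2 (inv_smul_eq_iff.2 g2.symm)⟩, inv_smul_eq_iff.2 g3.symm⟩

theorem finite_hsBase : hsBase.Finite :=
  Set.finite_of_ncard_ne_zero (by rw [ncard_hsBase]; norm_num)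

theorem natCard_hsGroup : Nat.card hsGroup = 44352000 := by
  have h := ncard_orbit_mul hsGroup baseU
  rw [hsGroup_orbit, ncard_hsBase, hsGroup_inf, natCard_stab3] at h
  exact h.symm

/-- The three suborbits. -/
def hsClass : Fin 3 → Set leechLattice :=
  ![{baseU}, {x | x ≠ baseU ∧ dotInt (x : GolayPt → ℤ) (baseU : GolayPt → ℤ) = 8},
    {x | x ≠ baseU ∧ dotInt (x : GolayPt → ℤ) (baseU : GolayPt → ℤ) ≠ 8}]

theorem isCoatom_hs : IsCoatom ((hsGroup ⊓ stabilizer Co0 baseU).subgroupOf hsGroup) := by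
  classical
  refine isCoatom_subgroupOf_of_classes hsGroup baseU hsBase finite_hsBase hsGroup_orbit 0 hsClass
    (fun y _ => ?_) (fun y _ i j hi hj => ?_) (fun i y hy z hz hi hj => ?_) ![1, 22, 77]
    (fun i => ?_) rfl rfl (by rw [ncard_hsBase]; norm_num) (by decide +kernel)
  · by_cases h : y = baseU
    · exact ⟨0, h⟩
    by_cases h8 : dotInt (y : GolayPt → ℤ) (baseU : GolayPt → ℤ) = 8
    · exact ⟨1, h, h8⟩
    · exact ⟨2, h, h8⟩
  · fin_cases i <;> fin_cases j <;> first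
      | rfl
      | exact absurd hi hj.1
      | exact absurd hj hi.1
      | exact absurd hi.2 hj.2
      | exact absurd hj.2 hi.2
  · have key : y ≠ baseU → z ≠ baseU → (dotInt (y : GolayPt → ℤ) (baseU : GolayPt → ℤ) = 8 ↔
        dotInt (z : GolayPt → ℤ) (baseU : GolayPt → ℤ) = 8) →
        ∃ g ∈ hsGroup ⊓ stabilizer Co0 baseU, g • y = z := fun a b c => by
      obtain ⟨g, g1, g2, g3, g4⟩ := hsBase_orbits hy hz a b c
      exact ⟨g, ⟨⟨mem_stabilizer_iff.2 g1, mem_stabilizer_iff.2 g3⟩, mem_stabilizer_iff.2 g2⟩, g4⟩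
    fin_cases i
    · exact ⟨1, one_mem _, by rw [one_smul]; exact hi.trans hj.symm⟩
    · exact key hi.1 hj.1 (iff_of_true hi.2 hj.2)
    · exact key hi.1 hj.1 (iff_of_false hi.2 hj.2)
  · fin_cases i
    · show (hsBase ∩ {baseU}).ncard = 1
      rw [Set.inter_eq_right.2 (Set.singleton_subset_iff.2 baseU_mem_hsBase), Set.ncard_singleton]
    · show (hsBase ∩ _).ncard = 22
      rw [← ncard_hsBase_near]
      congr 1
      ext x
      refine ⟨fun h => ⟨h.1, h.2.2⟩, fun h => ⟨h.1, fun e => ?_, h.2⟩⟩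
      have h2 := h.2
      rw [e, ← sqNorm_eq_dotInt, sqNorm_baseU] at h2
      omega
    · exact ncard_hsBase_far

theorem hs_eq_one_of_fix {g : Co0} (hg : g ∈ hsGroup) (h : ∀ y ∈ hsBase, g • y = y) : g = 1 := by
  have hm : g ∈ stab3 := by
    rw [← hsGroup_inf]
    exact ⟨hg, mem_stabilizer_iff.2 (h _ baseU_mem_hsBase)⟩
  obtain ⟨σ, hσ, h1, h2, rfl⟩ := exists_perm_of_stab3 hm
  refine eq_one_of_fix_all h1 h2 fun k k1 k2 => ?_
  have hm : (⟨fvD k, fvD_mem k⟩ : leechLattice) ∈ hsBase := by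
    refine ⟨(fvD_mem552 k1).2.1, (fvD_mem552 k1).2.2, ?_⟩
    rw [dotInt_baseU']
    simp [fvD, Ne.symm k1, Ne.symm k2]
  have e := congrArg Subtype.val (h _ hm)
  rw [permEl_smul_fvD hσ rfl] at e
  have e2 := congrFun e (σ k)
  simp only [fvD, if_true] at e2
  by_contra hne
  rw [if_neg (show ¬σ k = k from hne)] at e2
  omega

theorem isSimpleGroup_hs : IsSimpleGroup hsGroup := by
  have : IsSimpleGroup ↥(hsGroup ⊓ stabilizer Co0 baseU) := by
    rw [hsGroup_inf]; exact isSimpleGroup_stab3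
  refine isSimpleGroup_of_stab hsGroup baseU hsBase hsGroup_orbit isCoatom_hs
    (fun g hg h => hs_eq_one_of_fix hg h) fun N hN => ?_
  rw [ncard_hsBase] at hN
  have : Fact (Nat.Prime 5) := ⟨by norm_num⟩
  refine SimpleStab.exists_characteristic_of_sylow 5 (by rw [hN]; norm_num) ?_ ?_
  · rintro ⟨k, hk⟩
    rw [hN] at hk
    have : 2 ∣ 5 ^ k := hk ▸ (by norm_num : 2 ∣ 100)
    exact absurd (Nat.prime_two.dvd_of_dvd_pow this) (by norm_num)
  · rw [hN]
    intro d hd hd1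
    have := Nat.le_of_dvd (by norm_num) hd
    interval_cases d <;> omega

/-- Conjugate stabilisers are isomorphic. -/
theorem smul_stabilizer_pair {g : Co0} {v w v' w' : leechLattice} (h1 : g • v = v')
    (h2 : g • w = w') :
    Nonempty (↥(stabilizer Co0 v ⊓ stabilizer Co0 w) ≃*
      ↥(stabilizer Co0 v' ⊓ stabilizer Co0 w')) := by
  have e : (stabilizer Co0 v ⊓ stabilizer Co0 w).map (MulAut.conj g).toMonoidHom =
      stabilizer Co0 v' ⊓ stabilizer Co0 w' := by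
    rw [← h1, ← h2, Subgroup.map_inf _ _ _ (MulAut.conj g).injective,
      stabilizer_smul_eq_stabilizer_map_conj, stabilizer_smul_eq_stabilizer_map_conj]
  exact ⟨((Subgroup.equivMapOfInjective _ _ (MulAut.conj g).injective).trans
    (MulEquiv.subgroupCongr e))⟩

theorem isHS_of {v w : leechLattice} (hv : sqNorm (v : GolayPt → ℤ) = 48)
    (hw : sqNorm (w : GolayPt → ℤ) = 48)
    (hvw : dotInt (v : GolayPt → ℤ) (w : GolayPt → ℤ) = -32) :
    IsSimpleGroup ↥(stabilizer Co0 v ⊓ stabilizer Co0 w) ∧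
      Nat.card ↥(stabilizer Co0 v ⊓ stabilizer Co0 w) = 44352000 := by
  obtain ⟨s1, s2⟩ := hs_sum hv hw hvw
  obtain ⟨g, g1, g2⟩ := exists_normal_hs hv s1 s2
  have e : stabilizer Co0 v ⊓ stabilizer Co0 w = stabilizer Co0 v ⊓ stabilizer Co0 (v + w) := by
    ext k
    simp only [Subgroup.mem_inf, mem_stabilizer_iff]
    exact ⟨fun h => ⟨h.1, by rw [smul_vadd, h.1, h.2]⟩, fun h => ⟨h.1, add_left_cancel
      (a := v) (by rw [← h.2, smul_vadd, h.1])⟩⟩
  obtain ⟨f⟩ := smul_stabilizer_pair g1 g2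
  rw [e]
  exact ⟨@MulEquiv.isSimpleGroup _ _ _ _ isSimpleGroup_hs f,
    (Nat.card_congr f.toEquiv).trans natCard_hsGroup⟩

end Cfsg.Agent.Leech
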