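import Cfsg.Agent.Lib.Leech.McLRankFour
import Cfsg.Agent.Lib.Leech.Co3Simple
import Cfsg.Agent.Lib.Leech.HSSimple

/-!
# The stabiliser of a norm 48 vector on its 11178 minimal vectors of product 16

* `pts11178`, `dotClass`, `hs_trans_dot`, `ncard_hs_orbits`
-/

set_option autoImplicit false

open scoped Pointwise

namespace Cfsg.Agent.Leech

open MulAction

/-- Minimal vectors of product 16 with `baseF`. -/
def pts11178 : Set leechLattice :=
  {y | sqNorm (y : GolayPt → ℤ) = 32 ∧ dotInt (y : GolayPt → ℤ) (baseF : GolayPt → ℤ) = 16}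

theorem mclPts_sub {y : leechLattice} (hy : y ∈ mclPts) : y ∈ pts11178 := ⟨hy.1, hy.2.1⟩

theorem baseU'_mem_pts : baseU' ∈ pts11178 := mclPts_sub baseU'_mem_mclPts

theorem smul_mem_pts {g : Co0} (hg : g • baseF = baseF) {y : leechLattice} (hy : y ∈ pts11178) :
    g • y ∈ pts11178 :=
  ⟨by rw [sqNorm_smul]; exact hy.1, by rw [dotInt_smul_of_eq hg]; exact hy.2⟩

theorem co3_orbit11178 : {y | ∃ a ∈ co3Group, a • baseU' = y} = pts11178 := by
  ext y
  constructor
  · rintro ⟨a, ha, rfl⟩; exact smul_mem_pts (co3_fix ha) baseU'_mem_pts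
  · intro hy
    obtain ⟨g, g1, g2⟩ := exists_normal_hs sqNorm_baseF hy.1 (by rw [dotInt_comm]; exact hy.2)
    exact ⟨g⁻¹, mem_stabilizer_iff.2 (inv_smul_eq_iff.2 g1.symm), inv_smul_eq_iff.2 g2.symm⟩

theorem co3_inf_U' : co3Group ⊓ stabilizer Co0 baseU' = hsGroup := rfl

theorem ncard_pts11178 : pts11178.ncard = 11178 := by
  have h := ncard_orbit_mul co3Group baseU'
  rw [co3_orbit11178, co3_inf_U', natCard_hsGroup, natCard_co3Group] at h
  exact Nat.eq_of_mul_eq_mul_right (by norm_num : 0 < 44352000) (h.trans (by norm_num))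

theorem finite_pts11178 : pts11178.Finite :=
  Set.finite_of_ncard_ne_zero (by rw [ncard_pts11178]; norm_num)

theorem dotInt_fvD (y : GolayPt → ℤ) (k : GolayPt) :
    dotInt y (fvD k) = ∑ i, y i - 4 * y k := by
  simp only [dotInt, fvD]
  rw [Finset.sum_congr rfl (g := fun i => y i - if i = k then 4 * y k else 0) fun i _ => by
    split_ifs with h
    · subst h; ring
    · ring, Finset.sum_sub_distrib, Finset.sum_ite_eq', if_pos (Finset.mem_univ k)]

theorem dotInt_octVec_none (y : leechLattice) (h : (y : GolayPt → ℤ) none = 0)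
    (h2 : (y : GolayPt → ℤ) pO = 2) : dotInt (y : GolayPt → ℤ) (baseU' : GolayPt → ℤ) = -8 := by
  rw [dotInt_baseU', h, h2]; norm_num

/-- The special class of product `-8`. -/
def negClass : Set leechLattice :=
  {y | ∃ o, o ∈ octads ∧ (none ∉ o ∧ pO ∈ o) ∧ (y : GolayPt → ℤ) = octVec o ∅}

theorem negClass_sub {y : leechLattice} (hy : y ∈ negClass) : y ∈ pts11178 ∧
    dotInt (y : GolayPt → ℤ) (baseU' : GolayPt → ℤ) = -8 ∧
    dotInt (y : GolayPt → ℤ) (baseU : GolayPt → ℤ) = 8 := by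
  obtain ⟨o, ho, ⟨h1, h2⟩, he⟩ := hy
  refine ⟨⟨by rw [he]; exact sqNorm_octVec ho ∅, ?_⟩, ?_, ?_⟩
  · rw [he, dotInt_baseF, sum_octVec ho (Finset.empty_subset _)]; simp [octVec, h1]
  · rw [dotInt_baseU', he]; simp [octVec, h1, h2]
  · rw [dotInt_baseU, he]; simp [octVec, h1, h2]

theorem exists_notMem_three (a b c : GolayPt) : ∃ k, k ≠ a ∧ k ≠ b ∧ k ≠ c := by
  obtain ⟨k, hk⟩ : (({a, b, c} : Finset GolayPt)ᶜ).Nonempty := Finset.card_pos.1 (by
    have := Finset.card_le_three (a := a) (b := b) (c := c)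
    rw [Finset.card_compl, card_pt]; omega)
  simp only [Finset.mem_compl, Finset.mem_insert, Finset.mem_singleton, not_or] at hk
  exact ⟨k, hk⟩

theorem exists_one_avoiding {k : GolayPt} {c : Finset GolayPt} (h : c.card ≤ 20) (p : GolayPt) :
    ∃ j, j ≠ k ∧ j ≠ p ∧ j ≠ none ∧ oddVec k c j = 1 := by
  obtain ⟨j, hj⟩ : ((c ∪ {k, p, none})ᶜ).Nonempty := Finset.card_pos.1 (by
    have := Finset.card_union_le c {k, p, none}
    have := Finset.card_le_three (a := k) (b := p) (c := (none : GolayPt))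
    rw [Finset.card_compl, card_pt]; omega)
  simp only [Finset.mem_compl, Finset.mem_union, Finset.mem_insert, Finset.mem_singleton,
    not_or] at hj
  exact ⟨j, hj.2.1, hj.2.2.1, hj.2.2.2, by simp [oddVec, fvD, hj.1, hj.2.1]⟩

/-- Every point is in normal position or has a neighbour to be moved there. -/
theorem pts_shape {y : leechLattice} (hy : y ∈ pts11178) :
    y ∈ mclPts ∨ y ∈ negClass ∨ (((y : GolayPt → ℤ) none ≠ 0) ∧ ∃ k, k ≠ none ∧ k ≠ pO ∧
      ((dotInt (y : GolayPt → ℤ) (baseU' : GolayPt → ℤ) = -8 ∧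
          dotInt (y : GolayPt → ℤ) (fvD k) = 8) ∨
        (dotInt (y : GolayPt → ℤ) (baseU' : GolayPt → ℤ) ≠ -8 ∧
          dotInt (y : GolayPt → ℤ) (fvD k) = 0))) := by
  obtain ⟨hn, hF⟩ := hy
  have hU0 : (y : GolayPt → ℤ) none + (y : GolayPt → ℤ) pO = 0 → y ∈ mclPts := fun h =>
    ⟨hn, hF, by rw [dotInt_baseU, h]; norm_num⟩
  simp only [dotInt_baseU', dotInt_fvD]
  rw [dotInt_baseF] at hF
  rcases min_shape y.2 hn with hp | ⟨o, M, ho, hMo, -, he⟩ | hodd
  · obtain ⟨a, b, hab, ha, hb, hrest⟩ := hp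
    have hsum : ∑ i, (y : GolayPt → ℤ) i = (y : GolayPt → ℤ) a + (y : GolayPt → ℤ) b := by
      rw [← Finset.sum_pair hab]
      exact (Finset.sum_subset (Finset.subset_univ _) fun i _ hi => by
        simp only [Finset.mem_insert, Finset.mem_singleton, not_or] at hi
        exact hrest i hi.1 hi.2).symm
    rw [hsum] at hF ⊢
    have key : ∀ l : GolayPt, l ≠ none → (∀ i, i ≠ none → i ≠ l → (y : GolayPt → ℤ) i = 0) →
        (y : GolayPt → ℤ) none = 4 → (y : GolayPt → ℤ) l = -4 →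
        y ∈ mclPts ∨ ((y : GolayPt → ℤ) none = 4 ∧ ∃ k, k ≠ none ∧ k ≠ pO ∧
          (y : GolayPt → ℤ) pO = 0 ∧ (y : GolayPt → ℤ) k = 0) := by
      intro l hl hz h4 hm
      by_cases hlp : l = pO
      · exact Or.inl (hU0 (by rw [h4, ← hlp, hm]; norm_num))
      · obtain ⟨k, k1, k2, k3⟩ := exists_notMem_three none pO l
        exact Or.inr ⟨h4, k, k1, k2, hz _ none_ne_pO.symm (Ne.symm hlp), hz _ k1 k3⟩
    have fin : (y ∈ mclPts ∨ ((y : GolayPt → ℤ) none = 4 ∧ ∃ k, k ≠ none ∧ k ≠ pO ∧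
        (y : GolayPt → ℤ) pO = 0 ∧ (y : GolayPt → ℤ) k = 0)) := by
      by_cases ha' : a = none
      · subst ha'; exact key b (Ne.symm hab) (fun i h1 h2 => hrest i h1 h2) (by omega) (by omega)
      · by_cases hb' : b = none
        · subst hb'; exact key a hab (fun i h1 h2 => hrest i h2 h1) (by omega) (by omega)
        · have := hrest none (Ne.symm ha') (Ne.symm hb'); omega
    rcases fin with h | ⟨h0, k, k1, k2, h1, h2⟩
    · exact Or.inl h
    · refine Or.inr (Or.inr ⟨by omega, k, k1, k2, Or.inr ⟨?_, ?_⟩⟩)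
      · rw [h1]; omega
      · rw [h2]; omega
  · rw [he] at hF ⊢
    rw [sum_octVec ho hMo] at hF ⊢
    by_cases h1 : none ∈ o
    · have hnM : none ∉ M := fun h => by simp only [octVec, if_pos h1, if_pos h] at hF; omega
      simp only [octVec, if_pos h1, if_neg hnM] at hF
      have hc : M.card = 2 := by omega
      refine Or.inr (Or.inr ⟨by simp [octVec, h1, hnM], ?_⟩)
      obtain ⟨k, hk⟩ : (o \ (M ∪ {none, pO})).Nonempty := Finset.card_pos.1 (by
        have := Finset.le_card_sdiff (M ∪ {none, pO}) o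
        have := Finset.card_union_le M {none, pO}
        have := Finset.card_pair none_ne_pO
        have : o.card = 8 := ho.2
        omega)
      simp only [Finset.mem_sdiff, Finset.mem_union, Finset.mem_insert, Finset.mem_singleton,
        not_or] at hk
      refine ⟨k, hk.2.2.1, hk.2.2.2, Or.inr ⟨?_, ?_⟩⟩
      · simp only [octVec, if_pos h1, if_neg hnM]; split_ifs <;> omega
      · simp only [octVec, if_pos hk.1, if_neg hk.2.1]; omega
    · simp only [octVec, if_neg h1] at hF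
      have hc : M.card = 0 := by omega
      rw [Finset.card_eq_zero] at hc
      subst hc
      by_cases h2 : pO ∈ o
      · exact Or.inr (Or.inl ⟨o, ho, ⟨h1, h2⟩, he⟩)
      · exact Or.inl (hU0 (by rw [he]; simp [octVec, h1, h2]))
  · obtain ⟨k, c, hc, he⟩ := exists_oddVec hodd
    obtain ⟨w, hw, hsupp⟩ := id hc
    have hw8 := code_weight hw
    rw [hsupp] at hw8
    have hs := odd_sum ((oddVec_abs k c k).2 rfl)
      (fun i hi => by simp only [oddVec, fvD, if_neg hi]; split_ifs <;> simp)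
      (oddVec_res k c)
    rw [he] at hF ⊢
    rw [hs] at hF ⊢
    by_cases hk : k = none
    · subst hk
      have hkc : none ∈ c := by
        by_contra h
        simp only [oddVec, fvD, if_neg h, if_true] at hF
        omega
      simp only [oddVec, fvD, if_pos hkc, if_true] at hF
      obtain ⟨j, j1, j2, j3, hj⟩ := exists_one_avoiding (k := none) (c := c) (by omega) pO
      refine Or.inr (Or.inr ⟨by simp [oddVec, fvD, hkc], j, j3, j2, Or.inr ⟨?_, ?_⟩⟩)
      · simp only [oddVec, fvD, if_pos hkc, if_true, if_neg none_ne_pO.symm]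
        split_ifs <;> omega
      · rw [hj, if_pos hkc]; omega
    · have hnc : none ∉ c := by
        intro h
        simp only [oddVec, fvD, if_pos h, if_neg (Ne.symm hk)] at hF
        have : c.card ≠ 0 := fun e => by rw [Finset.card_eq_zero] at e; simp [e] at h
        split_ifs at hF <;> omega
      simp only [oddVec, fvD, if_neg hnc, if_neg (Ne.symm hk)] at hF
      have hkc : k ∈ c := by by_contra h; rw [if_neg h] at hF; omega
      rw [if_pos hkc] at hF
      rw [if_pos hkc]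
      refine Or.inr (Or.inr ⟨by simp [oddVec, fvD, hnc, Ne.symm hk], ?_⟩)
      by_cases hkp : k = pO
      · subst hkp
        obtain ⟨j, j1, j2, j3, hj⟩ := exists_one_avoiding (k := pO) (c := c) (by omega) pO
        refine ⟨j, j3, j2, Or.inl ⟨?_, ?_⟩⟩
        · simp [oddVec, fvD, hnc, hkc, none_ne_pO]
        · rw [hj]; omega
      · refine ⟨k, hk, hkp, Or.inr ⟨?_, ?_⟩⟩
        · simp only [oddVec, fvD, if_neg hnc, if_neg (Ne.symm hk), if_neg (Ne.symm hkp)]
          split_ifs <;> omega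
        · simp only [oddVec, fvD, if_pos hkc, if_true]; omega

theorem hsBase_fvD {k : GolayPt} (k1 : k ≠ none) (k2 : k ≠ pO) :
    (⟨fvD k, fvD_mem k⟩ : leechLattice) ∈ hsBase := by
  refine ⟨(fvD_mem552 k1).2.1, (fvD_mem552 k1).2.2, ?_⟩
  rw [dotInt_baseU']
  simp [fvD, Ne.symm k1, Ne.symm k2]

theorem stab3_le_hs : stab3 ≤ hsGroup := hsGroup_inf ▸ inf_le_left

/-- Every point is moved by `hsGroup` into normal position. -/
theorem exists_hs_normal {y : leechLattice} (hy : y ∈ pts11178) :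
    ∃ g ∈ hsGroup, g • y ∈ mclPts ∨ g • y ∈ negClass := by
  rcases pts_shape hy with h | h | ⟨-, k, k1, k2, hd⟩
  · exact ⟨1, one_mem _, Or.inl (by rwa [one_smul])⟩
  · exact ⟨1, one_mem _, Or.inr (by rwa [one_smul])⟩
  obtain ⟨a, ha, hae⟩ : (⟨fvD k, fvD_mem k⟩ : leechLattice) ∈
      {y | ∃ a ∈ hsGroup, a • baseU = y} := hsGroup_orbit.symm ▸ hsBase_fvD k1 k2
  have hg : a⁻¹ ∈ hsGroup := inv_mem ha
  refine ⟨a⁻¹, hg, ?_⟩
  have hP : a⁻¹ • y ∈ pts11178 := smul_mem_pts (hsGroup_fix hg).1 hy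
  have hU' : dotInt ((a⁻¹ • y : leechLattice) : GolayPt → ℤ) (baseU' : GolayPt → ℤ) =
      dotInt (y : GolayPt → ℤ) (baseU' : GolayPt → ℤ) := dotInt_smul_of_eq (hsGroup_fix hg).2 y
  have hU : dotInt ((a⁻¹ • y : leechLattice) : GolayPt → ℤ) (baseU : GolayPt → ℤ) =
      dotInt (y : GolayPt → ℤ) (fvD k) :=
    dotInt_smul_of_eq (inv_smul_eq_iff.2 hae.symm) y
  rcases hd with ⟨d1, d2⟩ | ⟨-, d2⟩
  · rw [d1] at hU'
    rw [d2] at hU
    rcases pts_shape hP with h | h | ⟨h, -⟩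
    · exact Or.inl h
    · exact Or.inr h
    · exfalso
      rw [dotInt_baseU'] at hU'
      rw [dotInt_baseU] at hU
      omega
  · exact Or.inl ⟨hP.1, hP.2, hU.trans d2⟩

theorem mclPts_dot {z : leechLattice} (hz : z ∈ mclPts) :
    dotInt (z : GolayPt → ℤ) (baseU' : GolayPt → ℤ) = 8 * (z : GolayPt → ℤ) none := by
  have h := hz.2.2
  rw [dotInt_baseU] at h
  rw [dotInt_baseU']
  omega

theorem negClass_trans {y z : leechLattice} (hy : y ∈ negClass) (hz : z ∈ negClass) :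
    ∃ g ∈ stab3, g • y = z := by
  obtain ⟨o, ho, ⟨o1, o2⟩, he⟩ := hy
  obtain ⟨o', ho', ⟨o1', o2'⟩, he'⟩ := hz
  obtain ⟨k, hk, k2⟩ := Finset.exists_mem_ne (show 1 < o.card by rw [ho.2]; norm_num) pO
  obtain ⟨k', hk', k2'⟩ := Finset.exists_mem_ne (show 1 < o'.card by rw [ho'.2]; norm_num) pO
  obtain ⟨σ, hσ, s2, -, s1, s⟩ := exists_map_octad_two_out ho ho' o2 hk (Ne.symm k2) o1
    o2' hk' (Ne.symm k2') o1'
  refine ⟨permEl σ hσ, permEl_mem_stab3 hσ s1 s2, Subtype.ext ?_⟩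
  rw [permEl_smul_octVecM hσ he, s, he', Finset.smul_finset_empty]

theorem stab3_trans_normal {y z : leechLattice} (hy : y ∈ mclPts ∨ y ∈ negClass)
    (hz : z ∈ mclPts ∨ z ∈ negClass)
    (h : dotInt (y : GolayPt → ℤ) (baseU' : GolayPt → ℤ) =
      dotInt (z : GolayPt → ℤ) (baseU' : GolayPt → ℤ)) : ∃ g ∈ stab3, g • y = z := by
  have hex : ∀ {w : leechLattice}, w ∈ mclPts →
      dotInt (w : GolayPt → ℤ) (baseU' : GolayPt → ℤ) = -8 → False := fun {w} hw hd => by
    obtain ⟨i, hi⟩ := mclPts_cases hw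
    rw [mclPts_dot hw, mclClass_none hi] at hd
    fin_cases i <;> simp at hd
  rcases hy with hy | hy <;> rcases hz with hz | hz
  · obtain ⟨i, hi⟩ := mclPts_cases hy
    obtain ⟨j, hj⟩ := mclPts_cases hz
    rw [mclPts_dot hy, mclPts_dot hz, mclClass_none hi, mclClass_none hj] at h
    have : i = j := by revert h; fin_cases i <;> fin_cases j <;> decide
    exact mcl_trans i hi (this.symm ▸ hj)
  · exact (hex hy (h.trans (negClass_sub hz).2.1)).elim
  · exact (hex hz (h.symm.trans (negClass_sub hy).2.1)).elim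
  · exact negClass_trans hy hz

/-- Points of equal product with `baseU'` are in one orbit of `hsGroup`. -/
theorem hs_trans_dot {y z : leechLattice} (hy : y ∈ pts11178) (hz : z ∈ pts11178)
    (h : dotInt (y : GolayPt → ℤ) (baseU' : GolayPt → ℤ) =
      dotInt (z : GolayPt → ℤ) (baseU' : GolayPt → ℤ)) : ∃ g ∈ hsGroup, g • y = z := by
  obtain ⟨a, ha, hay⟩ := exists_hs_normal hy
  obtain ⟨b, hb, hbz⟩ := exists_hs_normal hz
  obtain ⟨t, ht, he⟩ := stab3_trans_normal hay hbz (by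
    rw [dotInt_smul_of_eq (hsGroup_fix ha).2, dotInt_smul_of_eq (hsGroup_fix hb).2]; exact h)
  exact ⟨b⁻¹ * t * a, mul_mem (mul_mem (inv_mem hb) (stab3_le_hs ht)) ha, by
    rw [mul_smul, mul_smul, he, inv_smul_smul]⟩

theorem dot_values {y : leechLattice} (hy : y ∈ pts11178) :
    let d := dotInt (y : GolayPt → ℤ) (baseU' : GolayPt → ℤ)
    d = 32 ∨ d = -8 ∨ d = 0 ∨ d = 16 ∨ d = 8 := by
  intro d
  obtain ⟨a, ha, h | h⟩ := exists_hs_normal hy
  · obtain ⟨i, hi⟩ := mclPts_cases h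
    have e := mclPts_dot h
    rw [dotInt_smul_of_eq (hsGroup_fix ha).2, mclClass_none hi] at e
    fin_cases i <;> simp at e <;> omega
  · have e := (negClass_sub h).2.1
    rw [dotInt_smul_of_eq (hsGroup_fix ha).2] at e
    omega

/-- The class of a given product with `baseU'`. -/
def dotClass (d : ℤ) : Set leechLattice :=
  {y | y ∈ pts11178 ∧ dotInt (y : GolayPt → ℤ) (baseU' : GolayPt → ℤ) = d}

theorem hs_orbit_eq {y : leechLattice} {d : ℤ} (hy : y ∈ dotClass d) :
    MulAction.orbit hsGroup y = dotClass d := by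
  ext z
  constructor
  · rintro ⟨⟨g, hg⟩, rfl⟩
    exact ⟨smul_mem_pts (hsGroup_fix hg).1 hy.1,
      (dotInt_smul_of_eq (hsGroup_fix hg).2 y).trans hy.2⟩
  · rintro ⟨hz, hd⟩
    obtain ⟨g, hg, he⟩ := hs_trans_dot hy.1 hz (hy.2.trans hd.symm)
    exact ⟨⟨g, hg⟩, he⟩

/-- Double counting between an orbit and the hundred points. -/
theorem ncard_dotClass_mul {y : leechLattice} {d : ℤ} (hy : y ∈ dotClass d)
    (hn : y ∈ mclPts ∨ y ∈ negClass) :
    (dotClass d).ncard * {x : leechLattice | x ∈ hsBase ∧ dotInt (x : GolayPt → ℤ) (y : GolayPt → ℤ) =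
        dotInt (y : GolayPt → ℤ) (baseU : GolayPt → ℤ)}.ncard =
      100 * (MulAction.orbit stab3 y).ncard := by
  set e := dotInt (y : GolayPt → ℤ) (baseU : GolayPt → ℤ) with he
  set S := hsGroup ⊓ stabilizer Co0 y
  have h1 := ncard_orbit_mul hsGroup y
  have horb : {z | ∃ a ∈ hsGroup, a • y = z} = dotClass d := by
    rw [← hs_orbit_eq hy]
    exact Set.ext fun z => ⟨fun ⟨a, ha, h⟩ => ⟨⟨a, ha⟩, h⟩, fun ⟨⟨a, ha⟩, h⟩ => ⟨a, ha, h⟩⟩
  rw [horb] at h1
  have hSorb : {x | ∃ a ∈ S, a • baseU = x} =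
      {x : leechLattice | x ∈ hsBase ∧ dotInt (x : GolayPt → ℤ) (y : GolayPt → ℤ) = e} := by
    ext x
    constructor
    · rintro ⟨a, ha, rfl⟩
      refine ⟨hsGroup_orbit ▸ ⟨a, ha.1, rfl⟩, ?_⟩
      rw [dotInt_smul_of_eq (mem_stabilizer_iff.1 ha.2), dotInt_comm]
    · rintro ⟨hx, hxe⟩
      obtain ⟨a, ha, rfl⟩ : x ∈ {x | ∃ a ∈ hsGroup, a • baseU = x} := hsGroup_orbit.symm ▸ hx
      have hay : a⁻¹ • y ∈ pts11178 := smul_mem_pts (hsGroup_fix (inv_mem ha)).1 hy.1
      have hU' : dotInt ((a⁻¹ • y : leechLattice) : GolayPt → ℤ) (baseU' : GolayPt → ℤ) = d :=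
        (dotInt_smul_of_eq (hsGroup_fix (inv_mem ha)).2 y).trans hy.2
      have hU : dotInt ((a⁻¹ • y : leechLattice) : GolayPt → ℤ) (baseU : GolayPt → ℤ) = e := by
        rw [← hxe, dotInt_comm ((a • baseU : leechLattice) : GolayPt → ℤ)]
        exact dotInt_smul_of_eq (g := a⁻¹) (inv_smul_smul a baseU) y
      have hnorm : a⁻¹ • y ∈ mclPts ∨ a⁻¹ • y ∈ negClass := by
        rcases hn with hn | hn
        · exact Or.inl ⟨hay.1, hay.2, by rw [hU, he]; exact hn.2.2⟩
        · obtain ⟨-, n1, n2⟩ := negClass_sub hn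
          rcases pts_shape hay with h | h | ⟨h, -⟩
          · exact Or.inl h
          · exact Or.inr h
          · exfalso
            rw [dotInt_baseU, he, n2] at hU
            rw [dotInt_baseU', ← hy.2, n1] at hU'
            omega
      obtain ⟨t, ht, hte⟩ := stab3_trans_normal hn hnorm (hy.2.trans hU'.symm)
      refine ⟨a * t, ⟨mul_mem ha (stab3_le_hs ht), mem_stabilizer_iff.2 ?_⟩, ?_⟩
      · rw [mul_smul, hte, smul_inv_smul]
      · rw [mul_smul, (stab3_fix ht).2.1]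
  have h2 := ncard_orbit_mul S baseU
  rw [hSorb] at h2
  have h3 := ncard_orbit_mul stab3 y
  rw [show {z | ∃ a ∈ stab3, a • y = z} = MulAction.orbit stab3 y from
    Set.ext fun z => ⟨fun ⟨a, ha, h⟩ => ⟨⟨a, ha⟩, h⟩, fun ⟨⟨a, ha⟩, h⟩ => ⟨a, ha, h⟩⟩,
    natCard_stab3] at h3
  have e' : S ⊓ stabilizer Co0 baseU = stab3 ⊓ stabilizer Co0 y := by
    rw [inf_right_comm, hsGroup_inf]
  rw [e'] at h2
  rw [natCard_hsGroup, ← h2] at h1
  have hpos : 0 < Nat.card ↥(stab3 ⊓ stabilizer Co0 y) := Nat.card_pos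
  refine Nat.eq_of_mul_eq_mul_right hpos ?_
  rw [mul_assoc, h1, mul_assoc, h3]; norm_num

theorem ncard_hsBase_dot (y : GolayPt → ℤ) (e : ℤ) :
    {x : leechLattice | x ∈ hsBase ∧ dotInt (x : GolayPt → ℤ) y = e}.ncard =
      {j : GolayPt | j ≠ none ∧ (dotInt (fvA j : GolayPt → ℤ) (baseU' : GolayPt → ℤ) = 0 ∧
        dotInt (fvA j : GolayPt → ℤ) y = e)}.ncard +
      Golay.countSpan (fun m => Golay.popcount m == 8 && decide (none ∈ Golay.pts m ∧
        (dotInt (fvB (Golay.pts m)) (baseU' : GolayPt → ℤ) = 0 ∧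
          dotInt (fvB (Golay.pts m)) y = e))) Golay.rows 0 +
      Golay.countSpan (fun m => Golay.popcount m == 8 && decide (none ∈ Golay.pts m ∧
        (dotInt (fvC (Golay.pts m)) (baseU' : GolayPt → ℤ) = 0 ∧
          dotInt (fvC (Golay.pts m)) y = e))) Golay.rows 0 +
      {k : GolayPt | k ≠ none ∧ (dotInt (fvD k) (baseU' : GolayPt → ℤ) = 0 ∧
        dotInt (fvD k) y = e)}.ncard := by
  show {x : leechLattice | (sqNorm (x : GolayPt → ℤ) = 32 ∧ _ ∧ _) ∧ _}.ncard = _
  rw [ncard_subtype (fun x => (sqNorm x = 32 ∧ dotInt x (baseF : GolayPt → ℤ) = 24 ∧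
    dotInt x (baseU' : GolayPt → ℤ) = 0) ∧ dotInt x y = e)]
  rw [show {x | x ∈ leechLattice ∧ (sqNorm x = 32 ∧ dotInt x (baseF : GolayPt → ℤ) = 24 ∧
    dotInt x (baseU' : GolayPt → ℤ) = 0) ∧ dotInt x y = e} =
    {x | x ∈ set552 ∧ (dotInt x (baseU' : GolayPt → ℤ) = 0 ∧ dotInt x y = e)} by
      ext x; simp only [set552, Set.mem_ofPred_eq]; tauto, ncard552, ← ncard_octads_filter,
    ← ncard_octads_filter]
  simp only [decide_eq_true_eq, Golay.pts_maskOf]

/-- The four representatives. -/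
def repVec : Fin 4 → GolayPt → ℤ :=
  ![octVec (Golay.pts 0x149f) ∅, octVec (Golay.pts 0x800c75) {pO, pII},
    octVec (Golay.pts 0x293e) ∅, oddVec pI (Golay.pts 0x149f)]

theorem rep_octads : Golay.pts 0x149f ∈ octads ∧ Golay.pts 0x800c75 ∈ octads ∧
    Golay.pts 0x293e ∈ octads :=
  ⟨Golay.pts_mem_octads (by decide +kernel), Golay.pts_mem_octads (by decide +kernel),
    Golay.pts_mem_octads (by decide +kernel)⟩

theorem rep_mem (i : Fin 4) : repVec i ∈ leechLattice := by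
  obtain ⟨a, b, c⟩ := rep_octads
  fin_cases i
  · exact octVec_mem a (by simp)
  · exact octVec_mem b (by decide +kernel)
  · exact octVec_mem c (by simp)
  · exact oddVec_mem a.1

/-- The representatives as lattice vectors. -/
def rep (i : Fin 4) : leechLattice := ⟨repVec i, rep_mem i⟩

theorem rep_spec (i : Fin 4) : (rep i ∈ mclPts ∨ rep i ∈ negClass) ∧
    rep i ∈ dotClass (![-8, 16, 0, 8] i) := by
  obtain ⟨a, b, c⟩ := rep_octads
  have hneg : rep 0 ∈ negClass :=
    ⟨_, a, ⟨by decide +kernel, by decide +kernel⟩, rfl⟩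
  have hm : ∀ i : Fin 4, sqNorm (repVec i) = 32 ∧
      dotInt (repVec i) (baseF : GolayPt → ℤ) = 16 ∧
      dotInt (repVec i) (baseU' : GolayPt → ℤ) = ![-8, 16, 0, 8] i ∧
      (i ≠ 0 → dotInt (repVec i) (baseU : GolayPt → ℤ) = 0) := by decide +kernel
  obtain ⟨h1, h2, h3, h4⟩ := hm i
  refine ⟨?_, ⟨h1, h2⟩, h3⟩
  by_cases hi : i = 0
  · subst hi; exact Or.inr hneg
  · exact Or.inl ⟨h1, h2, h4 hi⟩

theorem ncard_negClass : negClass.ncard = 176 := by
  have h176 : {o : Finset GolayPt | o ∈ octads ∧ none ∉ o ∧ pO ∈ o}.ncard = 176 := by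
    simp only [mem_iff_testBit, Bool.not_eq_true, ← Bool.not_eq_true', ← Bool.and_eq_true]
    rw [ncard_octads_filter fun m => !m.testBit (Golay.idx none) && m.testBit (Golay.idx pO)]
    decide +kernel
  rw [← h176, ← Set.ncard_image_of_injective negClass Subtype.val_injective]
  refine (congrArg Set.ncard (?_ : _ = (fun o => octVec o ∅) ''
    {o : Finset GolayPt | o ∈ octads ∧ none ∉ o ∧ pO ∈ o})).trans (Set.InjOn.ncard_image ?_)
  · ext x
    constructor
    · rintro ⟨v, ⟨o, ho, hP, he⟩, rfl⟩; exact ⟨o, ⟨ho, hP⟩, he.symm⟩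
    · rintro ⟨o, ⟨ho, hP⟩, rfl⟩
      exact ⟨⟨octVec o ∅, octVec_mem ho (by simp)⟩, ⟨o, ho, hP, rfl⟩, rfl⟩
  · intro o _ o' _ h
    ext p
    have := congrFun h p
    simp only [octVec, Finset.notMem_empty, if_false] at this
    split_ifs at this with h1 h2 <;> simp_all

theorem stab3_orbit_rep (i : Fin 4) :
    (MulAction.orbit stab3 (rep i)).ncard = ![176, 462, 330, 1232] i := by
  by_cases hi : i = 0
  · subst hi
    have hneg : rep 0 ∈ negClass := by
      refine ((rep_spec 0).1).resolve_left fun h => ?_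
      have h2 := h.2.2
      have h3 : dotInt (repVec 0) (baseU : GolayPt → ℤ) = 8 := by decide +kernel
      rw [show ((rep 0 : leechLattice) : GolayPt → ℤ) = repVec 0 from rfl, h3] at h2
      omega
    have e : MulAction.orbit stab3 (rep 0) = negClass := by
      ext z
      refine ⟨?_, fun hz => ?_⟩
      · rintro ⟨⟨g, hg⟩, rfl⟩
        obtain ⟨σ, hσ, h1, h2, rfl⟩ := exists_perm_of_stab3 hg
        obtain ⟨o, ho, ⟨o1, o2⟩, he⟩ := hneg
        refine ⟨σ • o, Golay.smul_mem_octads hσ ho, ⟨?_, ?_⟩, ?_⟩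
        · rw [← h1, ← Equiv.Perm.smul_def, Finset.smul_mem_smul_finset_iff]; exact o1
        · rw [← h2, ← Equiv.Perm.smul_def]; exact Finset.smul_mem_smul_finset o2
        · show ((permEl σ hσ • rep 0 : leechLattice) : GolayPt → ℤ) = _
          rw [permEl_smul_octVecM hσ he, Finset.smul_finset_empty]
      · obtain ⟨g, hg, he⟩ := negClass_trans hneg hz
        exact ⟨⟨g, hg⟩, he⟩
    rw [e, ncard_negClass]; rfl
  · obtain ⟨h1, -⟩ := rep_spec i
    have hm : rep i ∈ mclPts := by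
      refine h1.resolve_right fun h => ?_
      have h2 := (negClass_sub h).2.2
      have h3 : ∀ j : Fin 4, j ≠ 0 → dotInt (repVec j) (baseU : GolayPt → ℤ) = 0 := by decide +kernel
      rw [show ((rep i : leechLattice) : GolayPt → ℤ) = repVec i from rfl, h3 i hi] at h2
      omega
    obtain ⟨j, hj⟩ := mclPts_cases hm
    rw [stab3_orbit hm hj, ncard_mclClass]
    have hn : ∀ i : Fin 4, repVec i none = ![0, 2, 0, 1] i := by decide +kernel
    have h4 := mclClass_none hj
    rw [show (rep i : GolayPt → ℤ) = repVec i from rfl, hn] at h4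
    revert hi h4
    fin_cases i <;> fin_cases j <;> decide

theorem ncard_rep_count (i : Fin 4) :
    {x : leechLattice | x ∈ hsBase ∧ dotInt (x : GolayPt → ℤ) (repVec i) =
      ![8, 0, 0, 0] i}.ncard = ![50, 42, 8, 22] i := by
  rw [ncard_hsBase_dot, Set.ncard_eq_toFinset_card', Set.ncard_eq_toFinset_card']
  revert i
  decide +kernel

/-- The suborbits. -/
theorem ncard_hs_orbits (i : Fin 4) :
    (MulAction.orbit hsGroup (rep i)).ncard = ![352, 1100, 4125, 5600] i := by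
  obtain ⟨hn, hd⟩ := rep_spec i
  have h := ncard_dotClass_mul hd hn
  rw [stab3_orbit_rep] at h
  have he : ∀ i : Fin 4, dotInt (repVec i) (baseU : GolayPt → ℤ) = ![8, 0, 0, 0] i := by
    decide +kernel
  rw [show ((rep i : leechLattice) : GolayPt → ℤ) = repVec i from rfl, he, ncard_rep_count] at h
  rw [hs_orbit_eq hd]
  fin_cases i <;> simp at h ⊢ <;> omega

theorem eq_of_dot_max {y : leechLattice} (hy : y ∈ dotClass 32) : y = baseU' := by
  refine Subtype.ext (sub_eq_zero.1 (sqNorm_eq_zero.1 ?_))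
  rw [sqNorm_sub, hy.1.1, sqNorm_baseU', hy.2]; norm_num

theorem pts11178_decomp : pts11178 = {baseU'} ∪ MulAction.orbit hsGroup (rep 0) ∪
    MulAction.orbit hsGroup (rep 1) ∪ MulAction.orbit hsGroup (rep 2) ∪
    MulAction.orbit hsGroup (rep 3) := by
  rw [hs_orbit_eq (rep_spec 0).2, hs_orbit_eq (rep_spec 1).2, hs_orbit_eq (rep_spec 2).2,
    hs_orbit_eq (rep_spec 3).2]
  ext y
  simp only [Set.mem_union, Set.mem_singleton_iff]
  constructor
  · intro hy
    rcases dot_values hy with h | h | h | h | h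
    · exact Or.inl (Or.inl (Or.inl (Or.inl (eq_of_dot_max ⟨hy, h⟩))))
    · exact Or.inl (Or.inl (Or.inl (Or.inr ⟨hy, h⟩)))
    · exact Or.inl (Or.inr ⟨hy, h⟩)
    · exact Or.inl (Or.inl (Or.inr ⟨hy, h⟩))
    · exact Or.inr ⟨hy, h⟩
  · rintro ((((rfl | h) | h) | h) | h)
    · exact baseU'_mem_pts
    all_goals exact h.1

end Cfsg.Agent.Leech
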