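import Cfsg.Agent.EqLemmas

/-!
# Counting tuples of integers with given weight sum and given sum modulo four

`card_filter_piFinset` : the number of tuples `a` with `a i` in a list `C i`, `∑ q (a i) = K` and `∑ a i = s (mod 4)`
is the entry `lk (tbl ...) K s` of a table computed by dynamic programming, for any list presenting the
same multiset of candidate lists.
-/

set_option autoImplicit false

namespace Cfsg.Agent.Leech

/-- Table lookup. -/
def lk (T : List (List ℕ)) (S s : ℕ) : ℕ := (T.getD S []).getD s 0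

/-- One step of the dynamic programme. -/
def dpStep (q : ℤ → ℕ) (K : ℕ) (C : List ℤ) (T : List (List ℕ)) : List (List ℕ) :=
  (List.range (K + 1)).map fun S => (List.range 4).map fun s : ℕ =>
    (C.map fun v => if q v ≤ S then lk T (S - q v) ((((s : ℤ) - v) % 4).toNat) else 0).sum

/-- The table for the empty tuple. -/
def dpInit (K : ℕ) : List (List ℕ) :=
  (List.range (K + 1)).map fun S => (List.range 4).map fun s => if S = 0 ∧ s = 0 then 1 else 0

/-- The table for a list of candidate lists. -/
def dpTable (q : ℤ → ℕ) (K : ℕ) (L : List (List ℤ)) : List (List ℕ) :=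
  L.foldr (dpStep q K) (dpInit K)

theorem lk_map_range (f : ℕ → ℕ → ℕ) {K S s : ℕ} (hS : S ≤ K) (hs : s < 4) :
    lk ((List.range (K + 1)).map fun a => (List.range 4).map fun b => f a b) S s = f S s := by
  have h1 : S < K + 1 := by omega
  simp [lk, List.getD_eq_getElem?_getD, h1, hs]

/-- The generating element of one candidate value. -/
def dpKey (q : ℤ → ℕ) (v : ℤ) : ℤ × ZMod 4 := ((q v : ℤ), (v : ZMod 4))

/-- The generating function of a candidate list. -/
noncomputable def dpGen (q : ℤ → ℕ) (C : List ℤ) : AddMonoidAlgebra ℕ (ℤ × ZMod 4) :=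
  (C.map fun v => AddMonoidAlgebra.single (dpKey q v) 1).sum

theorem dpGen_mul_apply (q : ℤ → ℕ) (C : List ℤ) (p : AddMonoidAlgebra ℕ (ℤ × ZMod 4))
    (t : ℤ × ZMod 4) : (dpGen q C * p).coeff t = (C.map fun v => p.coeff (t - dpKey q v)).sum := by
  induction C with
  | nil => simp [dpGen]
  | cons v C ih =>
    simp only [dpGen, List.map_cons, List.sum_cons, add_mul] at ih ⊢
    rw [AddMonoidAlgebra.coeff_add, Finsupp.add_apply, ih, AddMonoidAlgebra.coeff_single_mul_apply, one_mul,
      neg_add_eq_sub]

theorem prod_dpGen_apply (q : ℤ → ℕ) (K : ℕ) (L : List (List ℤ)) :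
    (∀ S : ℤ, S < 0 → ∀ u : ZMod 4, (L.map (dpGen q)).prod.coeff (S, u) = 0) ∧
    ∀ S s : ℕ, S ≤ K → s < 4 →
      (L.map (dpGen q)).prod.coeff ((S : ℤ), (s : ZMod 4)) = lk (dpTable q K L) S s := by
  induction L with
  | nil =>
    refine ⟨fun S hS u => ?_, fun S s hS hs => ?_⟩
    · rw [List.map_nil, List.prod_nil, AddMonoidAlgebra.one_def, AddMonoidAlgebra.coeff_single, Finsupp.single_apply,
        if_neg]
      intro h; rw [Prod.ext_iff] at h; simp at h; omega
    · rw [List.map_nil, List.prod_nil, AddMonoidAlgebra.one_def, AddMonoidAlgebra.coeff_single, Finsupp.single_apply]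
      simp only [dpTable, List.foldr_nil, dpInit, lk_map_range _ hS hs]
      by_cases h : S = 0 ∧ s = 0
      · rw [if_pos h, if_pos (Prod.ext (by simp [h.1]) (by simp [h.2]))]
      · rw [if_neg h, if_neg]
        intro e
        rw [Prod.ext_iff] at e
        simp only [Prod.fst_zero, Prod.snd_zero] at e
        obtain ⟨e1, e2⟩ := e
        have : ((0 : ℕ) : ZMod 4) = (s : ZMod 4) := by simpa using e2
        rw [ZMod.natCast_eq_natCast_iff'] at this
        omega
  | cons C L ih =>
    refine ⟨fun S hS u => ?_, fun S s hS hs => ?_⟩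
    · rw [List.map_cons, List.prod_cons, dpGen_mul_apply]
      refine List.sum_eq_zero fun n hn => ?_
      obtain ⟨v, -, rfl⟩ := List.mem_map.1 hn
      exact ih.1 _ (by simp only [dpKey]; omega) _
    · rw [List.map_cons, List.prod_cons, dpGen_mul_apply]
      simp only [dpTable, List.foldr_cons, dpStep]
      rw [lk_map_range _ hS hs]
      refine congrArg List.sum (List.map_congr_left fun v _ => ?_)
      split_ifs with h
      · have he : ((S : ℤ), (s : ZMod 4)) - dpKey q v
            = (((S - q v : ℕ) : ℤ), (((((s : ℤ) - v) % 4).toNat : ℕ) : ZMod 4)) := by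
          refine Prod.ext (by simp only [dpKey, Prod.fst_sub]; omega) ?_
          simp only [dpKey, Prod.snd_sub]
          rw [← Int.cast_natCast (R := ZMod 4) (((s : ℤ) - v) % 4).toNat,
            Int.toNat_of_nonneg (Int.emod_nonneg _ (by norm_num)), ← Int.cast_natCast (R := ZMod 4) s,
            ← Int.cast_sub]
          exact_mod_cast ((ZMod.intCast_mod ((s : ℤ) - v) 4).symm)
        rw [he]
        exact ih.2 _ _ (by omega) (by omega)
      · exact ih.1 _ (by simp only [dpKey]; omega) _

/-- The counting theorem. -/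
theorem card_filter_piFinset {ι : Type*} [Fintype ι] [DecidableEq ι] (q : ℤ → ℕ) (K s : ℕ)
    (hs : s < 4) (C : ι → List ℤ) (hC : ∀ i, (C i).Nodup) (L : List (List ℤ))
    (hL : (L.map (dpGen q)).prod = ∏ i, dpGen q (C i)) :
    ((Fintype.piFinset fun i => (C i).toFinset).filter
      (fun a => ∑ i, q (a i) = K ∧ ∑ i, (a i : ZMod 4) = (s : ZMod 4))).card
      = lk (dpTable q K L) K s := by
  rw [← (prod_dpGen_apply q K L).2 K s le_rfl hs, hL]
  have hg : ∀ i, dpGen q (C i) = ∑ v ∈ (C i).toFinset, AddMonoidAlgebra.single (dpKey q v) 1 :=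
    fun i => (List.sum_toFinset _ (hC i)).symm
  simp only [hg]
  rw [Finset.prod_univ_sum, AddMonoidAlgebra.coeff_sum, Finsupp.finsetSum_apply, Finset.card_filter]
  refine Finset.sum_congr rfl fun a _ => ?_
  rw [AddMonoidAlgebra.prod_single, Finset.prod_const_one, AddMonoidAlgebra.coeff_single, Finsupp.single_apply]
  refine if_congr ?_ rfl rfl
  simp only [Prod.ext_iff, Prod.fst_sum, Prod.snd_sum, dpKey, ← Nat.cast_sum, Nat.cast_inj]

end Cfsg.Agent.Leech
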