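import Cfsg.Agent.Lib.Leech.Even
import Cfsg.Agent.Lib.Leech.CountDP

/-!
# Counting lattice vectors of norm at most 64

`shellSet N P` is the set of lattice vectors with `sqNorm = N` and all coordinates in the list `P`;
`ncard_shellSet` computes its cardinality (`leechCount N P`, a closed term for `decide +kernel`).
`finite_shell`, `shellSet_full`.
-/

set_option autoImplicit false

namespace Cfsg.Agent.Leech

/-- Lattice vectors of given norm with coordinates in a list. -/
def shellSet (N : ℕ) (P : List ℤ) : Set (GolayPt → ℤ) :=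
  {x | x ∈ leechLattice ∧ sqNorm x = N ∧ ∀ i, x i ∈ P}

/-- Candidates for `a` where `x = m + 2a`, with the parity of `a` prescribed. -/
def cand (P : List ℤ) (m : ℕ) (b : ZMod 2) : List ℤ :=
  ([-4, -3, -2, -1, 0, 1, 2, 3, 4] : List ℤ).filter
    fun a => decide ((m : ℤ) + 2 * a ∈ P) && decide ((a : ZMod 2) = b)

theorem cand_nodup (P : List ℤ) (m : ℕ) (b : ZMod 2) : (cand P m b).Nodup :=
  List.Nodup.filter _ (by decide)

/-- The norm contribution of `a` in parity `m`. -/
def qFun (m : ℕ) (a : ℤ) : ℕ := if m = 0 then (a * a).toNat else ((a * a + a) / 2).toNat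

/-- The norm target in parity `m`. -/
def qTarget (N m : ℕ) : ℕ := if m = 0 then N / 4 else (N - 24) / 8

/-- The count of one parity class over one code word of weight `w`. -/
def classCount (N : ℕ) (P : List ℤ) (m w : ℕ) : ℕ :=
  lk (dpTable (qFun m) (qTarget N m)
    (List.replicate w (cand P m 1) ++ List.replicate (24 - w) (cand P m 0))) (qTarget N m) (2 * m)

/-- The number of vectors in `shellSet N P`. -/
def leechCount (N : ℕ) (P : List ℤ) : ℕ :=
  ((List.range 2).map fun m =>
    classCount N P m 0 + 759 * classCount N P m 8 + 2576 * classCount N P m 12 +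
      759 * classCount N P m 16 + classCount N P m 24).sum

theorem zmod2_eq_one {p : ZMod 2} : p ≠ 0 ↔ p = 1 := by revert p; decide

theorem zmod2_cases : ∀ p : ZMod 2, p = 0 ∨ p = 1 := by decide

/-- The solutions over one parity and one word. -/
def wordSols (N : ℕ) (P : List ℤ) (m : ℕ) (w : GolayPt → ZMod 2) : Finset (GolayPt → ℤ) :=
  (Fintype.piFinset fun i => (cand P m (w i)).toFinset).filter
    (fun a => ∑ i, qFun m (a i) = qTarget N m ∧
      ∑ i, (a i : ZMod 4) = ((2 * m : ℕ) : ZMod 4))

theorem card_wordSols (N : ℕ) (P : List ℤ) {m : ℕ} (hm : m < 2) (w : GolayPt → ZMod 2) :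
    (wordSols N P m w).card = classCount N P m (support₂ w).card := by
  refine card_filter_piFinset (qFun m) (qTarget N m) (2 * m) (by omega) _
    (fun i => cand_nodup P m _) _ ?_
  rw [List.map_append, List.prod_append, List.map_replicate, List.map_replicate,
    List.prod_replicate, List.prod_replicate]
  rw [← Finset.prod_filter_mul_prod_filter_not Finset.univ (fun i => w i ≠ 0)
    (fun i => dpGen (qFun m) (cand P m (w i)))]
  have h1 : ∀ i ∈ Finset.univ.filter (fun i => w i ≠ 0),
      dpGen (qFun m) (cand P m (w i)) = dpGen (qFun m) (cand P m 1) :=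
    fun i hi => by rw [zmod2_eq_one.1 (Finset.mem_filter.1 hi).2]
  have h0 : ∀ i ∈ Finset.univ.filter (fun i => ¬ w i ≠ 0),
      dpGen (qFun m) (cand P m (w i)) = dpGen (qFun m) (cand P m 0) :=
    fun i hi => by rw [not_not.1 (Finset.mem_filter.1 hi).2]
  rw [Finset.prod_congr rfl h1, Finset.prod_congr rfl h0, Finset.prod_const, Finset.prod_const]
  have hc := Finset.card_filter_add_card_filter_not (s := (Finset.univ : Finset GolayPt))
    (fun i => w i ≠ 0)
  rw [Finset.card_univ, card_pt] at hc
  unfold support₂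
  congr 2
  omega

open Classical in
/-- All solutions over one parity. -/
noncomputable def paritySols (N : ℕ) (P : List ℤ) (m : ℕ) : Finset (GolayPt → ℤ) :=
  (Finset.univ.filter fun w => w ∈ golayCode).biUnion (wordSols N P m)

theorem mem_wordSols_mod2 {N : ℕ} {P : List ℤ} {m : ℕ} {w : GolayPt → ZMod 2} {a : GolayPt → ℤ}
    (h : a ∈ wordSols N P m w) : mod2 a = w := by
  rw [wordSols, Finset.mem_filter, Fintype.mem_piFinset] at h
  funext i
  have := h.1 i
  rw [List.mem_toFinset, cand, List.mem_filter] at this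
  simpa [mod2] using (Bool.and_eq_true_iff.1 this.2).2

theorem sum_code_weight (f : ℕ → ℕ) [DecidablePred fun w : GolayPt → ZMod 2 => w ∈ golayCode] :
    ∑ w ∈ Finset.univ.filter (fun w : GolayPt → ZMod 2 => w ∈ golayCode), f (support₂ w).card
      = f 0 + 759 * f 8 + 2576 * f 12 + 759 * f 16 + f 24 := by
  classical
  set s := Finset.univ.filter (fun w : GolayPt → ZMod 2 => w ∈ golayCode)
  have hmaps : ∀ w ∈ s, (support₂ w).card ∈ ({0, 8, 12, 16, 24} : Finset ℕ) := by
    intro w hw
    rcases code_weight (Finset.mem_filter.1 hw).2 with h | h | h | h | h <;> simp [h]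
  rw [← Finset.sum_fiberwise_of_maps_to hmaps]
  have hn : ∀ n, (s.filter fun w => (support₂ w).card = n).card =
      Golay.countSpan (fun k => Golay.popcount k == n) Golay.rows 0 := by
    intro n
    rw [← Golay.ncard_wordsOfWeight, ← Set.ncard_coe_finset]
    refine Set.ncard_congr (fun w _ => support₂ w) (fun w hw => ?_) (fun v w hv hw h => ?_) ?_
    · simp only [s, Finset.coe_filter, Finset.mem_filter, Finset.mem_univ, true_and,
        Set.mem_ofPred_eq] at hw
      exact ⟨⟨w, hw.1, rfl⟩, hw.2⟩
    · funext i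
      have hi := Finset.ext_iff.1 h i
      simp only [support₂, Finset.mem_filter, Finset.mem_univ, true_and] at hi
      exact zmod2_ext _ _ hi
    · rintro b ⟨⟨w, hw, rfl⟩, hb⟩
      exact ⟨w, by simpa [s] using And.intro hw hb, rfl⟩
  have hf : ∀ n, ∑ w ∈ s.filter (fun w => (support₂ w).card = n), f (support₂ w).card
      = (s.filter fun w => (support₂ w).card = n).card * f n := by
    intro n
    rw [Finset.sum_congr rfl (g := fun _ => f n) fun w hw => by rw [(Finset.mem_filter.1 hw).2],
      Finset.sum_const, smul_eq_mul]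
  simp only [hf, hn]
  rw [Finset.sum_insert (by decide), Finset.sum_insert (by decide), Finset.sum_insert (by decide),
    Finset.sum_insert (by decide), Finset.sum_singleton]
  rw [show Golay.countSpan (fun k => Golay.popcount k == 0) Golay.rows 0 = 1 by decide +kernel,
    show Golay.countSpan (fun k => Golay.popcount k == 8) Golay.rows 0 = 759 by decide +kernel,
    show Golay.countSpan (fun k => Golay.popcount k == 12) Golay.rows 0 = 2576 by decide +kernel,
    show Golay.countSpan (fun k => Golay.popcount k == 16) Golay.rows 0 = 759 by decide +kernel,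
    show Golay.countSpan (fun k => Golay.popcount k == 24) Golay.rows 0 = 1 by decide +kernel]
  ring

theorem card_paritySols (N : ℕ) (P : List ℤ) {m : ℕ} (hm : m < 2) :
    (paritySols N P m).card = classCount N P m 0 + 759 * classCount N P m 8 +
      2576 * classCount N P m 12 + 759 * classCount N P m 16 + classCount N P m 24 := by
  classical
  rw [paritySols, Finset.card_biUnion]
  · simp only [card_wordSols N P hm]
    exact sum_code_weight (classCount N P m)
  · intro v _ w _ hvw
    exact Finset.disjoint_left.2 fun a ha hb =>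
      hvw (by rw [← mem_wordSols_mod2 ha, mem_wordSols_mod2 hb])

/-- The vector `m + 2a`. -/
def affMap (m : ℕ) (a : GolayPt → ℤ) : GolayPt → ℤ := fun i => (m : ℤ) + 2 * a i

theorem qSum_iff {N m : ℕ} (hm : m < 2) (hN : 8 ∣ N) (hN24 : 24 ≤ N) (a : GolayPt → ℤ) :
    ∑ i, qFun m (a i) = qTarget N m ↔ sqNorm (affMap m a) = N := by
  rw [← Int.natCast_inj, Nat.cast_sum]
  interval_cases m
  · have h : sqNorm (affMap 0 a) = 4 * ∑ i, (qFun 0 (a i) : ℤ) := by
      rw [sqNorm, Finset.mul_sum]
      refine Finset.sum_congr rfl fun i _ => ?_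
      rw [qFun, if_pos rfl, Int.toNat_of_nonneg (mul_self_nonneg _)]
      simp only [affMap]; push_cast; ring
    rw [h, qTarget, if_pos rfl]; omega
  · have h : sqNorm (affMap 1 a) = 24 + 8 * ∑ i, (qFun 1 (a i) : ℤ) := by
      rw [sqNorm, Finset.mul_sum, show (24 : ℤ) = ∑ _i : GolayPt, 1 by simp,
        ← Finset.sum_add_distrib]
      refine Finset.sum_congr rfl fun i _ => ?_
      rw [qFun, if_neg one_ne_zero]
      have he : (2 : ℤ) ∣ a i * a i + a i := by
        rw [show a i * a i + a i = a i * (a i + 1) by ring]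
        exact (Int.even_mul_succ_self _).two_dvd
      obtain ⟨k, hk⟩ := he
      rw [hk, Int.mul_ediv_cancel_left k two_ne_zero,
        Int.toNat_of_nonneg (by nlinarith [mul_self_nonneg (2 * a i + 1)])]
      simp only [affMap]; push_cast; linear_combination 4 * hk
    rw [h, qTarget, if_neg one_ne_zero]; omega

theorem sum_iff {m : ℕ} (a : GolayPt → ℤ) :
    ∑ i, (a i : ZMod 4) = ((2 * m : ℕ) : ZMod 4) ↔ ∑ i, a i ≡ 2 * (m : ℤ) [ZMOD 4] := by
  rw [← Int.cast_sum, ← Int.cast_natCast (R := ZMod 4) (2 * m), ZMod.intCast_eq_intCast_iff]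
  push_cast
  rfl

theorem coord_bound {N : ℕ} (hN : N ≤ 64) {x : GolayPt → ℤ} (hx : sqNorm x = N) (i : GolayPt) :
    -8 ≤ x i ∧ x i ≤ 8 := by
  have h : x i ^ 2 ≤ 8 ^ 2 := (sq_le_sqNorm x i).trans (by rw [hx]; omega)
  exact abs_le.1 (abs_le_of_sq_le_sq h (by norm_num))

theorem shellSet_eq {N : ℕ} (hN : 8 ∣ N) (hN24 : 24 ≤ N) (hN64 : N ≤ 64) (P : List ℤ) :
    shellSet N P = ↑((paritySols N P 0).image (affMap 0) ∪ (paritySols N P 1).image (affMap 1)) := by
  classical
  ext x
  constructor
  · rintro ⟨hx, hn, hP⟩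
    obtain ⟨m, a, hm, h1, h2, h3⟩ := exists_rep hx
    obtain ⟨m', hm', rfl⟩ : ∃ m' : ℕ, m' < 2 ∧ m = m' := by
      rcases hm with rfl | rfl
      · exact ⟨0, by norm_num, by simp⟩
      · exact ⟨1, by norm_num, by simp⟩
    have hxa : affMap m' a = x := funext fun i => (h1 i).symm
    have hmem : a ∈ paritySols N P m' := by
      refine Finset.mem_biUnion.2 ⟨mod2 a, by simpa using h3, ?_⟩
      refine Finset.mem_filter.2 ⟨Fintype.mem_piFinset.2 fun i => ?_,
        (qSum_iff hm' hN hN24 a).2 (hxa ▸ hn), (sum_iff a).2 h2⟩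
      rw [List.mem_toFinset, cand, List.mem_filter]
      refine ⟨?_, ?_⟩
      · have := coord_bound hN64 hn i
        have := h1 i
        have : -4 ≤ a i ∧ a i ≤ 4 := by omega
        simp only [List.mem_cons, List.not_mem_nil, or_false]
        omega
      · simp only [Bool.and_eq_true, decide_eq_true_eq]
        exact ⟨h1 i ▸ hP i, rfl⟩
    interval_cases m'
    · exact Finset.mem_coe.2 (Finset.mem_union_left _ (Finset.mem_image.2 ⟨a, hmem, hxa⟩))
    · exact Finset.mem_coe.2 (Finset.mem_union_right _ (Finset.mem_image.2 ⟨a, hmem, hxa⟩))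
  · intro hx
    have key : ∀ m < 2, ∀ a ∈ paritySols N P m, affMap m a ∈ shellSet N P := by
      intro m hm a ha
      obtain ⟨w, hw, ha⟩ := Finset.mem_biUnion.1 ha
      have hw' := mem_wordSols_mod2 ha
      rw [wordSols, Finset.mem_filter, Fintype.mem_piFinset] at ha
      refine ⟨mem_iff.2 ⟨m, a, fun i => rfl, (sum_iff a).1 ha.2.2,
        hw' ▸ (Finset.mem_filter.1 hw).2⟩, (qSum_iff hm hN hN24 a).1 ha.2.1, fun i => ?_⟩
      have := ha.1 i
      rw [List.mem_toFinset, cand, List.mem_filter, Bool.and_eq_true, decide_eq_true_eq] at this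
      exact this.2.1
    rw [Finset.mem_coe, Finset.mem_union, Finset.mem_image, Finset.mem_image] at hx
    rcases hx with ⟨a, ha, rfl⟩ | ⟨a, ha, rfl⟩
    · exact key 0 (by norm_num) a ha
    · exact key 1 (by norm_num) a ha

theorem finite_shellSet {N : ℕ} (hN : 8 ∣ N) (hN24 : 24 ≤ N) (hN64 : N ≤ 64) (P : List ℤ) :
    (shellSet N P).Finite := by
  rw [shellSet_eq hN hN24 hN64 P]; exact Finset.finite_toSet _

theorem ncard_shellSet {N : ℕ} (hN : 8 ∣ N) (hN24 : 24 ≤ N) (hN64 : N ≤ 64) (P : List ℤ) :
    (shellSet N P).ncard = leechCount N P := by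
  classical
  rw [shellSet_eq hN hN24 hN64 P, Set.ncard_coe_finset, Finset.card_union_of_disjoint]
  · have hinj : ∀ m, Function.Injective (affMap m) := fun m a b h => funext fun i => by
      have := congrFun h i; simp only [affMap] at this; omega
    rw [Finset.card_image_of_injective _ (hinj 0), Finset.card_image_of_injective _ (hinj 1),
      card_paritySols N P (by norm_num), card_paritySols N P (by norm_num)]
    simp [leechCount, List.range_succ]
  · refine Finset.disjoint_left.2 fun x hx hy => ?_
    obtain ⟨a, -, rfl⟩ := Finset.mem_image.1 hx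
    obtain ⟨b, -, hb⟩ := Finset.mem_image.1 hy
    have := congrFun hb none
    simp only [affMap] at this
    omega

/-- All values a coordinate can take up to norm 64. -/
def allVals : List ℤ :=
  [-8, -7, -6, -5, -4, -3, -2, -1, 0, 1, 2, 3, 4, 5, 6, 7, 8]

theorem mem_allVals {N : ℕ} (hN : N ≤ 64) {x : GolayPt → ℤ} (hx : sqNorm x = N) (i : GolayPt) :
    x i ∈ allVals := by
  have := coord_bound hN hx i
  simp only [allVals, List.mem_cons, List.not_mem_nil, or_false]
  omega

theorem shellSet_full {N : ℕ} (hN : N ≤ 64) :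
    shellSet N allVals = {x | x ∈ leechLattice ∧ sqNorm x = N} := by
  ext x
  exact ⟨fun h => ⟨h.1, h.2.1⟩, fun h => ⟨h.1, h.2, mem_allVals hN h.2⟩⟩

end Cfsg.Agent.Leech
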