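import Cfsg.Agent.Lib.Leech.Recognition
import Cfsg.Agent.Lib.Leech.Co0Center
import Cfsg.Agent.Lib.Golay.M24

/-!
# Transitivity of `Co0` on crosses (modulo uniqueness of the code)

* `exists_frame` : 24 pairwise orthogonal vectors representing a cross
* `exists_to_stdCross` : some element of `Co0` maps a cross to the standard one
* `exists_normalise` : up to three orthogonal congruent norm 64 vectors can be sent to prescribed `8 eᵢ`
-/

set_option autoImplicit false

namespace Cfsg.Agent.Leech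

theorem mem_crossFinset {x y : GolayPt → ℤ} (hx : x ∈ leechLattice) :
    y ∈ crossFinset x ↔ y ∈ leechLattice ∧ sqNorm y = 64 ∧ Congr y x := by
  classical
  rw [crossFinset, Finset.mem_filter, mem_shell]
  exact ⟨fun h => ⟨h.1.1, h.1.2, (classOf_eq_iff h.1.1 hx).1 h.2⟩,
    fun h => ⟨⟨h.1, h.2.1⟩, (classOf_eq_iff h.1 hx).2 h.2.2⟩⟩

theorem exists_frame {x : GolayPt → ℤ} (hx : x ∈ leechLattice) (hxn : sqNorm x = 64) :
    ∃ y : GolayPt → GolayPt → ℤ, (∀ p, y p ∈ leechLattice ∧ sqNorm (y p) = 64 ∧ Congr (y p) x) ∧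
      ∀ p q, p ≠ q → dotInt (y p) (y q) = 0 := by
  classical
  let F := crossFinset x
  let rep : (GolayPt → ℤ) → Finset (GolayPt → ℤ) := fun y => {y, -y}
  have hF : ∀ y ∈ F, y ∈ leechLattice ∧ sqNorm y = 64 ∧ Congr y x := fun y hy =>
    (mem_crossFinset hx).1 hy
  have h1 : F.card ≤ 2 * (F.image rep).card := by
    refine Finset.card_le_mul_card_image F 2 (fun b hb => ?_)
    obtain ⟨a, ha, rfl⟩ := Finset.mem_image.1 hb
    calc (F.filter fun y => rep y = rep a).card ≤ (rep a).card := by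
          refine Finset.card_le_card fun y hy => ?_
          rw [← (Finset.mem_filter.1 hy).2]; simp [rep]
      _ ≤ 2 := Finset.card_le_two
  have h48 : F.card = 48 := classes_count.2.2.1 x ((mem_shell hN64).2 ⟨hx, hxn⟩)
  have hsec : ∀ P : (F.image rep : Finset _), ∃ y ∈ F, rep y = P.1 := fun P =>
    Finset.mem_image.1 P.2
  choose g hg hgP using hsec
  have horth : ∀ P Q, P ≠ Q → dotInt (g P) (g Q) = 0 := by
    intro P Q hne
    rcases congr_short (hF _ (hg P)).1 (congr_trans (hF _ (hg P)).2.2 (congr_symm (hF _ (hg Q)).2.2))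
      (hF _ (hg P)).2.1.le (hF _ (hg Q)).2.1.le with h | h | ⟨-, -, h⟩
    · exact absurd (Subtype.ext (by rw [← hgP P, ← hgP Q, h])) hne
    · refine absurd (Subtype.ext ?_) hne
      rw [← hgP P, ← hgP Q, h]
      simp only [rep, neg_neg, Finset.pair_comm]
    · exact h
  have h24 : 24 ≤ (F.image rep).card := by omega
  obtain ⟨e⟩ : Nonempty (GolayPt ↪ (F.image rep : Finset _)) :=
    Function.Embedding.nonempty_of_card_le (by rw [card_pt, Fintype.card_coe]; exact h24)
  exact ⟨fun p => g (e p), fun p => hF _ (hg _), fun p q h => horth _ _ fun h' => h (e.injective h')⟩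

theorem parseval {y : GolayPt → GolayPt → ℤ} (hn : ∀ p, sqNorm (y p) = 64)
    (ho : ∀ p q, p ≠ q → dotInt (y p) (y q) = 0) (v w : GolayPt → ℤ) :
    ∑ p, dotInt v (y p) * dotInt w (y p) = 64 * dotInt v w := by
  set Y : Matrix GolayPt GolayPt ℚ := Matrix.of fun p i => (y p i : ℚ) with hY
  have h1 : Y * ((64 : ℚ)⁻¹ • Y.transpose) = 1 := by
    ext p q
    rw [Matrix.mul_apply]
    simp only [hY, Matrix.smul_apply, Matrix.transpose_apply, Matrix.of_apply, smul_eq_mul]
    have h : ∑ i, (y p i : ℚ) * ((64 : ℚ)⁻¹ * (y q i : ℚ)) = (64 : ℚ)⁻¹ * (dotInt (y p) (y q) : ℚ) := by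
      unfold dotInt
      push_cast
      rw [Finset.mul_sum]
      exact Finset.sum_congr rfl fun i _ => by ring
    rw [h]
    by_cases hpq : p = q
    · subst hpq
      rw [Matrix.one_apply_eq, ← sqNorm_eq_dotInt, hn]
      norm_num
    · rw [Matrix.one_apply_ne hpq, ho p q hpq]; simp
  have h2 := mul_eq_one_comm.1 h1
  have hcol : ∀ i j, ∑ p, y p i * y p j = if i = j then 64 else 0 := by
    intro i j
    have h := congrFun (congrFun h2 i) j
    rw [Matrix.mul_apply] at h
    simp only [hY, Matrix.smul_apply, Matrix.transpose_apply, Matrix.of_apply, smul_eq_mul, mul_assoc,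
      ← Finset.mul_sum, Matrix.one_apply] at h
    have h' : ((∑ p, y p i * y p j : ℤ) : ℚ) = ((if i = j then 64 else 0 : ℤ) : ℚ) := by
      push_cast
      split_ifs at h ⊢ <;> linarith
    exact_mod_cast h'
  have hexp : ∀ p, dotInt v (y p) * dotInt w (y p) = ∑ i, ∑ j, v i * w j * (y p i * y p j) := by
    intro p
    rw [dotInt, dotInt, Finset.sum_mul_sum]
    exact Finset.sum_congr rfl fun i _ => Finset.sum_congr rfl fun j _ => by ring
  rw [Finset.sum_congr rfl fun p _ => hexp p, Finset.sum_comm, dotInt, Finset.mul_sum]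
  refine Finset.sum_congr rfl fun i _ => ?_
  rw [Finset.sum_comm]
  simp only [← Finset.mul_sum, hcol, mul_ite, mul_zero, Finset.sum_ite_eq, Finset.mem_univ, if_true]
  ring

/-- Coordinates with respect to a frame. -/
def frameCoord (y : GolayPt → GolayPt → ℤ) (hy : ∀ p, y p ∈ leechLattice) :
    leechLattice →+ (GolayPt → ℤ) where
  toFun v := fun p => dotInt (v : GolayPt → ℤ) (y p) / 8
  map_zero' := by funext p; simp [dotInt_zero_left]
  map_add' v w := by
    funext p
    simp only [AddSubgroup.coe_add, dotInt_add_left, Pi.add_apply]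
    exact Int.add_ediv_of_dvd_left (dvd_dotInt v.2 (hy p))

theorem eight_mul_frameCoord (y : GolayPt → GolayPt → ℤ) (hy : ∀ p, y p ∈ leechLattice)
    (v : leechLattice) (p : GolayPt) :
    8 * frameCoord y hy v p = dotInt (v : GolayPt → ℤ) (y p) :=
  Int.mul_ediv_cancel' (dvd_dotInt v.2 (hy p))

theorem dotInt_frameCoord {y : GolayPt → GolayPt → ℤ} (hy : ∀ p, y p ∈ leechLattice)
    (hn : ∀ p, sqNorm (y p) = 64) (ho : ∀ p q, p ≠ q → dotInt (y p) (y q) = 0)
    (v w : leechLattice) :
    dotInt (frameCoord y hy v) (frameCoord y hy w) = dotInt (v : GolayPt → ℤ) (w : GolayPt → ℤ) := by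
  have h := parseval hn ho (v : GolayPt → ℤ) (w : GolayPt → ℤ)
  rw [Finset.sum_congr rfl (g := fun p => 64 * (frameCoord y hy v p * frameCoord y hy w p)) fun p _ => by
    rw [← eight_mul_frameCoord y hy, ← eight_mul_frameCoord y hy]; ring, ← Finset.mul_sum] at h
  exact mul_left_cancel₀ (by norm_num : (64 : ℤ) ≠ 0) h

/-- An element of `Co0` sends a cross to the standard cross. -/
theorem exists_to_stdCross (H : GolayUnique) (x : leechLattice)
    (hxn : sqNorm (x : GolayPt → ℤ) = 64) :
    ∃ g : Co0, ((g • x : leechLattice) : GolayPt → ℤ) ∈ stdCross := by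
  obtain ⟨y, hy, ho⟩ := exists_frame x.2 hxn
  have hyL : ∀ p, y p ∈ leechLattice := fun p => (hy p).1
  have hn : ∀ p, sqNorm (y p) = 64 := fun p => (hy p).2.1
  set φ := frameCoord y hyL with hφ
  have hdot := dotInt_frameCoord hyL hn ho
  have hnorm : ∀ v, sqNorm (φ v) = sqNorm (v : GolayPt → ℤ) := fun v => by
    rw [sqNorm_eq_dotInt, sqNorm_eq_dotInt, hdot]
  have hinj : Function.Injective φ := by
    intro v w h
    have := hnorm (v - w)
    rw [map_sub, h, sub_self, sqNorm_zero] at this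
    exact Subtype.ext (sub_eq_zero.1 (sqNorm_eq_zero.1 this.symm))
  have hy8 : ∀ p, φ ⟨y p, hyL p⟩ = Pi.single p 8 := by
    intro p
    funext q
    have := eight_mul_frameCoord y hyL ⟨y p, hyL p⟩ q
    rw [← hφ] at this
    by_cases h : q = p
    · subst h
      rw [← sqNorm_eq_dotInt, hn] at this
      rw [Pi.single_eq_same]; omega
    · rw [ho p q (Ne.symm h)] at this
      rw [Pi.single_eq_of_ne h]; omega
  have hL : LeechLike φ.range :=
  { four_mem := by
      intro p q s t hst
      obtain ⟨k, hk⟩ := hst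
      obtain ⟨z, hz, hzd⟩ := congr_trans (hy p).2.2 (congr_symm (hy q).2.2)
      refine ⟨k • (⟨y p, hyL p⟩ : leechLattice) - t • (⟨z, hz⟩ : leechLattice), ?_⟩
      have h2 : (2 : ℕ) • φ ⟨z, hz⟩ = Pi.single p 8 - Pi.single q 8 := by
        rw [← hy8 p, ← hy8 q, ← map_sub, ← map_nsmul]
        exact congrArg φ (Subtype.ext hzd.symm)
      rw [map_sub, map_zsmul, map_zsmul, hy8 p]
      funext l
      have h3 := congrFun h2 l
      simp only [Pi.smul_apply, Pi.sub_apply, Pi.single_apply, nsmul_eq_mul] at h3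
      simp only [Pi.sub_apply, Pi.add_apply, Pi.smul_apply, Pi.single_apply, smul_eq_mul]
      push_cast at h3
      have h4 : φ ⟨z, hz⟩ l = (if l = p then 4 else 0) - (if l = q then 4 else 0) := by
        split_ifs at h3 ⊢ <;> omega
      rw [h4]
      split_ifs <;> first
        | ring1
        | linear_combination (4 : ℤ) * hk
        | linear_combination (-4 : ℤ) * hk
    dvd_dot := by
      rintro _ ⟨v, rfl⟩ _ ⟨w, rfl⟩
      rw [hdot]; exact dvd_dotInt v.2 w.2
    dvd_norm := by
      rintro _ ⟨v, rfl⟩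
      rw [hnorm]; exact dvd_sqNorm v.2
    min32 := by
      rintro _ ⟨v, rfl⟩ h0
      rw [hnorm]
      exact min_norm v.2 fun h => h0 (by rw [show v = 0 from Subtype.ext h, map_zero])
    count := by
      have h := ncard_shellSet (by norm_num : 8 ∣ (32 : ℕ)) (by norm_num) (by norm_num) allVals
      rw [shellSet_full (by norm_num), count32] at h
      rw [← h]
      refine (Set.ncard_congr (fun v (hv : v ∈ {x | x ∈ leechLattice ∧ sqNorm x = (32 : ℕ)}) =>
        φ ⟨v, hv.1⟩) ?_ (fun v w hv hw e => ?_) ?_).symm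
      · intro v hv
        exact ⟨⟨_, rfl⟩, by rw [hnorm]; exact_mod_cast hv.2⟩
      · exact congrArg Subtype.val (hinj e)
      · rintro _ ⟨⟨v, rfl⟩, hv⟩
        refine ⟨v, ⟨v.2, ?_⟩, rfl⟩
        rw [← hnorm]; exact_mod_cast hv }
  obtain ⟨σ, d, hd, hmap⟩ := recognition H hL
  let f : leechLattice → leechLattice := fun v =>
    ⟨twist σ d (φ v), (SetLike.ext_iff.1 hmap _).1 (AddSubgroup.mem_map_of_mem _ ⟨v, rfl⟩)⟩
  have hf : Function.Bijective f := by
    refine ⟨fun v w h => hinj (twist_injective σ hd (congrArg Subtype.val h)), fun w => ?_⟩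
    have hw : (w : GolayPt → ℤ) ∈ φ.range.map (twist σ d) := by rw [hmap]; exact w.2
    obtain ⟨u, ⟨v, rfl⟩, hu⟩ := hw
    exact ⟨v, Subtype.ext hu⟩
  let g : Co0 := ⟨Equiv.ofBijective f hf,
    fun v w => Subtype.ext (by simp [f]),
    fun v => by simp only [Equiv.ofBijective_apply, f]; rw [sqNorm_twist σ hd, hnorm]⟩
  refine ⟨g, ?_⟩
  show twist σ d (φ x) ∈ stdCross
  have hmemx : (x : GolayPt → ℤ) ∈ crossFinset (x : GolayPt → ℤ) :=
    (mem_crossFinset x.2).2 ⟨x.2, hxn, congr_refl _⟩
  obtain ⟨p, hp⟩ : ∃ p, dotInt (x : GolayPt → ℤ) (y p) ≠ 0 := by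
    by_contra hall
    push Not at hall
    have := hnorm x
    rw [show φ x = 0 from funext fun p => by
      have := eight_mul_frameCoord y hyL x p
      rw [hall p, ← hφ] at this
      simp only [Pi.zero_apply]; omega, sqNorm_zero, hxn] at this
    norm_num at this
  rcases congr_short x.2 (congr_symm (hy p).2.2) hxn.le (hn p).le with h | h | ⟨-, -, h⟩
  · rw [show x = ⟨y p, hyL p⟩ from Subtype.ext h, hy8, twist_single]
    exact ⟨_, _, by rcases mul_self_eq_one_iff.1 (hd (σ.symm p)) with e | e <;> simp [e], rfl⟩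
  · rw [show x = -⟨y p, hyL p⟩ from Subtype.ext h, map_neg, hy8, map_neg, twist_single,
      ← Pi.single_neg]
    exact ⟨_, _, by rcases mul_self_eq_one_iff.1 (hd (σ.symm p)) with e | e <;> simp [e], rfl⟩
  · exact absurd h hp

theorem smul_mem_stdCross_of_congr {v : leechLattice} (i : GolayPt)
    (hn : sqNorm (v : GolayPt → ℤ) = 64) (h : Congr (v : GolayPt → ℤ) (Pi.single i 8)) :
    (v : GolayPt → ℤ) ∈ stdCross := by
  rw [← cross_std i]
  exact ⟨v.2, by rw [hn, sqNorm_single]; norm_num, congr_symm h⟩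

end Cfsg.Agent.Leech
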