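import Cfsg.Agent.Lib.Leech.Index
import Cfsg.Agent.Lib.Leech.Count

/-!
# Congruence classes modulo twice the lattice, crosses

* `Congr x y` (`∃ z ∈ leechLattice, x - y = 2 • z`), `congr_iff`, `cross_eq`, `mem_cross_self`
* `exists_short_rep` : every class has a vector of norm at most 64
* `ncard_cross` : a cross has 48 vectors;  `ncard_crosses : crosses.ncard = 8292375`
* `cross_std` : the cross through `± 8 eᵢ` is `stdCross`
-/

set_option autoImplicit false

namespace Cfsg.Agent.Leech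

/-- Congruence modulo twice the lattice. -/
def Congr (x y : GolayPt → ℤ) : Prop := ∃ z ∈ leechLattice, x - y = 2 • z

theorem congr_iff {x y : GolayPt → ℤ} : Congr x y ↔ x - y ∈ twiceLattice :=
  mem_twiceLattice.symm

theorem congr_refl (x : GolayPt → ℤ) : Congr x x := congr_iff.2 (by simp [twiceLattice.zero_mem])

theorem congr_symm {x y : GolayPt → ℤ} (h : Congr x y) : Congr y x :=
  congr_iff.2 (by simpa using twiceLattice.neg_mem (congr_iff.1 h))

theorem congr_trans {x y z : GolayPt → ℤ} (h : Congr x y) (h' : Congr y z) : Congr x z :=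
  congr_iff.2 (by simpa using twiceLattice.add_mem (congr_iff.1 h) (congr_iff.1 h'))

theorem congr_neg {x : GolayPt → ℤ} (hx : x ∈ leechLattice) : Congr x (-x) :=
  ⟨x, hx, by rw [sub_neg_eq_add, two_nsmul]⟩

/-- The vectors of one norm, as a finset. -/
noncomputable def shell (N : ℕ) (hN : 8 ∣ N ∧ 24 ≤ N ∧ N ≤ 64) : Finset (GolayPt → ℤ) :=
  (finite_shellSet hN.1 hN.2.1 hN.2.2 allVals).toFinset

theorem mem_shell {N : ℕ} (hN : 8 ∣ N ∧ 24 ≤ N ∧ N ≤ 64) {x : GolayPt → ℤ} :
    x ∈ shell N hN ↔ x ∈ leechLattice ∧ sqNorm x = N := by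
  rw [shell, Set.Finite.mem_toFinset, shellSet_full hN.2.2]; rfl

theorem card_shell {N : ℕ} (hN : 8 ∣ N ∧ 24 ≤ N ∧ N ≤ 64) :
    (shell N hN).card = leechCount N allVals := by
  rw [shell, ← Set.ncard_eq_toFinset_card _ (finite_shellSet hN.1 hN.2.1 hN.2.2 allVals),
    ncard_shellSet hN.1 hN.2.1 hN.2.2]

theorem count32 : leechCount 32 allVals = 196560 := by decide +kernel
theorem count48 : leechCount 48 allVals = 16773120 := by decide +kernel
theorem count64 : leechCount 64 allVals = 398034000 := by decide +kernel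

theorem hN32 : 8 ∣ (32 : ℕ) ∧ 24 ≤ (32 : ℕ) ∧ (32 : ℕ) ≤ 64 := by norm_num
theorem hN48 : 8 ∣ (48 : ℕ) ∧ 24 ≤ (48 : ℕ) ∧ (48 : ℕ) ≤ 64 := by norm_num
theorem hN64 : 8 ∣ (64 : ℕ) ∧ 24 ≤ (64 : ℕ) ∧ (64 : ℕ) ≤ 64 := by norm_num

/-- The class of a vector modulo twice the lattice (junk outside the lattice). -/
noncomputable def classOf (x : GolayPt → ℤ) :
    leechLattice ⧸ twiceLattice.addSubgroupOf leechLattice :=
  letI := Classical.dec (x ∈ leechLattice)
  if h : x ∈ leechLattice then QuotientAddGroup.mk (⟨x, h⟩ : leechLattice) else 0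

theorem classOf_eq_iff {x y : GolayPt → ℤ} (hx : x ∈ leechLattice) (hy : y ∈ leechLattice) :
    classOf x = classOf y ↔ Congr x y := by
  rw [classOf, classOf, dif_pos hx, dif_pos hy, eq_comm, QuotientAddGroup.eq_iff_sub_mem,
    AddSubgroup.mem_addSubgroupOf, congr_iff]
  constructor <;> intro h <;>
    simpa using twiceLattice.neg_mem h

theorem congr_short {v w : GolayPt → ℤ} (hv : v ∈ leechLattice) (h : Congr v w)
    (hvn : sqNorm v ≤ 64) (hwn : sqNorm w ≤ 64) :
    v = w ∨ v = -w ∨ (sqNorm v = 64 ∧ sqNorm w = 64 ∧ dotInt v w = 0) :=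
  eq_or_eq_neg_or_orthogonal h hv hvn hwn

open Classical in
/-- A cross, as a finset. -/
noncomputable def crossFinset (x : GolayPt → ℤ) : Finset (GolayPt → ℤ) :=
  (shell 64 hN64).filter fun y => classOf y = classOf x

theorem card_crossFinset_le (x : GolayPt → ℤ) : (crossFinset x).card ≤ 48 := by
  classical
  set F := crossFinset x
  have hF : ∀ y ∈ F, y ∈ leechLattice ∧ sqNorm y = 64 := fun y hy => by
    simpa using (mem_shell hN64).1 (Finset.mem_filter.1 hy).1
  have hc : ∀ y ∈ F, ∀ z ∈ F, Congr y z := fun y hy z hz =>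
    (classOf_eq_iff (hF y hy).1 (hF z hz).1).1
      ((Finset.mem_filter.1 hy).2.trans (Finset.mem_filter.1 hz).2.symm)
  let rep : (GolayPt → ℤ) → Finset (GolayPt → ℤ) := fun y => {y, -y}
  have h1 : F.card ≤ 2 * (F.image rep).card := by
    refine Finset.card_le_mul_card_image F 2 (fun b hb => ?_)
    obtain ⟨a, ha, rfl⟩ := Finset.mem_image.1 hb
    calc (F.filter fun y => rep y = rep a).card ≤ (rep a).card := by
          refine Finset.card_le_card fun y hy => ?_
          rw [← (Finset.mem_filter.1 hy).2]; simp [rep]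
      _ ≤ 2 := Finset.card_le_two
  have hsec : ∀ P ∈ F.image rep, ∃ y ∈ F, rep y = P := fun P hP => Finset.mem_image.1 hP
  choose g hg hgP using hsec
  let R := (F.image rep).attach.image fun P => g P.1 P.2
  have hR : R.card = (F.image rep).card := by
    rw [Finset.card_image_of_injective, Finset.card_attach]
    intro P P' h
    apply Subtype.ext
    rw [← hgP P.1 P.2, ← hgP P'.1 P'.2]
    exact congrArg rep h
  have h2 : R.card ≤ Fintype.card GolayPt := by
    refine card_le_of_orthogonal R (fun y hy h => ?_) (fun y hy z hz hne => ?_)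
    · obtain ⟨P, -, rfl⟩ := Finset.mem_image.1 hy
      have := (hF _ (hg P.1 P.2)).2
      rw [h, sqNorm_zero] at this
      norm_num at this
    · obtain ⟨P, -, rfl⟩ := Finset.mem_image.1 hy
      obtain ⟨P', -, rfl⟩ := Finset.mem_image.1 hz
      rcases congr_short (hF _ (hg P.1 P.2)).1 (hc _ (hg P.1 P.2) _ (hg P'.1 P'.2))
        (hF _ (hg P.1 P.2)).2.le (hF _ (hg P'.1 P'.2)).2.le with h | h | ⟨-, -, h⟩
      · exact absurd h hne
      · have hrep : P.1 = P'.1 := by
          rw [← hgP P.1 P.2, ← hgP P'.1 P'.2, h]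
          simp only [rep, neg_neg, Finset.pair_comm]
        exact absurd (by rw [Subtype.ext hrep]) hne
      · exact h
  rw [hR, card_pt] at h2
  omega

theorem classes_count :
    Function.Surjective
      (fun x : leechLattice => (QuotientAddGroup.mk x :
        leechLattice ⧸ twiceLattice.addSubgroupOf leechLattice)) ∧
    (∀ q, ∃ y ∈ leechLattice, sqNorm y ≤ 64 ∧ classOf y = q) ∧
    (∀ x ∈ shell 64 hN64, (crossFinset x).card = 48) ∧
    (∃ I : Finset (leechLattice ⧸ twiceLattice.addSubgroupOf leechLattice),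
      I.card = 8292375 ∧ ∀ q, q ∈ I ↔ ∃ y ∈ shell 64 hN64, classOf y = q) := by
  classical
  have : Finite (leechLattice ⧸ twiceLattice.addSubgroupOf leechLattice) :=
    Nat.finite_of_card_ne_zero (by rw [natCard_leech_mod_two]; norm_num)
  let _ := Fintype.ofFinite (leechLattice ⧸ twiceLattice.addSubgroupOf leechLattice)
  set I2 := (shell 32 hN32).image classOf
  set I3 := (shell 48 hN48).image classOf
  set I4 := (shell 64 hN64).image classOf
  have hfib : ∀ N (hN : 8 ∣ N ∧ 24 ≤ N ∧ N ≤ 64), N < 64 →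
      (shell N hN).card ≤ 2 * ((shell N hN).image classOf).card := by
    intro N hN hlt
    refine Finset.card_le_mul_card_image _ 2 (fun b hb => ?_)
    obtain ⟨a, ha, rfl⟩ := Finset.mem_image.1 hb
    calc ((shell N hN).filter fun y => classOf y = classOf a).card
        ≤ ({a, -a} : Finset (GolayPt → ℤ)).card := by
          refine Finset.card_le_card fun y hy => ?_
          obtain ⟨hy, hy'⟩ := Finset.mem_filter.1 hy
          have hy2 := (mem_shell hN).1 hy
          have ha2 := (mem_shell hN).1 ha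
          rcases congr_short hy2.1 ((classOf_eq_iff hy2.1 ha2.1).1 hy') (by omega) (by omega)
            with h | h | ⟨h, -⟩
          · simp [h]
          · simp [h]
          · omega
      _ ≤ 2 := Finset.card_le_two
  have h2 := hfib 32 hN32 (by norm_num)
  have h3 := hfib 48 hN48 (by norm_num)
  rw [card_shell hN32, count32] at h2
  rw [card_shell hN48, count48] at h3
  have hfib4 : ∀ q ∈ I4, ((shell 64 hN64).filter fun y => classOf y = q).card ≤ 48 := by
    intro q hq
    obtain ⟨a, -, rfl⟩ := Finset.mem_image.1 hq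
    exact card_crossFinset_le a
  have hsum := Finset.card_eq_sum_card_image classOf (shell 64 hN64)
  rw [card_shell hN64, count64] at hsum
  have h4 : 398034000 ≤ 48 * I4.card := by
    rw [hsum, mul_comm, ← smul_eq_mul]; exact Finset.sum_le_card_nsmul _ _ _ hfib4
  have h0 : ∀ N (hN : 8 ∣ N ∧ 24 ≤ N ∧ N ≤ 64), ∀ q ∈ (shell N hN).image classOf, q ≠ 0 := by
    intro N hN q hq h
    obtain ⟨a, ha, rfl⟩ := Finset.mem_image.1 hq
    obtain ⟨ha1, ha2⟩ := (mem_shell hN).1 ha
    have hz : classOf (0 : GolayPt → ℤ) = 0 := by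
      rw [classOf, dif_pos leechLattice.zero_mem]; rfl
    rw [← hz, classOf_eq_iff ha1 leechLattice.zero_mem] at h
    rcases congr_short ha1 h (by omega) (by rw [sqNorm_zero]; norm_num) with e | e | ⟨-, e, -⟩
    · rw [e, sqNorm_zero] at ha2; omega
    · rw [e, neg_zero, sqNorm_zero] at ha2; omega
    · rw [sqNorm_zero] at e; omega
  have hdisj : ∀ N (hN : 8 ∣ N ∧ 24 ≤ N ∧ N ≤ 64) M (hM : 8 ∣ M ∧ 24 ≤ M ∧ M ≤ 64), N ≠ M →
      Disjoint ((shell N hN).image classOf) ((shell M hM).image classOf) := by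
    intro N hN M hM hne
    refine Finset.disjoint_left.2 fun q hq hq' => hne ?_
    obtain ⟨a, ha, rfl⟩ := Finset.mem_image.1 hq
    obtain ⟨b, hb, hb'⟩ := Finset.mem_image.1 hq'
    obtain ⟨ha1, ha2⟩ := (mem_shell hN).1 ha
    obtain ⟨hb1, hb2⟩ := (mem_shell hM).1 hb
    rcases congr_short ha1 ((classOf_eq_iff ha1 hb1).1 hb'.symm) (by omega) (by omega)
      with e | e | ⟨e, e', -⟩
    · rw [e, hb2] at ha2; exact_mod_cast ha2.symm
    · rw [e, sqNorm_neg, hb2] at ha2; exact_mod_cast ha2.symm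
    · omega
  set U := insert 0 (I2 ∪ I3 ∪ I4)
  have hU : U.card = 1 + I2.card + I3.card + I4.card := by
    rw [Finset.card_insert_of_notMem, Finset.card_union_of_disjoint, Finset.card_union_of_disjoint]
    · ring
    · exact hdisj _ _ _ _ (by norm_num)
    · exact Finset.disjoint_union_left.2
        ⟨hdisj _ _ _ _ (by norm_num), hdisj _ _ _ _ (by norm_num)⟩
    · simp only [Finset.mem_union, not_or]
      exact ⟨⟨fun h => h0 _ _ _ h rfl, fun h => h0 _ _ _ h rfl⟩, fun h => h0 _ _ _ h rfl⟩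
  have hQ : U.card ≤ 2 ^ 24 := by
    rw [← natCard_leech_mod_two, Nat.card_eq_fintype_card]; exact Finset.card_le_univ _
  rw [show (shell 32 hN32).image classOf = I2 from rfl] at h2
  rw [show (shell 48 hN48).image classOf = I3 from rfl] at h3
  have hI4 : I4.card = 8292375 := by
    omega
  have huniv : U = Finset.univ := Finset.eq_univ_of_card _ (by
    rw [← Nat.card_eq_fintype_card, natCard_leech_mod_two]; omega)
  refine ⟨QuotientAddGroup.mk_surjective, fun q => ?_, ?_, I4, hI4, fun q => by simp [I4]⟩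
  · have hq : q ∈ U := huniv ▸ Finset.mem_univ q
    simp only [U, I2, I3, I4, Finset.mem_insert, Finset.mem_union, Finset.mem_image] at hq
    rcases hq with rfl | (⟨a, ha, rfl⟩ | ⟨a, ha, rfl⟩) | ⟨a, ha, rfl⟩
    · exact ⟨0, leechLattice.zero_mem, by rw [sqNorm_zero]; norm_num,
        by rw [classOf, dif_pos leechLattice.zero_mem]; rfl⟩
    · obtain ⟨h, h'⟩ := (mem_shell hN32).1 ha; exact ⟨a, h, by omega, rfl⟩
    · obtain ⟨h, h'⟩ := (mem_shell hN48).1 ha; exact ⟨a, h, by omega, rfl⟩
    · obtain ⟨h, h'⟩ := (mem_shell hN64).1 ha; exact ⟨a, h, by omega, rfl⟩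
  · intro x hx
    have heq : ∀ q ∈ I4, ((shell 64 hN64).filter fun y => classOf y = q).card = 48 := by
      refine (Finset.sum_eq_sum_iff_of_le hfib4).1 ?_
      rw [← hsum, Finset.sum_const, smul_eq_mul, hI4]
    exact heq _ (Finset.mem_image_of_mem _ hx)

theorem exists_short_rep {x : GolayPt → ℤ} (hx : x ∈ leechLattice) :
    ∃ y ∈ leechLattice, sqNorm y ≤ 64 ∧ Congr x y := by
  obtain ⟨y, hy, hyn, he⟩ := classes_count.2.1 (classOf x)
  exact ⟨y, hy, hyn, (classOf_eq_iff hx hy).1 he.symm⟩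

theorem mem_cross_iff {x y : GolayPt → ℤ} :
    y ∈ cross x ↔ y ∈ leechLattice ∧ sqNorm y = sqNorm x ∧ Congr x y := Iff.rfl

theorem cross_eq_coe {x : GolayPt → ℤ} (hx : x ∈ leechLattice) (hxn : sqNorm x = 64) :
    cross x = ↑(crossFinset x) := by
  ext y
  simp only [mem_cross_iff, Finset.mem_coe, crossFinset, Finset.mem_filter, mem_shell, hxn]
  constructor
  · rintro ⟨h1, h2, h3⟩
    exact ⟨⟨h1, by simpa using h2⟩, ((classOf_eq_iff hx h1).2 h3).symm⟩
  · rintro ⟨⟨h1, h2⟩, h3⟩
    exact ⟨h1, by simpa using h2, (classOf_eq_iff hx h1).1 h3.symm⟩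

theorem ncard_cross {x : GolayPt → ℤ} (hx : x ∈ leechLattice) (hxn : sqNorm x = 64) :
    (cross x).ncard = 48 := by
  rw [cross_eq_coe hx hxn, Set.ncard_coe_finset]
  exact classes_count.2.2.1 x ((mem_shell hN64).2 ⟨hx, by simpa using hxn⟩)

theorem mem_cross_self {x : GolayPt → ℤ} (hx : x ∈ leechLattice) : x ∈ cross x :=
  ⟨hx, rfl, congr_refl x⟩

theorem cross_eq_of_congr {x y : GolayPt → ℤ} (h : Congr x y) (hn : sqNorm x = sqNorm y) :
    cross x = cross y := by
  ext z
  simp only [mem_cross_iff, hn]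
  exact ⟨fun ⟨a, b, c⟩ => ⟨a, b, congr_trans (congr_symm h) c⟩,
    fun ⟨a, b, c⟩ => ⟨a, b, congr_trans h c⟩⟩

theorem ncard_crosses : crosses.ncard = 8292375 := by
  classical
  obtain ⟨-, -, -, I, hI, hmem⟩ := classes_count
  rw [← hI, ← Set.ncard_coe_finset I, crosses]
  have hfun : ∀ q ∈ I, ∃ y ∈ shell 64 hN64, classOf y = q := fun q hq => (hmem q).1 hq
  choose g hg hgq using hfun
  have hg' : ∀ q (hq : q ∈ I), g q hq ∈ leechLattice ∧ sqNorm (g q hq) = 64 :=
    fun q hq => by simpa using (mem_shell hN64).1 (hg q hq)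
  refine (Set.ncard_congr (fun q hq => cross (g q hq)) (fun q hq => Set.mem_image_of_mem cross (hg' q hq))
    (fun q r hq hr h => ?_) ?_).symm
  · have hm := mem_cross_self (hg' q hq).1
    rw [h] at hm
    rw [← hgq q hq, ← hgq r hr, classOf_eq_iff (hg' q hq).1 (hg' r hr).1]
    exact congr_symm hm.2.2
  · rintro _ ⟨x, ⟨hx, hxn⟩, rfl⟩
    have hq : classOf x ∈ I := (hmem _).2 ⟨x, (mem_shell hN64).2 ⟨hx, by simpa using hxn⟩, rfl⟩
    refine ⟨classOf x, hq, cross_eq_of_congr ?_ ?_⟩
    · exact (classOf_eq_iff (hg' _ hq).1 hx).1 (hgq _ hq)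
    · rw [(hg' _ hq).2, hxn]

theorem stdCross_subset (i : GolayPt) : stdCross ⊆ cross (Pi.single i 8) := by
  rintro y ⟨j, s, hs, rfl⟩
  obtain ⟨k, hk, rfl⟩ : ∃ k : ℤ, (k = 1 ∨ k = -1) ∧ s = 8 * k := by
    rcases hs with rfl | rfl
    · exact ⟨1, Or.inl rfl, rfl⟩
    · exact ⟨-1, Or.inr rfl, rfl⟩
  refine ⟨single8_mem j k, ?_, ?_⟩
  · rw [sqNorm_single, sqNorm_single]; rcases hk with rfl | rfl <;> norm_num
  · refine ⟨_, four_single_add_mem i j 1 (-k) (by rcases hk with rfl | rfl <;> norm_num), ?_⟩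
    funext l
    simp only [Pi.sub_apply, Pi.smul_apply, Pi.add_apply, Pi.single_apply, nsmul_eq_mul]
    split_ifs <;> push_cast <;> ring

theorem ncard_stdCross : stdCross.ncard = 48 := by
  classical
  let f : GolayPt × Bool → GolayPt → ℤ := fun p => Pi.single p.1 (if p.2 then (8 : ℤ) else -8)
  have hf : Function.Injective f := by
    rintro ⟨i, a⟩ ⟨j, b⟩ h
    have h1 := congrFun h i
    simp only [f, Pi.single_eq_same, Pi.single_apply] at h1
    by_cases hij : i = j
    · subst hij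
      rw [if_pos rfl] at h1
      cases a <;> cases b <;> simp_all
    · rw [if_neg hij] at h1
      cases a <;> simp at h1
  have he : stdCross = Set.range f := by
    ext y
    constructor
    · rintro ⟨i, s, hs, rfl⟩
      rcases hs with rfl | rfl
      · exact ⟨(i, true), by simp [f]⟩
      · exact ⟨(i, false), by simp [f]⟩
    · rintro ⟨⟨i, b⟩, rfl⟩
      exact ⟨i, _, by cases b <;> simp, rfl⟩
  rw [he, Set.ncard_range_of_injective hf, Nat.card_eq_fintype_card]
  simp

theorem cross_std (i : GolayPt) : cross (Pi.single i 8) = stdCross := by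
  have hx : (Pi.single i 8 : GolayPt → ℤ) ∈ leechLattice := by simpa using single8_mem i 1
  have hn : sqNorm (Pi.single i 8 : GolayPt → ℤ) = 64 := by rw [sqNorm_single]; norm_num
  refine (Set.eq_of_subset_of_ncard_le (stdCross_subset i) ?_ ?_).symm
  · rw [ncard_cross hx hn, ncard_stdCross]
  · rw [cross_eq_coe hx hn]; exact Finset.finite_toSet _

theorem stdCross_mem_crosses : stdCross ∈ crosses :=
  ⟨Pi.single none 8, ⟨by simpa using single8_mem none 1, by rw [sqNorm_single]; norm_num⟩,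
    cross_std none⟩

end Cfsg.Agent.Leech
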