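import Cfsg.Agent.Lib.Leech.Even

/-!
# Index of the lattice

* `index_leech : leechLattice.index = 2 ^ 36`
* `twiceLattice` (= `2 • leechLattice`), `mem_twiceLattice`, `relIndex_twice` (= `2 ^ 24`)
* `single8_mem`, `four_single_add_mem` : the vectors `8 eᵢ` and `4 (± eᵢ ± eⱼ)`
-/

set_option autoImplicit false

namespace Cfsg.Agent.Leech

theorem single8_mem (i : GolayPt) (s : ℤ) : (Pi.single i (8 * s) : GolayPt → ℤ) ∈ leechLattice := by
  have h := mem_mk_even (Pi.single i (4 * s)) (by rw [Finset.sum_pi_single']; simp) (by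
    have h0 : mod2 (Pi.single i (4 * s)) = 0 := by
      funext j
      rw [mod2_apply, Pi.zero_apply, ZMod.intCast_zmod_eq_zero_iff_dvd]
      by_cases h : j = i
      · subst h; simp only [Pi.single_eq_same]; push_cast; omega
      · simp [h]
    rw [h0]; exact golayCode.zero_mem)
  rw [← Pi.single_smul, smul_eq_mul, ← mul_assoc] at h
  exact h

theorem four_single_add_mem (i j : GolayPt) (s t : ℤ) (hst : (2 : ℤ) ∣ s + t) :
    (Pi.single i (4 * s) + Pi.single j (4 * t) : GolayPt → ℤ) ∈ leechLattice := by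
  have h := mem_mk_even (Pi.single i (2 * s) + Pi.single j (2 * t)) (by
    simp only [Pi.add_apply, Finset.sum_add_distrib, Finset.sum_pi_single', Finset.mem_univ, if_true]
    omega) (by
    have h0 : mod2 (Pi.single i (2 * s) + Pi.single j (2 * t)) = 0 := by
      funext k
      rw [mod2_apply, Pi.zero_apply, ZMod.intCast_zmod_eq_zero_iff_dvd, Pi.add_apply]
      by_cases hi : k = i <;> by_cases hj : k = j <;> simp [Pi.single_apply, hi, hj] <;>
        split_ifs <;> simp [← mul_add]
    rw [h0]; exact golayCode.zero_mem)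
  rw [smul_add, ← Pi.single_smul, ← Pi.single_smul, smul_eq_mul, smul_eq_mul, ← mul_assoc,
    ← mul_assoc] at h
  exact h

/-- Reduction modulo two as a homomorphism. -/
def mod2Hom : (GolayPt → ℤ) →+ (GolayPt → ZMod 2) where
  toFun := mod2
  map_zero' := mod2_zero
  map_add' := mod2_add

theorem mod2Hom_surjective : Function.Surjective mod2Hom :=
  fun w => ⟨fun i => ((w i).val : ℤ), funext fun i => by simp [mod2Hom, mod2]⟩

/-- Multiplication by two. -/
def dbl : (GolayPt → ℤ) →+ (GolayPt → ℤ) := nsmulAddMonoidHom 2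

theorem dbl_apply (a : GolayPt → ℤ) : dbl a = 2 • a := rfl

theorem dbl_injective : Function.Injective dbl := by
  intro a b h; funext i
  have := congrFun h i
  simp only [dbl_apply, Pi.smul_apply, nsmul_eq_mul] at this
  push_cast at this; omega

theorem range_dbl : dbl.range = mod2Hom.ker := by
  ext x
  rw [AddMonoidHom.mem_range, AddMonoidHom.mem_ker]
  constructor
  · rintro ⟨a, rfl⟩
    funext i
    simp [mod2Hom, mod2, dbl_apply, show (2 : ZMod 2) = 0 from rfl]
  · intro h
    have h' : ∀ i, (2 : ℤ) ∣ x i := fun i => by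
      have := congrFun h i
      simpa [mod2Hom, mod2, ZMod.intCast_zmod_eq_zero_iff_dvd] using this
    choose a ha using h'
    exact ⟨a, funext fun i => by rw [dbl_apply, Pi.smul_apply, ha i]; simp⟩

theorem index_map_dbl (A : AddSubgroup (GolayPt → ℤ)) :
    (A.map dbl).index = A.index * 2 ^ 24 := by
  rw [AddSubgroup.index_map_of_injective A dbl_injective, range_dbl, AddSubgroup.index_ker,
    AddMonoidHom.range_eq_top.2 mod2Hom_surjective, Nat.card_congr AddSubgroup.topEquiv.toEquiv]
  simp

/-- The preimage of the code. -/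
def codePre : AddSubgroup (GolayPt → ℤ) := golayCode.toAddSubgroup.comap mod2Hom

theorem mem_codePre {a : GolayPt → ℤ} : a ∈ codePre ↔ mod2 a ∈ golayCode := Iff.rfl

theorem index_codePre : codePre.index = 2 ^ 12 := by
  rw [codePre, AddSubgroup.index_comap_of_surjective _ mod2Hom_surjective]
  have h := AddSubgroup.card_mul_index golayCode.toAddSubgroup
  have hc : Nat.card golayCode.toAddSubgroup = 4096 := Golay.natCard_golayCode
  rw [hc, show Nat.card (GolayPt → ZMod 2) = 2 ^ 24 by simp] at h
  omega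

theorem two_dvd_sum {a : GolayPt → ℤ} (h : mod2 a ∈ golayCode) : (2 : ℤ) ∣ ∑ i, a i := by
  have := sum_mul_mod_two h (b := 1) (by
    convert one_mem_code using 1
    funext i; simp [mod2])
  simpa using this

/-- Half the coordinate sum, modulo two. -/
def halfSum : codePre →+ ZMod 2 where
  toFun a := (((∑ i, (a : GolayPt → ℤ) i) / 2 : ℤ) : ZMod 2)
  map_zero' := by simp
  map_add' a b := by
    simp only [AddSubgroup.coe_add, Pi.add_apply, Finset.sum_add_distrib]
    rw [← Int.cast_add, Int.add_ediv_of_dvd_left (two_dvd_sum (mem_codePre.1 a.2))]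

/-- The even part of the lattice, halved. -/
def evenPart : AddSubgroup (GolayPt → ℤ) := leechLattice.comap dbl

theorem mem_evenPart {a : GolayPt → ℤ} :
    a ∈ evenPart ↔ mod2 a ∈ golayCode ∧ (4 : ℤ) ∣ ∑ i, a i := by
  constructor
  · intro h
    obtain ⟨m, b, hm, h1, h2, h3⟩ := exists_rep h
    have hi : ∀ i, 2 * a i = m + 2 * b i := fun i => by
      have := h1 i
      simpa [dbl_apply] using this
    have hm0 : m = 0 := by have := hi none; omega
    subst hm0
    have hab : a = b := funext fun i => by have := hi i; omega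
    subst hab
    exact ⟨h3, by simpa [Int.modEq_zero_iff_dvd] using h2⟩
  · rintro ⟨h1, h2⟩
    have := mem_mk_even a h2 h1
    show dbl a ∈ leechLattice
    convert this using 1
    rw [dbl_apply, ← natCast_zsmul]; rfl

theorem evenPart_le : evenPart ≤ codePre := fun _ h => (mem_evenPart.1 h).1

theorem addSubgroupOf_evenPart : evenPart.addSubgroupOf codePre = halfSum.ker := by
  ext a
  rw [AddSubgroup.mem_addSubgroupOf, mem_evenPart, AddMonoidHom.mem_ker]
  have h := two_dvd_sum (mem_codePre.1 a.2)
  show _ ↔ (((∑ i, (a : GolayPt → ℤ) i) / 2 : ℤ) : ZMod 2) = 0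
  rw [ZMod.intCast_zmod_eq_zero_iff_dvd]
  refine ⟨fun ha => ?_, fun ha => ⟨mem_codePre.1 a.2, ?_⟩⟩
  · have := ha.2; push_cast; omega
  · push_cast at ha; omega

theorem index_evenPart : evenPart.index = 2 ^ 13 := by
  rw [← AddSubgroup.relIndex_mul_index evenPart_le, index_codePre, AddSubgroup.relIndex,
    addSubgroupOf_evenPart, AddSubgroup.index_ker,
    AddMonoidHom.range_eq_top.2, Nat.card_congr AddSubgroup.topEquiv.toEquiv]
  · simp
  · intro c
    refine ⟨⟨Pi.single none (2 * (c.val : ℤ)), mem_codePre.2 ?_⟩, ?_⟩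
    · have h0 : mod2 (Pi.single none (2 * (c.val : ℤ))) = 0 := by
        funext j
        by_cases h : j = none
        · subst h; simp [mod2, show (2 : ZMod 2) = 0 from rfl]
        · simp [mod2, h]
      rw [h0]; exact golayCode.zero_mem
    · show (((∑ i, (Pi.single none (2 * (c.val : ℤ)) : GolayPt → ℤ) i) / 2 : ℤ) : ZMod 2) = c
      rw [Finset.sum_pi_single']
      simp

/-- Parity of a lattice vector. -/
def parityHom : leechLattice →+ ZMod 2 where
  toFun x := (((x : GolayPt → ℤ) none : ℤ) : ZMod 2)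
  map_zero' := by simp
  map_add' x y := by simp

theorem map_evenPart_addSubgroupOf :
    (evenPart.map dbl).addSubgroupOf leechLattice = parityHom.ker := by
  ext x
  rw [AddSubgroup.mem_addSubgroupOf, AddMonoidHom.mem_ker]
  show _ ↔ (((x : GolayPt → ℤ) none : ℤ) : ZMod 2) = 0
  rw [ZMod.intCast_zmod_eq_zero_iff_dvd]
  constructor
  · rintro ⟨a, -, ha⟩
    rw [← ha]; simp [dbl_apply]
  · intro h
    obtain ⟨m, a, hm, h1, -, -⟩ := exists_rep x.2
    have hm0 : m = 0 := by have := h1 none; push_cast at h; omega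
    subst hm0
    have ha : dbl a = (x : GolayPt → ℤ) := funext fun i => by
      rw [dbl_apply, Pi.smul_apply, h1 i]; simp
    exact ⟨a, show dbl a ∈ leechLattice by rw [ha]; exact x.2, ha⟩

theorem index_leech : leechLattice.index = 2 ^ 36 := by
  have hle : evenPart.map dbl ≤ leechLattice := AddSubgroup.map_comap_le _ _
  have h := AddSubgroup.relIndex_mul_index hle
  rw [index_map_dbl, index_evenPart, AddSubgroup.relIndex, map_evenPart_addSubgroupOf,
    AddSubgroup.index_ker, AddMonoidHom.range_eq_top.2, Nat.card_congr AddSubgroup.topEquiv.toEquiv,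
    Nat.card_zmod] at h
  · norm_num at h ⊢; omega
  · intro c
    refine ⟨(c.val : ℤ) • ⟨Spor.vecV, mem_leechLattice.2 Spor.vecV_mem_leechSet⟩, ?_⟩
    rw [map_zsmul]
    show (c.val : ℤ) • (((Spor.vecV none : ℤ)) : ZMod 2) = c
    rw [show Spor.vecV none = -5 from rfl]
    revert c; decide

/-- Twice the lattice. -/
def twiceLattice : AddSubgroup (GolayPt → ℤ) := leechLattice.map dbl

theorem mem_twiceLattice {x : GolayPt → ℤ} :
    x ∈ twiceLattice ↔ ∃ z ∈ leechLattice, x = 2 • z :=
  ⟨fun ⟨z, hz, h⟩ => ⟨z, hz, h.symm⟩, fun ⟨z, hz, h⟩ => ⟨z, hz, h.symm⟩⟩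

theorem twiceLattice_le : twiceLattice ≤ leechLattice := by
  rintro x ⟨z, hz, rfl⟩
  exact leechLattice.nsmul_mem hz 2

theorem relIndex_twice : twiceLattice.relIndex leechLattice = 2 ^ 24 := by
  have h := AddSubgroup.relIndex_mul_index twiceLattice_le
  rw [twiceLattice, index_map_dbl, index_leech, mul_comm (2 ^ 36) (2 ^ 24)] at h
  exact Nat.eq_of_mul_eq_mul_right (by positivity) h

theorem natCard_leech_mod_two :
    Nat.card (leechLattice ⧸ twiceLattice.addSubgroupOf leechLattice) = 2 ^ 24 :=
  relIndex_twice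

end Cfsg.Agent.Leech
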