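import Cfsg.Agent.Lib.Leech.McLRankFour
import Cfsg.Agent.Lib.MathieuFusion.Certs
import Cfsg.Agent.Lib.Fusion3.Equiv

/-!
# The 2-fusion system of the McLaughlin group is simple

A Sylow 2-subgroup lies in a point stabiliser M22 of the action on 2025 points and fixes no
other point.

* `mcl_iso` : the group of the definitions is `mclGroup`
* `isSimple_of_overgroup`
* `isSimple_fusion_mcl`
-/

set_option autoImplicit false

open Cfsg Cfsg.FusionSystem MulAction
open scoped Pointwise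

namespace Cfsg.Agent.Leech

/-- The group of the definitions is the stabiliser of the normal pair. -/
theorem mcl_iso : Nonempty (↥Cfsg.Spor.McL ≃* ↥mclGroup) := by
  have e1 : Nonempty (↥Cfsg.Spor.McL ≃*
      ↥(stabilizer Cfsg.Co0 (-Cfsg.Spor.leechV) ⊓ stabilizer Cfsg.Co0 Cfsg.Spor.leechU)) := by
    have hiff : ∀ g : Cfsg.Co0, g • (-Cfsg.Spor.leechV) = -Cfsg.Spor.leechV ↔
        g • Cfsg.Spor.leechV = Cfsg.Spor.leechV := fun g => by rw [smul_vneg, neg_inj]
    exact ⟨{ toFun := fun g => ⟨⟨g.1, g.2.1.1⟩, (hiff ⟨g.1, g.2.1.1⟩).mpr g.2.1.2, g.2.2⟩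
             invFun := fun g => ⟨g.1.1, ⟨g.1.2, (hiff g.1).mp g.2.1⟩, g.2.2⟩
             left_inv := fun _ => rfl
             right_inv := fun _ => rfl
             map_mul' := fun _ _ => rfl }⟩
  obtain ⟨e1⟩ := e1
  obtain ⟨g, g1, g2⟩ := exists_normal_six
    (u := -Cfsg.Spor.leechV) (v := Cfsg.Spor.leechU)
    (by decide +kernel) (by decide +kernel) (by decide +kernel)
  obtain ⟨e2⟩ := smul_stabilizer_pair g1 g2
  exact ⟨e1.trans e2⟩

/-- A Sylow subgroup inside an overgroup with the fusion facts carries a simple fusion system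
as soon as the overgroup contains its normaliser. -/
theorem isSimple_of_overgroup {G H : Type*} [Group G] [Finite G] [Group H] (j : H →* G)
    (hj : Function.Injective j) (S0 : Sylow 2 H) (S : Sylow 2 G)
    (hS : (S : Subgroup G) = (S0 : Subgroup H).map j)
    (hne : (S0 : Subgroup H) ≠ ⊥)
    (hsc : ∀ T : Subgroup H, (groupFusionSystem (S0 : Subgroup H)).StronglyClosed T →
      T = ⊥ ∨ T = (S0 : Subgroup H))
    (hN0 : ∀ g : H, g ∈ Subgroup.normalizer ((S0 : Subgroup H) : Set H) → g ∈ (S0 : Subgroup H))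
    (hN : ∀ g : G, g ∈ Subgroup.normalizer ((S : Subgroup G) : Set G) → g ∈ j.range) :
    (groupFusionSystem (S : Subgroup G)).IsSimple 2 := by
  refine MathieuFusion.isSimple_of_selfNormalizing S
    (fun h => hne ((Subgroup.map_eq_bot_iff_of_injective _ hj).1 (hS.symm.trans h))) ?_ ?_
  · intro T hT
    have hTr : T ≤ j.range := hT.1.trans (hS.trans_le (Subgroup.map_le_range _ _))
    have hT0 : (groupFusionSystem (S0 : Subgroup H)).StronglyClosed (T.comap j) := by
      refine ⟨fun x hx => ?_, fun R hR φ hφ x => ?_⟩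
      · obtain ⟨y, hy, e⟩ := hS ▸ hT.1 hx
        exact hj e ▸ hy
      · obtain ⟨-, hφS, g, hg⟩ := hφ
        show j (φ x) ∈ T
        have hle : Subgroup.zpowers (j x) ≤ T := Subgroup.zpowers_le.2 (hR x.2)
        have hmem : j (φ x) ∈ (S : Subgroup G) := hS ▸ Subgroup.mem_map_of_mem j (hφS x)
        have hcS : Subgroup.zpowers (j x) ≤
            (S : Subgroup G).comap (MulAut.conj (j g)).toMonoidHom :=
          Subgroup.zpowers_le.2 (show j g * j x * (j g)⁻¹ ∈ (S : Subgroup G) by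
            rw [← map_inv, ← map_mul, ← map_mul, ← hg]; exact hmem)
        obtain ⟨ψ, hψ, e⟩ := Fusion.isMap_group_iff.2
          ⟨hle.trans hT.1, j g, fun y hy => ⟨hcS hy, rfl⟩⟩
        have := hT.2 _ hle ψ hψ ⟨j x, Subgroup.mem_zpowers (j x)⟩
        rw [e (j x) (Subgroup.mem_zpowers (j x))] at this
        rw [hg, map_mul, map_mul, map_inv]
        exact this
    rcases hsc _ hT0 with h | h
    · left
      rw [← Subgroup.map_comap_eq_self hTr, h, Subgroup.map_bot]
    · right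
      rw [← Subgroup.map_comap_eq_self hTr, h, hS]
  · intro g hg
    obtain ⟨x, rfl⟩ := hN g hg
    rw [hS]
    refine Subgroup.mem_map_of_mem j (hN0 x (Subgroup.mem_normalizer_iff.2 fun y => ?_))
    have := Subgroup.mem_normalizer_iff.1 hg (j y)
    rw [hS, ← map_inv, ← map_mul, ← map_mul, Subgroup.mem_map_iff_mem hj,
      Subgroup.mem_map_iff_mem hj] at this
    exact this

/-- The embedding of M22 as the stabiliser of `baseU'`. -/
noncomputable def mclM22 : ↥Cfsg.Spor.M22 →* mclGroup :=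
  (Subgroup.inclusion (inf_le_left : stab3 ≤ mclGroup)).comp stab3Equiv.toMonoidHom

theorem mclM22_injective : Function.Injective mclM22 :=
  (Subgroup.inclusion_injective (inf_le_left : stab3 ≤ mclGroup)).comp stab3Equiv.injective

theorem mem_range_mclM22 {g : mclGroup} : g ∈ mclM22.range ↔ (g : Co0) • baseU' = baseU' := by
  constructor
  · rintro ⟨x, rfl⟩
    exact (stab3_fix (stab3Equiv x).2).2.2
  · intro h
    have hm : (g : Co0) ∈ stab3 := ⟨g.2, mem_stabilizer_iff.2 h⟩
    obtain ⟨x, hx⟩ := stab3Equiv.surjective ⟨_, hm⟩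
    exact ⟨x, Subtype.ext (congrArg Subtype.val hx : _)⟩

/-- A subgroup of order 128 of the point stabiliser fixes no other point. -/
theorem fix_unique {P : Subgroup mclGroup} (hP : Nat.card P = 128)
    (hU : ∀ g ∈ P, (g : Co0) • baseU' = baseU') {y : leechLattice} (hy : y ∈ mclPts)
    (hfix : ∀ g ∈ P, (g : Co0) • y = y) : y = baseU' := by
  obtain ⟨i, hi⟩ := mclPts_cases hy
  by_cases h0 : i = 0
  · subst h0
    exact hi
  exfalso
  let Q : Subgroup Co0 := P.map mclGroup.subtype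
  have hQ : Nat.card Q = 128 := by
    rw [← hP]
    exact (Nat.card_congr (P.equivMapOfInjective _ mclGroup.subtype_injective).toEquiv).symm
  have hle : Q ≤ stab3 ⊓ stabilizer Co0 y := by
    rintro _ ⟨g, hg, rfl⟩
    exact ⟨⟨g.2, mem_stabilizer_iff.2 (hU g hg)⟩, mem_stabilizer_iff.2 (hfix g hg)⟩
  have horb : {z | ∃ a ∈ stab3, a • y = z} = mclPts ∩ mclClass i := by
    rw [← stab3_orbit hy hi]
    ext z
    exact ⟨fun ⟨a, ha, e⟩ => ⟨⟨a, ha⟩, e⟩, fun ⟨a, e⟩ => ⟨a.1, a.2, e⟩⟩
  have h := ncard_orbit_mul stab3 y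
  rw [horb, ncard_mclClass, natCard_stab3] at h
  obtain ⟨k, hk⟩ := Subgroup.card_dvd_of_le hle
  rw [hQ] at hk
  rw [hk] at h
  fin_cases i <;> simp at h h0 <;> omega

theorem isSimple_fusion_mcl (S : Sylow 2 mclGroup) :
    (groupFusionSystem (S : Subgroup mclGroup)).IsSimple 2 := by
  have : Fact (Nat.Prime 2) := ⟨Nat.prime_two⟩
  have : Finite mclGroup := inferInstance
  have hM : Nat.card ↥Cfsg.Spor.M22 = 443520 := Golay.natCard_m22 none_ne_pO
  have hfac : ∀ n k m : ℕ, n = 2 ^ k * m → ¬ 2 ∣ m → n.factorization 2 = k := by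
    intro n k m h hm
    have hm0 : m ≠ 0 := fun e => hm (e ▸ dvd_zero 2)
    rw [h, Nat.factorization_mul (by positivity) hm0, Finsupp.add_apply,
      Nat.Prime.factorization_pow Nat.prime_two, Finsupp.single_eq_same,
      Nat.factorization_eq_zero_of_not_dvd hm, add_zero]
  obtain ⟨S0⟩ : Nonempty (Sylow 2 ↥Cfsg.Spor.M22) := Sylow.nonempty
  have hS0 : Nat.card (S0 : Subgroup ↥Cfsg.Spor.M22) = 128 := by
    rw [S0.card_eq_multiplicity, hM, hfac 443520 7 3465 (by norm_num) (by norm_num)]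
    norm_num
  have hmap : Nat.card ((S0 : Subgroup ↥Cfsg.Spor.M22).map mclM22) = 128 := by
    rw [← hS0]
    exact (Nat.card_congr
      ((S0 : Subgroup ↥Cfsg.Spor.M22).equivMapOfInjective _ mclM22_injective).toEquiv).symm
  have hG : (Nat.card mclGroup).factorization 2 = 7 :=
    hfac _ 7 7016625 (by rw [natCard_mclGroup]; norm_num) (by norm_num)
  obtain ⟨g, hg⟩ := exists_smul_eq mclGroup
    (Sylow.ofCard ((S0 : Subgroup ↥Cfsg.Spor.M22).map mclM22) (by rw [hmap, hG]; norm_num)) S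
  obtain ⟨h1, h2, h3⟩ := MathieuFusion.facts_m22 S0
  let j : ↥Cfsg.Spor.M22 →* mclGroup := (MulAut.conj g).toMonoidHom.comp mclM22
  have hj : Function.Injective j := (MulAut.conj g).injective.comp mclM22_injective
  have hS : (S : Subgroup mclGroup) = (S0 : Subgroup ↥Cfsg.Spor.M22).map j := by
    rw [← hg, Sylow.coe_subgroup_smul, Sylow.coe_ofCard, ← Subgroup.map_map]
    rfl
  refine isSimple_of_overgroup j hj S0 S hS h1 h2 h3 fun x hx => ?_
  have hk : g⁻¹ * x * g ∈ mclM22.range := by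
    rw [mem_range_mclM22]
    refine fix_unique hmap (fun a ha => mem_range_mclM22.1 (Subgroup.map_le_range _ _ ha))
      ?_ fun a ha => ?_
    · rw [← mclGroup_orbit]
      exact ⟨_, (g⁻¹ * x * g).2, rfl⟩
    · obtain ⟨b, hb, rfl⟩ := ha
      have hxb : (g * mclM22 b * g⁻¹) ∈ (S : Subgroup mclGroup) := by
        rw [hS]; exact ⟨b, hb, rfl⟩
      have := (Subgroup.mem_normalizer_iff''.1 hx _).1 hxb
      rw [hS] at this
      obtain ⟨c, hc, he⟩ := this
      have he' : mclM22 b * (g⁻¹ * x * g) = (g⁻¹ * x * g) * mclM22 c := by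
        have he2 : g * mclM22 c * g⁻¹ = x⁻¹ * (g * mclM22 b * g⁻¹) * x := he
        calc mclM22 b * (g⁻¹ * x * g) = g⁻¹ * x * (x⁻¹ * (g * mclM22 b * g⁻¹) * x) * g := by group
          _ = (g⁻¹ * x * g) * mclM22 c := by rw [← he2]; group
      have hb' : ((mclM22 b : mclGroup) : Co0) • ((g⁻¹ * x * g : mclGroup) : Co0) • baseU' =
          ((g⁻¹ * x * g : mclGroup) : Co0) • baseU' := by
        rw [← mul_smul, ← Subgroup.coe_mul, he', Subgroup.coe_mul, mul_smul,
          mem_range_mclM22.1 ⟨c, rfl⟩]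
      exact hb'
  obtain ⟨y, hy⟩ := hk
  exact ⟨y, by show g * mclM22 y * g⁻¹ = x; rw [hy]; group⟩

end Cfsg.Agent.Leech
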