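import Cfsg.Agent.Lib.Leech.McLSimple

/-!
# Suborbits of the McLaughlin group on its 2025 points

* `stab3_orbit`, `exists_mclClass`, `orbit_conj`
-/

set_option autoImplicit false

namespace Cfsg.Agent.Leech

open MulAction

theorem stab3_none {g : Co0} (hg : g ∈ stab3) (y : leechLattice) :
    ((g • y : leechLattice) : GolayPt → ℤ) none = (y : GolayPt → ℤ) none := by
  obtain ⟨σ, hσ, h1, -, rfl⟩ := exists_perm_of_stab3 hg
  rw [vec_permEl, show σ.symm none = none from σ.symm_apply_eq.2 h1.symm]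

theorem mclClass_none {z : leechLattice} {i : Fin 4} (hi : z ∈ mclClass i) :
    (z : GolayPt → ℤ) none = ![4, 0, 2, 1] i := by
  fin_cases i
  · rw [show z = baseU' from hi]; decide +kernel
  · obtain ⟨o, -, ⟨h, -⟩, he⟩ := hi
    rw [he]; simp [octVec, h]
  · obtain ⟨o, r, -, ⟨h, -⟩, -, hr, -, he⟩ := hi
    rw [he]; simp [octVec, h, none_ne_pO, Ne.symm hr]
  · obtain ⟨o, k, -, ⟨h, -⟩, hk, -, he⟩ := hi
    rw [he]; simp [oddVec, fvD, h, show none ≠ k from fun e => h (e ▸ hk)]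

theorem stab3_le : stab3 ≤ mclGroup := inf_le_left

theorem smul_mem_mclPts {g : Co0} (hg : g ∈ mclGroup) {y : leechLattice} (hy : y ∈ mclPts) :
    g • y ∈ mclPts :=
  ⟨by rw [sqNorm_smul]; exact hy.1, by rw [dotInt_smul_of_eq (mclGroup_fix hg).1]; exact hy.2.1,
    by rw [dotInt_smul_of_eq (mclGroup_fix hg).2]; exact hy.2.2⟩

/-- The orbits of the point stabiliser are the classes. -/
theorem stab3_orbit {y : leechLattice} {i : Fin 4} (hy : y ∈ mclPts) (hi : y ∈ mclClass i) :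
    MulAction.orbit stab3 y = mclPts ∩ mclClass i := by
  ext z
  constructor
  · rintro ⟨⟨g, hg⟩, rfl⟩
    refine ⟨smul_mem_mclPts (stab3_le hg) hy, ?_⟩
    obtain ⟨j, hj⟩ := mclPts_cases (smul_mem_mclPts (stab3_le hg) hy)
    have h := mclClass_none hj
    rw [stab3_none hg, mclClass_none hi] at h
    have : i = j := by revert h; fin_cases i <;> fin_cases j <;> decide
    exact this ▸ hj
  · rintro ⟨-, hz⟩
    obtain ⟨g, hg, he⟩ := mcl_trans i hi hz
    exact ⟨⟨g, hg⟩, he⟩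

theorem exists_mclClass (i : Fin 4) : ∃ y, y ∈ mclPts ∩ mclClass i :=
  Set.nonempty_of_ncard_ne_zero (by rw [ncard_mclClass]; fin_cases i <;> simp)

theorem orbit_conj {H K : Subgroup Co0} (g : Co0) (h : H.map (MulAut.conj g).toMonoidHom = K)
    (y : leechLattice) :
    (MulAction.orbit H (g⁻¹ • y)).ncard = (MulAction.orbit K y).ncard := by
  rw [← Set.ncard_image_of_injective (MulAction.orbit H (g⁻¹ • y)) (MulAction.injective g)]
  congr 1
  ext z
  constructor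
  · rintro ⟨_, ⟨⟨a, ha⟩, rfl⟩, rfl⟩
    refine ⟨⟨g * a * g⁻¹, h ▸ ⟨a, ha, rfl⟩⟩, ?_⟩
    show (g * a * g⁻¹) • y = g • a • g⁻¹ • y
    rw [mul_smul, mul_smul]
  · rintro ⟨⟨k, hk⟩, rfl⟩
    rw [← h] at hk
    obtain ⟨a, ha, rfl⟩ := hk
    refine ⟨a • g⁻¹ • y, ⟨⟨a, ha⟩, rfl⟩, ?_⟩
    show g • a • g⁻¹ • y = (g * a * g⁻¹) • y
    rw [mul_smul, mul_smul]

end Cfsg.Agent.Leech
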