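import Cfsg.Agent.Lib.Leech.Shapes
import Cfsg.Agent.Lib.Golay.OctadStab

/-!
# An octad and two outside points; sign sets with prescribed trace on an octad

* `exists_map_octad_two` : `M24` is transitive on an octad with an ordered pair of outside points
* `exists_sign_octad` : every even subset of an octad is the trace of a code word avoiding two
  given outside points
-/

set_option autoImplicit false

open scoped Pointwise

namespace Cfsg.Agent.Leech

open Golay in
/-- Permutations stabilising the first octad. -/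
def octGens : List ℕ :=
  ((List.range 6).flatMap fun k => transTable.getD k []).filter
    fun d => imgMask d octad0 == octad0

open Golay in
/-- Images of `q` under the octad stabiliser elements fixing bit 4. -/
def outStep (q : ℕ) : List ℕ :=
  octGens.flatMap fun g =>
    ((transTable.getD 6 []).filter fun h => fn h 4 == fn g 4 && fn h (fn g 4) == 4).map
      fun h => fn h (fn g q)

open Golay in
theorem outStep_check : (((List.range 24).all fun b => octad0.testBit b || b == 4 ||
      ((outStep 6).flatMap outStep).contains b) &&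
    octGens.all (fun d => isAut d && imgMask d octad0 == octad0) &&
    (transTable.getD 6 []).all (fun d => isAut d && imgMask d octad0 == octad0)) = true := by
  decide +kernel

open Golay in
theorem exists_of_outStep {q : GolayPt} {b : ℕ} (hb : b ∈ outStep (idx q)) :
    ∃ σ ∈ octadStab (pts octad0), σ (pt 4) = pt 4 ∧ σ q = pt b := by
  simp only [outStep, List.mem_flatMap, List.mem_map, List.mem_filter, Bool.and_eq_true,
    beq_iff_eq] at hb
  obtain ⟨g, hg, h, ⟨hh, -, h4⟩, rfl⟩ := hb
  have hc := outStep_check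
  rw [Bool.and_eq_true, Bool.and_eq_true] at hc
  obtain ⟨ga, gb⟩ := Bool.and_eq_true_iff.1 (List.all_eq_true.1 hc.1.2 g hg)
  obtain ⟨ha, hb⟩ := Bool.and_eq_true_iff.1 (List.all_eq_true.1 hc.2 h hh)
  have mem : ∀ d, isAut d = true → (imgMask d octad0 == octad0) = true →
      toPerm d ∈ octadStab (pts octad0) := by
    intro d hd he
    refine ⟨toPerm_mem_M24 hd, ?_⟩
    show toPerm d • pts octad0 = pts octad0
    rw [← pts_imgMask (validPerm_of_isAut hd), beq_iff_eq.1 he]
  have app : ∀ d, isAut d = true → ∀ i < 24, toPerm d (pt i) = pt (fn d i) := fun d hd i hi => by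
    rw [toPerm_apply (validPerm_of_isAut hd), idx_pt hi]
  refine ⟨toPerm h * toPerm g, mul_mem (mem h ha hb) (mem g ga gb), ?_, ?_⟩
  · rw [Equiv.Perm.mul_apply, app g ga 4 (by norm_num),
      app h ha _ (fn_lt_of_valid (validPerm_of_isAut ga) (by norm_num)), h4]
  · rw [Equiv.Perm.mul_apply, toPerm_apply (validPerm_of_isAut ga),
      app h ha _ (fn_lt_of_valid (validPerm_of_isAut ga) (idx_lt q))]

open Golay in
theorem exists_from_base {o : Finset GolayPt} (ho : o ∈ octads) {p q : GolayPt} (hp : p ∉ o)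
    (hq : q ∉ o) (hpq : p ≠ q) :
    ∃ σ ∈ M24, σ • pts octad0 = o ∧ σ (pt 4) = p ∧ σ (pt 6) = q := by
  obtain ⟨s, hs, hso⟩ := exists_map_octad octad0_mem ho
  have h4 : pt 4 ∉ pts octad0 := by decide +kernel
  have hp' : s⁻¹ p ∉ pts octad0 := fun h => hp (by
    rw [← hso]
    have := Finset.smul_mem_smul_finset (a := s) h
    rwa [Equiv.Perm.smul_def, Equiv.Perm.inv_def, Equiv.apply_symm_apply] at this)
  obtain ⟨t, ht, htp⟩ := exists_octad_point octad0_mem h4 hp'
  rw [mem_octadFix] at ht
  have hto : t • pts octad0 = pts octad0 := by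
    refine Finset.eq_of_subset_of_card_le (fun x hx => ?_) (by rw [Finset.card_smul_finset])
    obtain ⟨y, hy, rfl⟩ := Finset.mem_smul_finset.1 hx
    rw [Equiv.Perm.smul_def, ht.2 y hy]; exact hy
  have hst : (s * t) • pts octad0 = o := by rw [mul_smul, hto, hso]
  have h4' : (s * t) (pt 4) = p := by
    rw [Equiv.Perm.mul_apply, htp, Equiv.Perm.inv_def, Equiv.apply_symm_apply]
  set r := (s * t)⁻¹ q with hr
  have hrq : (s * t) r = q := by rw [hr, Equiv.Perm.inv_def, Equiv.apply_symm_apply]
  have hr' : r ∉ pts octad0 := fun h => hq (by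
    rw [← hrq, ← hst]; exact Finset.smul_mem_smul_finset h)
  have hr4 : idx r ≠ 4 := fun e => hpq (by rw [← h4', ← hrq, ← pt_idx r, e])
  have hc := outStep_check
  rw [Bool.and_eq_true, Bool.and_eq_true] at hc
  have := List.all_eq_true.1 hc.1.1 (idx r) (List.mem_range.2 (idx_lt r))
  simp only [Bool.or_eq_true, beq_iff_eq] at this
  simp only [mem_pts, Bool.not_eq_true] at hr'
  simp only [hr', hr4, Bool.false_eq_true, or_self, false_or, List.contains_iff_mem,
    List.mem_flatMap] at this
  obtain ⟨b, hb, hrb⟩ := this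
  have h24 : b < 24 := by
    revert hb
    exact (by decide +kernel : ∀ b ∈ outStep 6, b < 24) b
  have e6 : idx (pt 6) = 6 := idx_pt (by norm_num)
  obtain ⟨a1, ha1, a14, a16⟩ := exists_of_outStep (q := pt 6) (b := b) (by rw [e6]; exact hb)
  obtain ⟨a2, ha2, a24, a26⟩ := exists_of_outStep (q := pt b) (b := idx r)
    (by rw [idx_pt h24]; exact hrb)
  refine ⟨s * t * (a2 * a1), mul_mem (mul_mem hs ht.1) (mul_mem ha2.1 ha1.1), ?_, ?_, ?_⟩
  · rw [mul_smul, mul_smul a2, show a1 • pts octad0 = pts octad0 from ha1.2,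
      show a2 • pts octad0 = pts octad0 from ha2.2, hst]
  · rw [Equiv.Perm.mul_apply, Equiv.Perm.mul_apply a2, a14, a24, h4']
  · rw [Equiv.Perm.mul_apply, Equiv.Perm.mul_apply a2, a16, a26, pt_idx, hrq]

theorem exists_map_octad_two {o o' : Finset GolayPt} (ho : o ∈ octads) (ho' : o' ∈ octads)
    {p q p' q' : GolayPt} (hp : p ∉ o) (hq : q ∉ o) (hpq : p ≠ q) (hp' : p' ∉ o') (hq' : q' ∉ o')
    (hpq' : p' ≠ q') : ∃ σ ∈ M24, σ • o = o' ∧ σ p = p' ∧ σ q = q' := by
  obtain ⟨a, ha, a1, a2, a3⟩ := exists_from_base ho hp hq hpq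
  obtain ⟨b, hb, b1, b2, b3⟩ := exists_from_base ho' hp' hq' hpq'
  refine ⟨b * a⁻¹, mul_mem hb (inv_mem ha), ?_, ?_, ?_⟩
  · rw [mul_smul, ← a1, inv_smul_smul, b1]
  · rw [Equiv.Perm.mul_apply, ← a2, Equiv.Perm.inv_def, Equiv.symm_apply_apply, b2]
  · rw [Equiv.Perm.mul_apply, ← a3, Equiv.Perm.inv_def, Equiv.symm_apply_apply, b3]

/-- Code words whose traces on the first octad generate its even subsets and avoid bits 4, 6. -/
def traceGens : List ℕ := [2204803, 864389, 1618953, 7417889, 6837377, 7767041, 14254209]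

open Golay in
theorem traceGens_check : ((List.range 128).all fun x =>
      let m := encAux traceGens x
      isCode m && !m.testBit 4 && !m.testBit 6 && popcount (m &&& octad0) % 2 == 0) = true ∧
    ((List.range 128).map fun x => encAux traceGens x &&& octad0).Nodup := by
  decide +kernel

theorem card_even_powerset {α : Type*} [DecidableEq α] (o : Finset α) (ho : o.card = 8) :
    (o.powerset.filter fun S => Even S.card).card = 128 := by
  rw [Finset.card_filter,
    Finset.sum_powerset_apply_card (α := ℕ) (fun j => if Even j then 1 else 0), ho]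
  simp only [Finset.sum_range_succ, Finset.sum_range_zero]
  decide

open Golay in
theorem exists_sign_base {S : Finset GolayPt} (hS : S ⊆ pts octad0) (h : Even S.card) :
    ∃ c ∈ supports (golayCode : Set (GolayPt → ZMod 2)), c ∩ pts octad0 = S ∧
      pt 4 ∉ c ∧ pt 6 ∉ c := by
  obtain ⟨h1, h2⟩ := traceGens_check
  simp only [List.all_eq_true, List.mem_range, Bool.and_eq_true, Bool.not_eq_true', beq_iff_eq] at h1
  let f : ℕ → Finset GolayPt := fun x => pts (encAux traceGens x &&& octad0)
  have hsub : (Finset.range 128).image f ⊆ (pts octad0).powerset.filter fun S => Even S.card := by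
    intro T hT
    obtain ⟨x, hx, rfl⟩ := Finset.mem_image.1 hT
    rw [Finset.mem_range] at hx
    refine Finset.mem_filter.2 ⟨Finset.mem_powerset.2 ?_, ?_⟩
    · simp only [f]; rw [pts_and]; exact Finset.inter_subset_right
    · simp only [f]; rw [card_pts, Nat.even_iff]; exact (h1 x hx).2
  have hinj : Set.InjOn f (Finset.range 128) := by
    intro x hx y hy e
    rw [Finset.mem_coe, Finset.mem_range] at hx hy
    have e' := pts_injOn (Nat.and_lt_two_pow _ (by decide +kernel))
      (Nat.and_lt_two_pow _ (by decide +kernel)) e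
    exact List.inj_on_of_nodup_map h2 (List.mem_range.2 hx) (List.mem_range.2 hy) e'
  have heq := Finset.eq_of_subset_of_card_le hsub (by
    rw [Finset.card_image_of_injOn hinj, Finset.card_range,
      card_even_powerset _ octad0_mem.2])
  obtain ⟨x, hx, rfl⟩ := Finset.mem_image.1
    (heq.symm ▸ Finset.mem_filter.2 ⟨Finset.mem_powerset.2 hS, h⟩)
  rw [Finset.mem_range] at hx
  obtain ⟨⟨⟨hc, h4⟩, h6⟩, -⟩ := h1 x hx
  refine ⟨pts (encAux traceGens x), (pts_mem_supports_iff (lt_of_isCode hc)).2 hc,
    (pts_and _ _).symm, ?_, ?_⟩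
  · rw [mem_pts, idx_pt (by norm_num), h4]; simp
  · rw [mem_pts, idx_pt (by norm_num), h6]; simp

open Golay in
theorem exists_sign_octad {o S : Finset GolayPt} (ho : o ∈ octads) (hS : S ⊆ o) (h : Even S.card)
    {p q : GolayPt} (hp : p ∉ o) (hq : q ∉ o) (hpq : p ≠ q) :
    ∃ c ∈ supports (golayCode : Set (GolayPt → ZMod 2)), c ∩ o = S ∧ p ∉ c ∧ q ∉ c := by
  obtain ⟨σ, hσ, s1, s2, s3⟩ := exists_from_base ho hp hq hpq
  obtain ⟨c, hc, c1, c2, c3⟩ := exists_sign_base (S := σ⁻¹ • S)
    (by rw [← Finset.smul_finset_subset_smul_finset_iff (a := σ), smul_inv_smul, s1]; exact hS)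
    (by rw [Finset.card_smul_finset]; exact h)
  refine ⟨σ • c, smul_mem_supports hσ hc, ?_, ?_, ?_⟩
  · rw [← s1, ← Finset.smul_finset_inter, c1, smul_inv_smul]
  · rw [← s2, ← Equiv.Perm.smul_def, Finset.smul_mem_smul_finset_iff]; exact c2
  · rw [← s3, ← Equiv.Perm.smul_def, Finset.smul_mem_smul_finset_iff]; exact c3

end Cfsg.Agent.Leech
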