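import Cfsg.Agent.Lib.Leech.MinCensus
import Cfsg.Agent.Lib.Leech.OctadPairOut
import Cfsg.Agent.Lib.Leech.FrameMaps
import Cfsg.Agent.Lib.Golay.Mathieu
import Cfsg.Agent.Lib.SteinerCount.Basic

/-!
# Orbits of the monomial group on minimal vectors

* `oddVec`, `stabU`
* `exists_std_pair/octad/odd` : the three shapes are orbits of `stdStab`
* `ncard_min`, `ncard_octadShape`, `ncard_oddShape`
-/

set_option autoImplicit false

open scoped Pointwise symmDiff

namespace Cfsg.Agent.Leech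

/-! ### Normal forms -/

/-- `(∓3, ±1²³)` with the minus signs prescribed by `c`. -/
def oddVec (k : GolayPt) (c : Finset GolayPt) : GolayPt → ℤ :=
  fun i => if i ∈ c then -fvD k i else fvD k i

theorem oddVec_mem {k : GolayPt} {c : Finset GolayPt}
    (hc : c ∈ supports (golayCode : Set (GolayPt → ZMod 2))) : oddVec k c ∈ leechLattice :=
  (signEl c hc • (⟨fvD k, fvD_mem k⟩ : leechLattice)).2

theorem sqNorm_oddVec (k : GolayPt) (c : Finset GolayPt) : sqNorm (oddVec k c) = 32 := by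
  have hs : ∀ i, oddVec k c i ^ 2 = (if i = k then 8 else 0) + 1 := fun i => by
    simp only [oddVec, fvD]; split_ifs <;> norm_num
  rw [sqNorm, Finset.sum_congr rfl fun i _ => hs i, Finset.sum_add_distrib, Finset.sum_ite_eq',
    if_pos (Finset.mem_univ _), Finset.sum_const, Finset.card_univ, card_pt]
  rfl

theorem oddVec_abs (k : GolayPt) (c : Finset GolayPt) (i : GolayPt) :
    (oddVec k c i = 3 ∨ oddVec k c i = -3) ↔ i = k := by
  simp only [oddVec, fvD]; split_ifs with h1 h2 h2 <;> simp [h2]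

theorem oddVec_res (k : GolayPt) (c : Finset GolayPt) (i : GolayPt) :
    i ∈ c ↔ oddVec k c i % 4 = 3 := by
  simp only [oddVec, fvD]; split_ifs with h1 h2 h2 <;> simp [h1]

theorem isOdd_oddVec {k : GolayPt} {c : Finset GolayPt}
    (hc : c ∈ supports (golayCode : Set (GolayPt → ZMod 2))) : IsOdd (oddVec k c) :=
  ⟨k, c, hc, (oddVec_abs k c k).2 rfl,
    fun i hi => by simp only [oddVec, fvD, if_neg hi]; split_ifs <;> simp, oddVec_res k c⟩

theorem exists_oddVec {x : GolayPt → ℤ} (h : IsOdd x) :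
    ∃ k c, c ∈ supports (golayCode : Set (GolayPt → ZMod 2)) ∧ x = oddVec k c := by
  obtain ⟨k, c, hc, hk, hrest, hres⟩ := h
  refine ⟨k, c, hc, funext fun i => ?_⟩
  have := hres i
  by_cases hi : i = k
  · subst hi
    rcases hk with e | e <;> rw [e] at this ⊢ <;> norm_num at this <;> simp [oddVec, fvD, this]
  · rcases hrest i hi with e | e <;> rw [e] at this ⊢ <;> norm_num at this <;>
      simp [oddVec, fvD, this, hi]

theorem oddVec_inj {k k' : GolayPt} {c c' : Finset GolayPt} (h : oddVec k c = oddVec k' c') :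
    k = k' ∧ c = c' :=
  ⟨(oddVec_abs k' c' k).1 (h ▸ (oddVec_abs k c k).2 rfl),
    Finset.ext fun i => by rw [oddVec_res k c i, oddVec_res k' c' i, h]⟩

theorem octVec_inj {o o' M M' : Finset GolayPt} (hM : M ⊆ o) (hM' : M' ⊆ o')
    (h : octVec o M = octVec o' M') : o = o' ∧ M = M' := by
  have ho : o = o' := Finset.ext fun i => by
    have := congrFun h i
    simp only [octVec] at this
    split_ifs at this <;> simp_all
  subst ho
  refine ⟨rfl, Finset.ext fun i => ?_⟩
  have := congrFun h i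
  simp only [octVec] at this
  by_cases hi : i ∈ o
  · simp only [if_pos hi] at this
    split_ifs at this <;> simp_all
  · exact iff_of_false (fun h => hi (hM h)) (fun h => hi (hM' h))

theorem pairVec_comm (i j : GolayPt) (s t : ℤ) (h : (2 : ℤ) ∣ s + t) :
    pairVec i j s t h = pairVec j i t s (by rwa [add_comm]) :=
  Subtype.ext (by rw [coe_pairVec, coe_pairVec, add_comm])

theorem signEl_smul_octVec {c o M : Finset GolayPt}
    (hc : c ∈ supports (golayCode : Set (GolayPt → ZMod 2))) {v : leechLattice}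
    (hv : (v : GolayPt → ℤ) = octVec o M) :
    ((signEl c hc • v : leechLattice) : GolayPt → ℤ) = octVec o (M ∆ (c ∩ o)) := by
  funext i
  rw [vec_signEl, hv]
  by_cases h1 : i ∈ o <;> by_cases h2 : i ∈ M <;> by_cases h3 : i ∈ c <;>
    simp [octVec, Finset.mem_symmDiff, h1, h2, h3]

theorem permEl_smul_octVecM {σ : Equiv.Perm GolayPt} (hσ : σ ∈ M24) {o M : Finset GolayPt}
    {v : leechLattice} (hv : (v : GolayPt → ℤ) = octVec o M) :
    ((permEl σ hσ • v : leechLattice) : GolayPt → ℤ) = octVec (σ • o) (σ • M) := by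
  funext i
  rw [vec_permEl, hv]
  have h : ∀ s : Finset GolayPt, σ.symm i ∈ s ↔ i ∈ σ • s := fun s => by
    rw [← Finset.inv_smul_mem_iff]; rfl
  simp [octVec, h]

theorem signEl_smul_oddVec {c d : Finset GolayPt} {k : GolayPt}
    (hd : d ∈ supports (golayCode : Set (GolayPt → ZMod 2))) {v : leechLattice}
    (hv : (v : GolayPt → ℤ) = oddVec k c) :
    ((signEl d hd • v : leechLattice) : GolayPt → ℤ) = oddVec k (c ∆ d) := by
  funext i
  rw [vec_signEl, hv]
  by_cases h2 : i ∈ c <;> by_cases h3 : i ∈ d <;> simp [oddVec, Finset.mem_symmDiff, h2, h3]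

theorem permEl_smul_oddVec {σ : Equiv.Perm GolayPt} (hσ : σ ∈ M24) {c : Finset GolayPt}
    {k : GolayPt} {v : leechLattice} (hv : (v : GolayPt → ℤ) = oddVec k c) :
    ((permEl σ hσ • v : leechLattice) : GolayPt → ℤ) = oddVec (σ k) (σ • c) := by
  funext i
  rw [vec_permEl, hv]
  have h : σ.symm i ∈ c ↔ i ∈ σ • c := by rw [← Finset.inv_smul_mem_iff]; rfl
  simp [oddVec, fvD, h, Equiv.symm_apply_eq]

theorem exists_pairVec {x : leechLattice} (h : IsPair (x : GolayPt → ℤ)) :
    ∃ (k l : GolayPt) (s t : ℤ) (hst : (2 : ℤ) ∣ s + t), k ≠ l ∧ (s = 1 ∨ s = -1) ∧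
      (t = 1 ∨ t = -1) ∧ x = pairVec k l s t hst := by
  obtain ⟨k, l, hkl, hk, hl, h0⟩ := h
  refine ⟨k, l, (x : GolayPt → ℤ) k / 4, (x : GolayPt → ℤ) l / 4, ?_, hkl, ?_, ?_,
    Subtype.ext (funext fun i => ?_)⟩
  · rcases hk with e | e <;> rcases hl with e' | e' <;> rw [e, e'] <;> norm_num
  · rcases hk with e | e <;> rw [e] <;> norm_num
  · rcases hl with e | e <;> rw [e] <;> norm_num
  · rw [coe_pairVec, Pi.add_apply]
    by_cases hik : i = k
    · subst hik
      rw [Pi.single_eq_same, Pi.single_eq_of_ne hkl]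
      rcases hk with e | e <;> rw [e] <;> norm_num
    · by_cases hil : i = l
      · subst hil
        rw [Pi.single_eq_same, Pi.single_eq_of_ne hik]
        rcases hl with e | e <;> rw [e] <;> norm_num
      · rw [Pi.single_eq_of_ne hik, Pi.single_eq_of_ne hil, h0 i hik hil]; rfl

theorem isPair_pairVec {k l : GolayPt} (hkl : k ≠ l) {s t : ℤ} (hs : s = 1 ∨ s = -1)
    (ht : t = 1 ∨ t = -1) (h : (2 : ℤ) ∣ s + t) :
    IsPair (pairVec k l s t h : GolayPt → ℤ) := by
  refine ⟨k, l, hkl, ?_, ?_, fun i hik hil => ?_⟩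
  · rcases hs with rfl | rfl <;> simp [coe_pairVec, hkl]
  · rcases ht with rfl | rfl <;> simp [coe_pairVec, hkl.symm]
  · simp [coe_pairVec, hik, hil]

theorem signEl_smul_pair {c : Finset GolayPt}
    (hc : c ∈ supports (golayCode : Set (GolayPt → ZMod 2))) {k l : GolayPt} {s t : ℤ}
    (hs : s = 1 ∨ s = -1) (ht : t = 1 ∨ t = -1) (h : (2 : ℤ) ∣ s + t)
    (hk : k ∈ c ↔ s = -1) (hl : l ∈ c ↔ t = -1) :
    signEl c hc • pairVec k l s t h = pairVec k l 1 1 (by norm_num) := by
  refine Subtype.ext (funext fun i => ?_)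
  rw [vec_signEl]
  simp only [coe_pairVec, Pi.add_apply, Pi.single_apply]
  by_cases hik : i = k <;> by_cases hil : i = l <;> rcases hs with rfl | rfl <;>
    rcases ht with rfl | rfl <;> simp_all

/-! ### The shapes exclude each other -/

theorem isPair_values {x : GolayPt → ℤ} (h : IsPair x) (i : GolayPt) :
    x i = 0 ∨ x i = 4 ∨ x i = -4 := by
  obtain ⟨k, l, -, hk, hl, h0⟩ := h
  by_cases hik : i = k
  · subst hik; exact Or.inr hk
  · by_cases hil : i = l
    · subst hil; exact Or.inr hl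
    · exact Or.inl (h0 i hik hil)

theorem isOctad_values {x : GolayPt → ℤ} (h : IsOctad x) (i : GolayPt) :
    x i = 0 ∨ x i = 2 ∨ x i = -2 := by
  obtain ⟨o, M, -, -, -, rfl⟩ := h
  simp only [octVec]; split_ifs <;> simp

theorem not_isPair_of_isOctad {x : GolayPt → ℤ} (h : IsOctad x) : ¬IsPair x := by
  rintro ⟨k, l, -, hk, -, -⟩
  have := isOctad_values h k
  omega

theorem not_isPair_of_isOdd {x : GolayPt → ℤ} (h : IsOdd x) : ¬IsPair x := by
  intro h'
  obtain ⟨k, -, -, hk, -, -⟩ := h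
  have := isPair_values h' k
  omega

theorem not_isOctad_of_isOdd {x : GolayPt → ℤ} (h : IsOdd x) : ¬IsOctad x := by
  intro h'
  obtain ⟨k, -, -, hk, -, -⟩ := h
  have := isOctad_values h' k
  omega

/-! ### The monomial group is transitive on each shape -/

theorem signEl_mem_stdStab (c : Finset GolayPt)
    (hc : c ∈ supports (golayCode : Set (GolayPt → ZMod 2))) : signEl c hc ∈ stdStab :=
  mono_mem_stdStab 1 M24.one_mem c hc

theorem permEl_mem_stdStab (σ : Equiv.Perm GolayPt) (hσ : σ ∈ M24) : permEl σ hσ ∈ stdStab :=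
  mono_mem_stdStab σ hσ ∅ Golay.empty_mem

theorem exists_std_pair {x : leechLattice} (h : IsPair (x : GolayPt → ℤ)) :
    ∃ g ∈ stdStab, g • x = baseU := by
  obtain ⟨k, l, s, t, hst, hkl, hs, ht, rfl⟩ := exists_pairVec h
  obtain ⟨r, hr⟩ : (({k, l} : Finset GolayPt)ᶜ).Nonempty := Finset.card_pos.1 (by
    rw [Finset.card_compl, Finset.card_pair hkl, card_pt]; norm_num)
  simp only [Finset.mem_compl, Finset.mem_insert, Finset.mem_singleton, not_or] at hr
  obtain ⟨c, hc, c1, c2, -⟩ := exists_sign_three (a := k) (b := l) (c := r)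
    ⟨hkl, Ne.symm hr.2, Ne.symm hr.1⟩ (s = -1) (t = -1) True
  obtain ⟨σ, hσ, s1, s2, -⟩ := exists_map_three (a := k) (b := l) (c := r)
    ⟨hkl, Ne.symm hr.2, Ne.symm hr.1⟩ pt_distinct
  refine ⟨permEl σ hσ * signEl c hc,
    mul_mem (permEl_mem_stdStab σ hσ) (signEl_mem_stdStab c hc), ?_⟩
  rw [mul_smul, signEl_smul_pair hc hs ht hst c1 c2, permEl_smul_pairVec]
  simp only [s1, s2]
  rfl

theorem exists_std_octad {x : leechLattice} (h : IsOctad (x : GolayPt → ℤ)) :
    ∃ g ∈ stdStab, ((g • x : leechLattice) : GolayPt → ℤ) = octVec (Golay.pts Golay.octad0) ∅ := by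
  obtain ⟨o, M, ho, hMo, hev, he⟩ := h
  obtain ⟨p, q, hpq, hp, hq⟩ : ∃ p q, p ≠ q ∧ p ∉ o ∧ q ∉ o := by
    obtain ⟨p, hp, q, hq, hpq⟩ := Finset.one_lt_card.1 (show 1 < oᶜ.card by
      rw [Finset.card_compl, card_pt, ho.2]; norm_num)
    exact ⟨p, q, hpq, Finset.mem_compl.1 hp, Finset.mem_compl.1 hq⟩
  obtain ⟨c, hc, c1, -, -⟩ := exists_sign_octad ho hMo hev hp hq hpq
  obtain ⟨σ, hσ, hso⟩ := Golay.exists_map_octad ho Golay.octad0_mem
  refine ⟨permEl σ hσ * signEl c hc,
    mul_mem (permEl_mem_stdStab σ hσ) (signEl_mem_stdStab c hc), ?_⟩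
  rw [mul_smul, permEl_smul_octVecM hσ (signEl_smul_octVec hc he), c1, symmDiff_self, hso]
  rw [Finset.bot_eq_empty, Finset.smul_finset_empty]

theorem exists_std_odd {x : leechLattice} (h : IsOdd (x : GolayPt → ℤ)) :
    ∃ g ∈ stdStab, ((g • x : leechLattice) : GolayPt → ℤ) = oddVec none ∅ := by
  obtain ⟨k, c, hc, he⟩ := exists_oddVec h
  obtain ⟨σ, hσ, hk⟩ := Golay.exists_map_one k none
  refine ⟨permEl σ hσ * signEl c hc,
    mul_mem (permEl_mem_stdStab σ hσ) (signEl_mem_stdStab c hc), ?_⟩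
  rw [mul_smul, permEl_smul_oddVec hσ (signEl_smul_oddVec hc he), symmDiff_self, hk,
    Finset.bot_eq_empty, Finset.smul_finset_empty]

/-! ### Counting -/

/-- The octad finset. -/
noncomputable def octFin : Finset (Finset GolayPt) := SteinerCount.blocks octads

theorem mem_octFin {o : Finset GolayPt} : o ∈ octFin ↔ o ∈ octads := SteinerCount.mem_blocks

/-- Octads with a property, paired with sign sets with a property. -/
theorem ncard_octad_vectors (P : Finset GolayPt → Prop) [DecidablePred P]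
    (Q : Finset GolayPt → Finset GolayPt → Prop) [∀ o, DecidablePred (Q o)] (n : ℕ)
    (hn : ∀ o ∈ octads, P o → (o.powerset.filter fun M => Even M.card ∧ Q o M).card = n) :
    {x : GolayPt → ℤ | ∃ o M, o ∈ octads ∧ P o ∧ M ⊆ o ∧ Even M.card ∧ Q o M ∧
      x = octVec o M}.ncard = {o | o ∈ octads ∧ P o}.ncard * n := by
  classical
  let S : Finset ((_ : Finset GolayPt) × Finset GolayPt) :=
    (octFin.filter P).sigma fun o => o.powerset.filter fun M => Even M.card ∧ Q o M
  have hinj : Set.InjOn (fun p : (_ : Finset GolayPt) × Finset GolayPt => octVec p.1 p.2) S := by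
    rintro ⟨o, M⟩ h ⟨o', M'⟩ h' e
    simp only [S, Finset.mem_coe, Finset.mem_sigma, Finset.mem_filter, Finset.mem_powerset] at h h'
    obtain ⟨rfl, rfl⟩ := octVec_inj h.2.1 h'.2.1 e
    rfl
  have hset : {x : GolayPt → ℤ | ∃ o M, o ∈ octads ∧ P o ∧ M ⊆ o ∧ Even M.card ∧ Q o M ∧
      x = octVec o M} = ↑(S.image fun p => octVec p.1 p.2) := by
    ext x
    simp only [Set.mem_ofPred_eq, Finset.mem_coe, Finset.mem_image, S, Finset.mem_sigma,
      Finset.mem_filter, Finset.mem_powerset, mem_octFin]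
    constructor
    · rintro ⟨o, M, ho, hP, hM, hE, hQ, rfl⟩
      exact ⟨⟨o, M⟩, ⟨⟨ho, hP⟩, hM, hE, hQ⟩, rfl⟩
    · rintro ⟨⟨o, M⟩, ⟨⟨ho, hP⟩, hM, hE, hQ⟩, rfl⟩
      exact ⟨o, M, ho, hP, hM, hE, hQ, rfl⟩
  have hbase : {o | o ∈ octads ∧ P o} = ↑(octFin.filter P) := by
    ext o; simp [mem_octFin]
  rw [hset, hbase, Set.ncard_coe_finset, Set.ncard_coe_finset, Finset.card_image_of_injOn hinj,
    Finset.card_sigma, ← smul_eq_mul, ← Finset.sum_const]
  refine Finset.sum_congr rfl fun o ho => ?_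
  rw [Finset.mem_filter, mem_octFin] at ho
  exact hn o ho.1 ho.2

theorem ncard_octadShape :
    {x : GolayPt → ℤ | x ∈ leechLattice ∧ sqNorm x = 32 ∧ IsOctad x}.ncard = 97152 := by
  have h := ncard_octad_vectors (fun _ => True) (fun _ _ => True) 128 (fun o ho _ => by
    simp only [and_true]; exact card_even_powerset o ho.2)
  simp only [true_and, and_true, Set.ofPred_mem_eq] at h
  rw [Golay.ncard_octads] at h
  refine (congrArg Set.ncard (Set.ext fun x => ?_)).trans h
  simp only [Set.mem_ofPred_eq]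
  constructor
  · rintro ⟨-, -, o, M, ho, hM, hE, rfl⟩
    exact ⟨o, M, ho, hM, hE, rfl⟩
  · rintro ⟨o, M, ho, hM, hE, rfl⟩
    exact ⟨octVec_mem ho (by rwa [Finset.inter_eq_right.2 hM]), sqNorm_octVec ho M,
      o, M, ho, hM, hE, rfl⟩

theorem ncard_odd_vectors (P : GolayPt → Prop) (R : Finset GolayPt → Prop) :
    {x : GolayPt → ℤ | ∃ k c, P k ∧ c ∈ supports (golayCode : Set (GolayPt → ZMod 2)) ∧ R c ∧
      x = oddVec k c}.ncard =
    {k | P k}.ncard *
      {c | c ∈ supports (golayCode : Set (GolayPt → ZMod 2)) ∧ R c}.ncard := by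
  have h : ((fun p : GolayPt × Finset GolayPt => oddVec p.1 p.2) '' ({k | P k} ×ˢ
      {c | c ∈ supports (golayCode : Set (GolayPt → ZMod 2)) ∧ R c})).ncard = _ :=
    Set.InjOn.ncard_image (by
      rintro ⟨k, c⟩ - ⟨k', c'⟩ - e
      obtain ⟨rfl, rfl⟩ := oddVec_inj e
      rfl)
  rw [Set.ncard_prod] at h
  rw [← h]
  congr 1
  ext x
  constructor
  · rintro ⟨k, c, hP, hc, hR, rfl⟩; exact ⟨(k, c), ⟨hP, hc, hR⟩, rfl⟩
  · rintro ⟨⟨k, c⟩, ⟨hP, hc, hR⟩, rfl⟩; exact ⟨k, c, hP, hc, hR, rfl⟩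

theorem ncard_supports :
    {c | c ∈ supports (golayCode : Set (GolayPt → ZMod 2))}.ncard = 4096 := by
  have h := Golay.ncard_supports_filter fun _ => true
  simp only [and_true] at h
  rw [h]
  decide +kernel

theorem ncard_oddShape :
    {x : GolayPt → ℤ | x ∈ leechLattice ∧ sqNorm x = 32 ∧ IsOdd x}.ncard = 98304 := by
  have h := ncard_odd_vectors (fun _ => True) (fun _ => True)
  simp only [true_and, and_true] at h
  rw [ncard_supports, Set.ofPred_true, Set.ncard_univ, Nat.card_eq_fintype_card, card_pt] at h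
  refine (congrArg Set.ncard (Set.ext fun x => ?_)).trans h
  simp only [Set.mem_ofPred_eq]
  constructor
  · rintro ⟨-, -, hx⟩; exact exists_oddVec hx
  · rintro ⟨k, c, hc, rfl⟩; exact ⟨oddVec_mem hc, sqNorm_oddVec k c, isOdd_oddVec hc⟩

theorem ncard_min : {x : leechLattice | sqNorm (x : GolayPt → ℤ) = 32}.ncard = 196560 := by
  rw [ncard_subtype (fun x => sqNorm x = 32), ← count32, ← card_shell hN32, ← Set.ncard_coe_finset]
  congr 1
  ext x
  simp only [Set.mem_ofPred_eq, Finset.mem_coe, mem_shell, Nat.cast_ofNat]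

theorem finite_min : {x : leechLattice | sqNorm (x : GolayPt → ℤ) = 32}.Finite :=
  Set.finite_of_ncard_ne_zero (by rw [ncard_min]; norm_num)

/-- An invariant subset of a classified set is a union of classes. -/
theorem ncard_eq_sum_classes {X : Type*} {n : ℕ} (O M : Set X) (hM : M.Finite) (hOM : O ⊆ M)
    (C : Fin n → Set X) (hC : ∀ x ∈ M, ∃ i, x ∈ C i)
    (hdisj : ∀ x ∈ M, ∀ i j, x ∈ C i → x ∈ C j → i = j)
    (hinv : ∀ i, ∀ x ∈ O, x ∈ C i → ∀ y ∈ M, y ∈ C i → y ∈ O) :
    ∃ b : Fin n → Bool, (∀ i, b i = true ↔ ∃ x ∈ O, x ∈ C i) ∧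
      O.ncard = ∑ i, if b i then (M ∩ C i).ncard else 0 := by
  classical
  refine ⟨fun i => decide (∃ x ∈ O, x ∈ C i), fun i => by simp, ?_⟩
  have hO : O.Finite := hM.subset hOM
  have e : O = ⋃ i, O ∩ C i := by
    ext x
    simp only [Set.mem_iUnion, Set.mem_inter_iff]
    exact ⟨fun h => (hC x (hOM h)).imp fun i hi => ⟨h, hi⟩, fun ⟨_, h, _⟩ => h⟩
  conv_lhs => rw [e]
  rw [Set.ncard_iUnion_of_finite (fun i => hO.subset Set.inter_subset_left)]
  · rw [finsum_eq_sum_of_fintype]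
    refine Finset.sum_congr rfl fun i _ => ?_
    by_cases h : ∃ x ∈ O, x ∈ C i
    · obtain ⟨x, hx, hxi⟩ := h
      rw [if_pos (decide_eq_true ⟨x, hx, hxi⟩)]
      congr 1
      ext y
      exact ⟨fun hy => ⟨hOM hy.1, hy.2⟩, fun hy => ⟨hinv i x hx hxi y hy.1 hy.2, hy.2⟩⟩
    · rw [if_neg (by simpa using h), Set.ncard_eq_zero (hO.subset Set.inter_subset_left)]
      exact Set.eq_empty_of_forall_notMem fun y hy => h ⟨y, hy⟩
  · intro i j hij
    exact Set.disjoint_left.2 fun x hx hx' => hij (hdisj x (hOM hx.1) i j hx.2 hx'.2)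

end Cfsg.Agent.Leech
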