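import Cfsg.Agent.Lib.Leech.MinClasses
import Cfsg.Agent.Lib.Leech.HSConfig

/-!
# The vectors orthogonal to `baseU` under the monomial stabiliser of `baseU`

* `stabU`, `orthU`, `orthClass`, `orth_orbit`, `ncard_orthClass`
-/

set_option autoImplicit false

open scoped Pointwise symmDiff

namespace Cfsg.Agent.Leech

/-- The monomial elements fixing `baseU`. -/
def stabU : Subgroup Co0 := stdStab ⊓ MulAction.stabilizer Co0 baseU

/-- Minimal vectors orthogonal to `baseU`. -/
def orthU : Set leechLattice :=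
  {x | sqNorm (x : GolayPt → ℤ) = 32 ∧ dotInt (x : GolayPt → ℤ) (baseU : GolayPt → ℤ) = 0}

theorem orthU_coord {x : leechLattice} (hx : x ∈ orthU) :
    (x : GolayPt → ℤ) pO = -(x : GolayPt → ℤ) none := by
  have := hx.2
  rw [dotInt_baseU] at this
  omega

theorem stabU_mem {g : Co0} (h : g ∈ stabU) : g ∈ stdStab ∧ g • baseU = baseU :=
  ⟨h.1, MulAction.mem_stabilizer_iff.1 h.2⟩

theorem smul_mem_orthU {g : Co0} (h : g • baseU = baseU) {x : leechLattice} (hx : x ∈ orthU) :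
    g • x ∈ orthU :=
  ⟨by rw [sqNorm_smul]; exact hx.1, by rw [dotInt_smul_of_eq h]; exact hx.2⟩

theorem signEl_mem_stabU {c : Finset GolayPt}
    (hc : c ∈ supports (golayCode : Set (GolayPt → ZMod 2))) (h1 : none ∉ c) (h2 : pO ∉ c) :
    signEl c hc ∈ stabU :=
  ⟨signEl_mem_stdStab c hc, MulAction.mem_stabilizer_iff.2 (signEl_smul_pairVec h1 h2 _)⟩

theorem permEl_mem_stabU {σ : Equiv.Perm GolayPt} (hσ : σ ∈ M24)
    (h : (σ none = none ∧ σ pO = pO) ∨ (σ none = pO ∧ σ pO = none)) : permEl σ hσ ∈ stabU := by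
  refine ⟨permEl_mem_stdStab σ hσ, MulAction.mem_stabilizer_iff.2 ?_⟩
  rw [baseU, permEl_smul_pairVec]
  rcases h with ⟨h1, h2⟩ | ⟨h1, h2⟩
  · simp only [h1, h2]
  · simp only [h1, h2]
    exact pairVec_comm pO none 1 1 _

theorem pairwise_of_rep {C : leechLattice → Prop} (r : leechLattice)
    (h : ∀ x, C x → ∃ g ∈ stabU, g • x = r) {x y : leechLattice} (hx : C x) (hy : C y) :
    ∃ g ∈ stabU, g • x = y := by
  obtain ⟨g, hg, he⟩ := h x hx
  obtain ⟨k, hk, hk'⟩ := h y hy
  exact ⟨k⁻¹ * g, mul_mem (inv_mem hk) hg, by rw [mul_smul, he, ← hk', inv_smul_smul]⟩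

/-- The five classes. -/
def orthClass : Fin 5 → Set leechLattice :=
  ![{x | IsPair (x : GolayPt → ℤ) ∧ (x : GolayPt → ℤ) none ≠ 0},
    {x | IsPair (x : GolayPt → ℤ) ∧ (x : GolayPt → ℤ) none = 0},
    {x | IsOctad (x : GolayPt → ℤ) ∧ (x : GolayPt → ℤ) none ≠ 0},
    {x | IsOctad (x : GolayPt → ℤ) ∧ (x : GolayPt → ℤ) none = 0},
    {x | IsOdd (x : GolayPt → ℤ)}]

theorem mem_baseU'_or {x : leechLattice} (hx : x ∈ orthU) (hp : IsPair (x : GolayPt → ℤ))
    (hn : (x : GolayPt → ℤ) none ≠ 0) : x = baseU' ∨ x = pairVec pO none 1 (-1) (by norm_num) := by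
  have h0 := orthU_coord hx
  obtain ⟨k, l, hkl, hk, hl, hz⟩ := hp
  have hkl' : (k = none ∧ l = pO) ∨ (k = pO ∧ l = none) := by
    by_cases h1 : none = k
    · refine Or.inl ⟨h1.symm, ?_⟩
      by_contra h2
      exact hn (by have := hz pO (fun e => none_ne_pO (h1.trans e.symm)) (Ne.symm h2); omega)
    · by_cases h2 : none = l
      · refine Or.inr ⟨?_, h2.symm⟩
        by_contra h3
        exact hn (by have := hz pO (Ne.symm h3) (fun e => none_ne_pO (h2.trans e.symm)); omega)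
      · exact absurd (hz none h1 h2) hn
  have hz' : ∀ i, i ≠ none → i ≠ pO → (x : GolayPt → ℤ) i = 0 := by
    rcases hkl' with ⟨rfl, rfl⟩ | ⟨rfl, rfl⟩
    · exact hz
    · exact fun i a b => hz i b a
  have hv : (x : GolayPt → ℤ) none = 4 ∨ (x : GolayPt → ℤ) none = -4 := by
    rcases hkl' with ⟨rfl, rfl⟩ | ⟨rfl, rfl⟩
    · exact hk
    · exact hl
  rcases hv with e | e
  · refine Or.inl (Subtype.ext (funext fun i => ?_))
    rw [baseU', coe_pairVec, Pi.add_apply]
    by_cases hi : i = none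
    · subst hi; simp [e]
    · by_cases hi' : i = pO
      · subst hi'; simp [h0, e]
      · simp [hz' i hi hi', hi, hi']
  · refine Or.inr (Subtype.ext (funext fun i => ?_))
    rw [coe_pairVec, Pi.add_apply]
    by_cases hi : i = none
    · subst hi; simp [e]
    · by_cases hi' : i = pO
      · subst hi'; simp [h0, e]
      · simp [hz' i hi hi', hi, hi']

theorem orbit0 {x : leechLattice} (hx : x ∈ orthU ∧ x ∈ orthClass 0) :
    ∃ g ∈ stabU, g • x = baseU' := by
  rcases mem_baseU'_or hx.1 hx.2.1 hx.2.2 with rfl | rfl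
  · exact ⟨1, one_mem _, one_smul _ _⟩
  · obtain ⟨σ, hσ, s1, s2, -⟩ := exists_map_three pt_distinct
      (a' := pO) (b' := none) (c' := pI) ⟨none_ne_pO.symm, pI_ne_none, pO_ne_pI⟩
    refine ⟨permEl σ hσ, permEl_mem_stabU hσ (Or.inr ⟨s1, s2⟩), ?_⟩
    rw [permEl_smul_pairVec]
    simp only [s1, s2]
    rfl
where
  pI_ne_none : (none : GolayPt) ≠ pI := by decide
  pO_ne_pI : (pO : GolayPt) ≠ pI := by decide

theorem orbit1 {x : leechLattice} (hx : x ∈ orthU ∧ x ∈ orthClass 1) :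
    ∃ g ∈ stabU, g • x = pairVec pI pII 1 1 (by norm_num) := by
  obtain ⟨hm, hp, hn⟩ := hx
  have h0 := orthU_coord hm
  rw [hn, neg_zero] at h0
  obtain ⟨k, l, s, t, hst, hkl, hs, ht, rfl⟩ := exists_pairVec hp
  have hav : ∀ p, (pairVec k l s t hst : GolayPt → ℤ) p = 0 → p ≠ k ∧ p ≠ l := by
    intro p h
    constructor <;> rintro rfl <;> rcases hs with rfl | rfl <;> rcases ht with rfl | rfl <;>
      simp [coe_pairVec, hkl, Ne.symm hkl] at h
  obtain ⟨σ, hσ, s1, s2, s3, s4⟩ := exists_map_four (a := none) (b := pO) (c := k) (d := l)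
    (show [none, pO, k, l].Nodup by
      simp [none_ne_pO, (hav none hn).1, (hav none hn).2, (hav pO h0).1, (hav pO h0).2, hkl])
    (show [none, pO, pI, pII].Nodup by decide)
  obtain ⟨c, hc, c1, c2, c3, c4⟩ := sign_four (s = -1) (t = -1)
  refine ⟨signEl c hc * permEl σ hσ,
    mul_mem (signEl_mem_stabU hc c1 c2) (permEl_mem_stabU hσ (Or.inl ⟨s1, s2⟩)), ?_⟩
  rw [mul_smul, permEl_smul_pairVec]
  simp only [s3, s4]
  exact signEl_smul_pair hc hs ht hst c3 c4
where
  sign_four_base : ∀ p q : Bool, ∃ x : Fin 256, (Golay.enc x.val).testBit 23 = false ∧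
      (Golay.enc x.val).testBit 0 = false ∧ (Golay.enc x.val).testBit 1 = p ∧
      (Golay.enc x.val).testBit 2 = q := by decide +kernel
  sign_four (P Q : Prop) : ∃ c ∈ supports (golayCode : Set (GolayPt → ZMod 2)),
      none ∉ c ∧ pO ∉ c ∧ (pI ∈ c ↔ P) ∧ (pII ∈ c ↔ Q) := by
    classical
    obtain ⟨x, h1, h2, h3, h4⟩ := sign_four_base (decide P) (decide Q)
    have i1 : Golay.idx none = 23 ∧ Golay.idx pO = 0 ∧ Golay.idx pI = 1 ∧ Golay.idx pII = 2 := by
      decide
    refine ⟨Golay.pts (Golay.enc x.val), Golay.mem_supports_iff_exists.2 ⟨x.val, by omega, rfl⟩,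
      ?_, ?_, ?_, ?_⟩ <;> simp only [Golay.mem_pts, i1, h1, h2, h3, h4] <;> simp

theorem orbit2 {x y : leechLattice} (hx : x ∈ orthU ∧ x ∈ orthClass 2)
    (hy : y ∈ orthU ∧ y ∈ orthClass 2) : ∃ g ∈ stabU, g • x = y := by
  have norm' : ∀ x : leechLattice, x ∈ orthU ∧ x ∈ orthClass 2 →
      ∃ g ∈ stabU, ∃ o M, o ∈ octads ∧ M ⊆ o ∧ Even M.card ∧ none ∈ M ∧ pO ∈ o ∧ pO ∉ M ∧
        ((g • x : leechLattice) : GolayPt → ℤ) = octVec o M := by
    intro x hx
    obtain ⟨hm, ⟨o, M, ho, hMo, hev, he⟩, hn⟩ := hx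
    have h0 := orthU_coord hm
    rw [he] at hn h0
    have o1 : none ∈ o := by by_contra h; simp [octVec, h] at hn
    have o2 : pO ∈ o := by
      by_contra h; simp [octVec, h, o1] at h0; split_ifs at h0 <;> omega
    by_cases h1 : none ∈ M
    · exact ⟨1, one_mem _, o, M, ho, hMo, hev, h1, o2,
        fun h => by simp [octVec, o1, o2, h1, h] at h0, by rw [one_smul, he]⟩
    have h2 : pO ∈ M := by by_contra h; simp [octVec, o1, o2, h1, h] at h0
    obtain ⟨c, hc⟩ : (oᶜ).Nonempty := Finset.card_pos.1 (by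
      rw [Finset.card_compl, card_pt, ho.2]; norm_num)
    rw [Finset.mem_compl] at hc
    obtain ⟨σ, hσ, s1, s2, -, s4⟩ :=
      exists_map_octad_two_out ho ho o1 o2 none_ne_pO hc o2 o1 none_ne_pO.symm hc
    refine ⟨permEl σ hσ, permEl_mem_stabU hσ (Or.inr ⟨s1, s2⟩), o, σ • M, ho, ?_,
      by rwa [Finset.card_smul_finset], ?_, o2, ?_, ?_⟩
    · rw [← s4]; exact Finset.smul_finset_subset_smul_finset hMo
    · rw [← s2, ← Equiv.Perm.smul_def, Finset.smul_mem_smul_finset_iff]; exact h2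
    · rw [← s1, ← Equiv.Perm.smul_def, Finset.smul_mem_smul_finset_iff]; exact h1
    · rw [permEl_smul_octVecM hσ he, s4]
  obtain ⟨g, hg, o, M, ho, hM, hev, m1, o2, m2, he⟩ := norm' x hx
  obtain ⟨k, hk, o', M', ho', hM', hev', m1', o2', m2', he'⟩ := norm' y hy
  obtain ⟨c, hc⟩ : (oᶜ).Nonempty := Finset.card_pos.1 (by
    rw [Finset.card_compl, card_pt, ho.2]; norm_num)
  obtain ⟨c', hc'⟩ : (o'ᶜ).Nonempty := Finset.card_pos.1 (by
    rw [Finset.card_compl, card_pt, ho'.2]; norm_num)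
  rw [Finset.mem_compl] at hc hc'
  obtain ⟨σ, hσ, s1, s2, -, s4⟩ := exists_map_octad_two_out ho ho' (hM m1) o2 none_ne_pO hc
    (hM' m1') o2' none_ne_pO hc'
  have hsub : (σ • M) ∆ M' ⊆ o' := Finset.symmDiff_subset_union.trans (Finset.union_subset
    (by rw [← s4]; exact Finset.smul_finset_subset_smul_finset hM) hM')
  have hne : ({none, pO} : Finset GolayPt) ⊆ o' :=
    Finset.insert_subset_iff.2 ⟨hM' m1', Finset.singleton_subset_iff.2 o2'⟩
  obtain ⟨p, q, hpq, hp, hq⟩ : ∃ p q, p ≠ q ∧ p ∉ o' ∧ q ∉ o' := by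
    obtain ⟨p, hp, q, hq, hpq⟩ := Finset.one_lt_card.1 (show 1 < o'ᶜ.card by
      rw [Finset.card_compl, card_pt, ho'.2]; norm_num)
    exact ⟨p, q, hpq, Finset.mem_compl.1 hp, Finset.mem_compl.1 hq⟩
  have hev2 : Even ((σ • M) ∆ M').card := by
    have := Golay.card_symmDiff_add (σ • M) M'
    rw [Nat.even_iff] at hev hev' ⊢
    rw [Finset.card_smul_finset] at this
    omega
  obtain ⟨d, hd, hdo, -, -⟩ := exists_sign_octad ho' hsub hev2 hp hq hpq
  have memM : ∀ p, σ p ∈ σ • M ↔ p ∈ M := fun p => by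
    rw [← Equiv.Perm.smul_def, Finset.smul_mem_smul_finset_iff]
  have n1 : none ∉ d := fun h => by
    have := Finset.mem_inter.2 ⟨h, hne (by simp)⟩
    rw [hdo, Finset.mem_symmDiff, ← s1, memM, s1] at this
    simp [m1, m1'] at this
  have n2 : pO ∉ d := fun h => by
    have := Finset.mem_inter.2 ⟨h, hne (by simp : pO ∈ ({none, pO} : Finset GolayPt))⟩
    rw [hdo, Finset.mem_symmDiff, ← s2, memM, s2] at this
    simp [m2, m2'] at this
  refine ⟨k⁻¹ * (signEl d hd * permEl σ hσ) * g, mul_mem (mul_mem (inv_mem hk)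
    (mul_mem (signEl_mem_stabU hd n1 n2) (permEl_mem_stabU hσ (Or.inl ⟨s1, s2⟩)))) hg, ?_⟩
  rw [mul_smul, mul_smul, inv_smul_eq_iff]
  refine Subtype.ext ?_
  rw [he', mul_smul,
    signEl_smul_octVec hd (o := o') (M := σ • M) (by rw [permEl_smul_octVecM hσ he, s4]), hdo,
    symmDiff_symmDiff_cancel_left]

theorem orbit3 {x y : leechLattice} (hx : x ∈ orthU ∧ x ∈ orthClass 3)
    (hy : y ∈ orthU ∧ y ∈ orthClass 3) : ∃ g ∈ stabU, g • x = y := by
  have norm' : ∀ x : leechLattice, x ∈ orthU ∧ x ∈ orthClass 3 →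
      ∃ o M, o ∈ octads ∧ M ⊆ o ∧ Even M.card ∧ none ∉ o ∧ pO ∉ o ∧
        (x : GolayPt → ℤ) = octVec o M := by
    intro x hx
    obtain ⟨hm, ⟨o, M, ho, hMo, hev, he⟩, hn⟩ := hx
    have h0 := orthU_coord hm
    rw [hn, neg_zero] at h0
    rw [he] at hn h0
    refine ⟨o, M, ho, hMo, hev, fun h => ?_, fun h => ?_, he⟩
    · simp [octVec, h] at hn; split_ifs at hn <;> omega
    · simp [octVec, h] at h0; split_ifs at h0 <;> omega
  obtain ⟨o, M, ho, hM, hev, o1, o2, he⟩ := norm' x hx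
  obtain ⟨o', M', ho', hM', hev', o1', o2', he'⟩ := norm' y hy
  obtain ⟨σ, hσ, s4, s1, s2⟩ := exists_map_octad_two ho ho' o1 o2 none_ne_pO o1' o2' none_ne_pO
  have hsub : (σ • M) ∆ M' ⊆ o' := Finset.symmDiff_subset_union.trans (Finset.union_subset
    (by rw [← s4]; exact Finset.smul_finset_subset_smul_finset hM) hM')
  have hev2 : Even ((σ • M) ∆ M').card := by
    have := Golay.card_symmDiff_add (σ • M) M'
    rw [Nat.even_iff] at hev hev' ⊢
    rw [Finset.card_smul_finset] at this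
    omega
  obtain ⟨d, hd, hdo, n1, n2⟩ := exists_sign_octad ho' hsub hev2 o1' o2' none_ne_pO
  refine ⟨signEl d hd * permEl σ hσ, mul_mem (signEl_mem_stabU hd n1 n2)
    (permEl_mem_stabU hσ (Or.inl ⟨s1, s2⟩)), ?_⟩
  refine Subtype.ext ?_
  rw [he', mul_smul,
    signEl_smul_octVec hd (o := o') (M := σ • M) (by rw [permEl_smul_octVecM hσ he, s4]), hdo,
    symmDiff_symmDiff_cancel_left]

/-- The coordinates of an odd vector orthogonal to `baseU`. -/
theorem odd_orth {x : leechLattice} (hm : x ∈ orthU) {k : GolayPt} {c : Finset GolayPt}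
    (he : (x : GolayPt → ℤ) = oddVec k c) : k ≠ none ∧ k ≠ pO ∧ (none ∈ c ↔ pO ∉ c) := by
  have h0 := orthU_coord hm
  rw [he] at h0
  have hk1 : k ≠ none := by
    rintro rfl
    simp only [oddVec, fvD, if_true, if_neg none_ne_pO.symm] at h0
    split_ifs at h0 <;> omega
  have hk2 : k ≠ pO := by
    rintro rfl
    simp only [oddVec, fvD, if_true, if_neg none_ne_pO] at h0
    split_ifs at h0 <;> omega
  simp only [oddVec, fvD, if_neg (Ne.symm hk1), if_neg (Ne.symm hk2)] at h0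
  refine ⟨hk1, hk2, ?_⟩
  by_cases h1 : none ∈ c <;> by_cases h2 : pO ∈ c <;> simp [h1, h2] at h0 ⊢

theorem orbit4 {x y : leechLattice} (hx : x ∈ orthU ∧ x ∈ orthClass 4)
    (hy : y ∈ orthU ∧ y ∈ orthClass 4) : ∃ g ∈ stabU, g • x = y := by
  have norm' : ∀ x : leechLattice, x ∈ orthU ∧ x ∈ orthClass 4 →
      ∃ g ∈ stabU, ∃ c, c ∈ supports (golayCode : Set (GolayPt → ZMod 2)) ∧ none ∉ c ∧ pO ∈ c ∧
        ((g • x : leechLattice) : GolayPt → ℤ) = oddVec pI c := by
    intro x hx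
    obtain ⟨hm, hodd⟩ := hx
    obtain ⟨k, c, hc, he⟩ := exists_oddVec hodd
    obtain ⟨k1, k2, hiff⟩ := odd_orth hm he
    by_cases h1 : none ∈ c
    · obtain ⟨σ, hσ, s1, s2, s3⟩ := exists_map_three (a := none) (b := pO) (c := k)
        ⟨none_ne_pO, Ne.symm k2, Ne.symm k1⟩ (a' := pO) (b' := none) (c' := pI)
        ⟨none_ne_pO.symm, by decide, by decide⟩
      refine ⟨permEl σ hσ, permEl_mem_stabU hσ (Or.inr ⟨s1, s2⟩), σ • c,
        Golay.smul_mem_supports hσ hc, ?_, ?_, by rw [permEl_smul_oddVec hσ he, s3]⟩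
      · rw [← s2, ← Equiv.Perm.smul_def, Finset.smul_mem_smul_finset_iff]; exact hiff.1 h1
      · rw [← s1, ← Equiv.Perm.smul_def, Finset.smul_mem_smul_finset_iff]; exact h1
    · have h2 : pO ∈ c := by by_contra h; exact h1 (hiff.2 h)
      obtain ⟨σ, hσ, s1, s2, s3⟩ := exists_map_three (a := none) (b := pO) (c := k)
        ⟨none_ne_pO, Ne.symm k2, Ne.symm k1⟩ pt_distinct
      refine ⟨permEl σ hσ, permEl_mem_stabU hσ (Or.inl ⟨s1, s2⟩), σ • c,
        Golay.smul_mem_supports hσ hc, ?_, ?_, by rw [permEl_smul_oddVec hσ he, s3]⟩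
      · rw [← s1, ← Equiv.Perm.smul_def, Finset.smul_mem_smul_finset_iff]; exact h1
      · rw [← s2, ← Equiv.Perm.smul_def, Finset.smul_mem_smul_finset_iff]; exact h2
  obtain ⟨g, hg, c, hc, c1, c2, he⟩ := norm' x hx
  obtain ⟨k, hk, c', hc', c1', c2', he'⟩ := norm' y hy
  have hd := Golay.symmDiff_mem hc hc'
  refine ⟨k⁻¹ * signEl (c ∆ c') hd * g, mul_mem (mul_mem (inv_mem hk)
    (signEl_mem_stabU hd (by simp [Finset.mem_symmDiff, c1, c1'])
      (by simp [Finset.mem_symmDiff, c2, c2']))) hg, ?_⟩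
  rw [mul_smul, mul_smul, inv_smul_eq_iff]
  refine Subtype.ext ?_
  rw [he', signEl_smul_oddVec hd he, symmDiff_symmDiff_cancel_left]

theorem orth_orbit (i : Fin 5) {x y : leechLattice} (hx : x ∈ orthU ∧ x ∈ orthClass i)
    (hy : y ∈ orthU ∧ y ∈ orthClass i) : ∃ g ∈ stabU, g • x = y := by
  fin_cases i
  · exact pairwise_of_rep _ (fun x h => orbit0 (x := x) h) hx hy
  · exact pairwise_of_rep _ (fun x h => orbit1 (x := x) h) hx hy
  · exact orbit2 hx hy
  · exact orbit3 hx hy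
  · exact orbit4 hx hy

theorem orthClass_cover {x : leechLattice} (hx : x ∈ orthU) : ∃ i, x ∈ orthClass i := by
  rcases min_shape x.2 hx.1 with h | h | h
  · by_cases h0 : (x : GolayPt → ℤ) none = 0
    · exact ⟨1, h, h0⟩
    · exact ⟨0, h, h0⟩
  · by_cases h0 : (x : GolayPt → ℤ) none = 0
    · exact ⟨3, h, h0⟩
    · exact ⟨2, h, h0⟩
  · exact ⟨4, h⟩

theorem orthClass_disjoint {x : leechLattice} (i j : Fin 5) (hi : x ∈ orthClass i)
    (hj : x ∈ orthClass j) : i = j := by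
  fin_cases i <;> fin_cases j <;> first
    | rfl
    | exact absurd hi.2 (by intro h; exact hj.2 h)
    | exact absurd hj.2 (by intro h; exact hi.2 h)
    | exact absurd hi.1 (not_isPair_of_isOctad hj.1)
    | exact absurd hj.1 (not_isPair_of_isOctad hi.1)
    | exact absurd hi.1 (not_isPair_of_isOdd hj)
    | exact absurd hj.1 (not_isPair_of_isOdd hi)
    | exact absurd hi.1 (not_isOctad_of_isOdd hj)
    | exact absurd hj.1 (not_isOctad_of_isOdd hi)

theorem ncard_orthU : orthU.ncard = 93150 := by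
  rw [orthU, ncard_subtype (fun x => sqNorm x = 32 ∧ dotInt x (baseU : GolayPt → ℤ) = 0)]
  have h := (min_census baseU.2 sqNorm_baseU).2.2
  rw [← cnt_eq_ncard] at h
  rw [← h]
  congr 1
  ext x
  simp only [Set.mem_ofPred_eq, dotInt_comm x]

theorem finite_orthU : orthU.Finite :=
  Set.finite_of_ncard_ne_zero (by rw [ncard_orthU]; norm_num)

theorem ncard_class0 : (orthU ∩ orthClass 0).ncard = 2 := by
  have e : orthU ∩ orthClass 0 = {baseU', pairVec pO none 1 (-1) (by norm_num)} := by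
    ext x
    constructor
    · rintro ⟨h1, h2, h3⟩; exact mem_baseU'_or h1 h2 h3
    · rintro (rfl | rfl)
      · exact ⟨⟨sqNorm_baseU', by decide +kernel⟩,
          isPair_pairVec none_ne_pO (Or.inl rfl) (Or.inr rfl) _, by decide +kernel⟩
      · exact ⟨⟨sqNorm_pairVec none_ne_pO.symm _ (Or.inl rfl) (Or.inr rfl), by decide +kernel⟩,
          isPair_pairVec none_ne_pO.symm (Or.inl rfl) (Or.inr rfl) _, by decide +kernel⟩
  rw [e, Set.ncard_pair]
  intro h
  exact absurd (congrArg (fun v : leechLattice => (v : GolayPt → ℤ) none) h) (by decide +kernel)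

theorem card_split_powerset {o : Finset GolayPt} (ho : o ∈ octads) (h1 : none ∈ o) (h2 : pO ∈ o) :
    (o.powerset.filter fun M => Even M.card ∧ (none ∈ M ↔ pO ∉ M)).card = 64 := by
  obtain ⟨r, hr⟩ : (o \ {none, pO}).Nonempty := Finset.card_pos.1 (by
    rw [Finset.card_sdiff_of_subset (by simp [Finset.insert_subset_iff, h1, h2]),
      Finset.card_pair none_ne_pO, show o.card = 8 from ho.2]
    norm_num)
  simp only [Finset.mem_sdiff, Finset.mem_insert, Finset.mem_singleton, not_or] at hr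
  set E := o.powerset.filter fun M => Even M.card with hE
  have he : (o.powerset.filter fun M => Even M.card ∧ (none ∈ M ↔ pO ∉ M)) =
      E.filter fun M => (none ∈ M ↔ pO ∉ M) := by rw [hE, Finset.filter_filter]
  have hflip : ∀ M ∈ E, M ∆ {none, r} ∈ E ∧
      ((none ∈ M ∆ {none, r} ↔ pO ∉ M ∆ {none, r}) ↔ ¬(none ∈ M ↔ pO ∉ M)) := by
    intro M hM
    rw [hE, Finset.mem_filter, Finset.mem_powerset] at hM ⊢
    refine ⟨⟨Finset.symmDiff_subset_union.trans (Finset.union_subset hM.1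
      (by simp [Finset.insert_subset_iff, h1, hr.1])), ?_⟩, ?_⟩
    · have := Golay.card_symmDiff_add M {none, r}
      rw [Finset.card_pair (Ne.symm hr.2.1)] at this
      rw [Nat.even_iff] at hM ⊢
      omega
    · simp only [Finset.mem_symmDiff, Finset.mem_insert, Finset.mem_singleton, true_or,
        not_true_eq_false, and_false, true_and, false_or]
      simp only [none_ne_pO.symm, Ne.symm hr.2.2, or_self, not_false_eq_true, and_true,
        false_and, or_false]
      tauto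
  have hbij : (E.filter fun M => (none ∈ M ↔ pO ∉ M)).card =
      (E.filter fun M => ¬(none ∈ M ↔ pO ∉ M)).card := by
    refine Finset.card_nbij' (fun M => M ∆ {none, r}) (fun M => M ∆ {none, r}) ?_ ?_ ?_ ?_
    · intro M hM
      rw [Finset.mem_coe, Finset.mem_filter] at hM
      rw [Finset.mem_coe, Finset.mem_filter]
      exact ⟨(hflip M hM.1).1, fun h => (hflip M hM.1).2.1 h hM.2⟩
    · intro M hM
      rw [Finset.mem_coe, Finset.mem_filter] at hM
      rw [Finset.mem_coe, Finset.mem_filter]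
      exact ⟨(hflip M hM.1).1, (hflip M hM.1).2.2 hM.2⟩
    · intro M _; exact symmDiff_symmDiff_cancel_right _ _
    · intro M _; exact symmDiff_symmDiff_cancel_right _ _
  have hsum := Finset.card_filter_add_card_filter_not (s := E) (fun M => (none ∈ M ↔ pO ∉ M))
  have h128 : E.card = 128 := card_even_powerset o ho.2
  rw [he]
  omega

theorem ncard_class2 : (orthU ∩ orthClass 2).ncard = 4928 := by
  have h := ncard_octad_vectors (fun o => none ∈ o ∧ pO ∈ o)
    (fun _ M => (none ∈ M ↔ pO ∉ M)) 64 (fun o ho hP => card_split_powerset ho hP.1 hP.2)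
  rw [ncard_octads_two] at h
  rw [← Set.ncard_image_of_injective _ Subtype.val_injective]
  refine (congrArg Set.ncard (Set.ext fun x => ?_)).trans h
  constructor
  · rintro ⟨v, ⟨hm, ⟨o, M, ho, hM, hE, he⟩, hn⟩, rfl⟩
    have h0 := orthU_coord hm
    rw [he] at hn h0
    have o1 : none ∈ o := by by_contra h; simp [octVec, h] at hn
    have o2 : pO ∈ o := by
      by_contra h; simp [octVec, h, o1] at h0; split_ifs at h0 <;> omega
    refine ⟨o, M, ho, ⟨o1, o2⟩, hM, hE, ?_, he⟩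
    by_cases a : none ∈ M <;> by_cases b : pO ∈ M <;> simp [octVec, o1, o2, a, b] at h0 ⊢
  · rintro ⟨o, M, ho, ⟨o1, o2⟩, hM, hE, hiff, rfl⟩
    refine ⟨⟨octVec o M, octVec_mem ho (by rwa [Finset.inter_eq_right.2 hM])⟩,
      ⟨⟨sqNorm_octVec ho M, ?_⟩, ⟨o, M, ho, hM, hE, rfl⟩, ?_⟩, rfl⟩
    · rw [dotInt_baseU]
      by_cases a : none ∈ M
      · simp [octVec, o1, o2, a, hiff.1 a]
      · simp [octVec, o1, o2, a, show pO ∈ M from by by_contra b; exact a (hiff.2 b)]
    · simp [octVec, o1]; split_ifs <;> simp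

theorem ncard_class3 : (orthU ∩ orthClass 3).ncard = 42240 := by
  have h := ncard_octad_vectors (fun o => none ∉ o ∧ pO ∉ o) (fun _ _ => True) 128
    (fun o ho _ => by simp only [and_true]; exact card_even_powerset o ho.2)
  have h330 : {o : Finset GolayPt | o ∈ octads ∧ none ∉ o ∧ pO ∉ o}.ncard = 330 := by
    simp only [mem_iff_testBit, Bool.not_eq_true, ← Bool.not_eq_true', ← Bool.and_eq_true]
    rw [ncard_octads_filter fun m => !m.testBit (Golay.idx none) && !m.testBit (Golay.idx pO)]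
    decide +kernel
  rw [h330] at h
  rw [← Set.ncard_image_of_injective _ Subtype.val_injective]
  refine (congrArg Set.ncard (Set.ext fun x => ?_)).trans h
  constructor
  · rintro ⟨v, ⟨hm, ⟨o, M, ho, hM, hE, he⟩, hn⟩, rfl⟩
    have h0 := orthU_coord hm
    rw [hn, neg_zero] at h0
    rw [he] at hn h0
    refine ⟨o, M, ho, ⟨fun h => ?_, fun h => ?_⟩, hM, hE, trivial, he⟩
    · simp [octVec, h] at hn; split_ifs at hn <;> omega
    · simp [octVec, h] at h0; split_ifs at h0 <;> omega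
  · rintro ⟨o, M, ho, ⟨o1, o2⟩, hM, hE, -, rfl⟩
    exact ⟨⟨octVec o M, octVec_mem ho (by rwa [Finset.inter_eq_right.2 hM])⟩,
      ⟨⟨sqNorm_octVec ho M, by rw [dotInt_baseU]; simp [octVec, o1, o2]⟩,
        ⟨o, M, ho, hM, hE, rfl⟩, by simp [octVec, o1]⟩, rfl⟩

theorem ncard_class4 : (orthU ∩ orthClass 4).ncard = 45056 := by
  have h := ncard_odd_vectors (fun k => k ≠ none ∧ k ≠ pO) (fun c => none ∈ c ↔ pO ∉ c)
  rw [ncard_not_two] at h
  have hc : {c | c ∈ supports (golayCode : Set (GolayPt → ZMod 2)) ∧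
      (none ∈ c ↔ pO ∉ c)}.ncard = 2048 := by
    have e := Golay.ncard_supports_filter fun m =>
      m.testBit (Golay.idx none) ^^ m.testBit (Golay.idx pO)
    rw [show Golay.countSpan (fun m => m.testBit (Golay.idx none) ^^ m.testBit (Golay.idx pO))
      Golay.rows 0 = 2048 by decide +kernel] at e
    rw [← e]
    congr 1
    ext c
    simp only [Set.mem_ofPred_eq, mem_iff_testBit]
    refine and_congr_right fun _ => ?_
    cases (Golay.maskOf c).testBit (Golay.idx none) <;>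
      cases (Golay.maskOf c).testBit (Golay.idx pO) <;> simp
  rw [hc] at h
  rw [← Set.ncard_image_of_injective _ Subtype.val_injective]
  refine (congrArg Set.ncard (Set.ext fun x => ?_)).trans h
  constructor
  · rintro ⟨v, ⟨hm, hodd⟩, rfl⟩
    obtain ⟨k, c, hc, he⟩ := exists_oddVec (hodd : IsOdd (v : GolayPt → ℤ))
    obtain ⟨k1, k2, hiff⟩ := odd_orth hm he
    exact ⟨k, c, ⟨k1, k2⟩, hc, hiff, he⟩
  · rintro ⟨k, c, ⟨k1, k2⟩, hc, hiff, rfl⟩
    refine ⟨⟨oddVec k c, oddVec_mem hc⟩,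
      ⟨⟨sqNorm_oddVec k c, ?_⟩, isOdd_oddVec hc⟩, rfl⟩
    rw [dotInt_baseU]
    simp only [oddVec, fvD, if_neg (Ne.symm k1), if_neg (Ne.symm k2)]
    by_cases a : none ∈ c
    · simp [a, hiff.1 a]
    · simp [a, show pO ∈ c from by by_contra b; exact a (hiff.2 b)]

theorem ncard_class1 : (orthU ∩ orthClass 1).ncard = 924 := by
  obtain ⟨b, hb, hsum⟩ := ncard_eq_sum_classes orthU orthU finite_orthU subset_rfl orthClass
    (fun x hx => orthClass_cover hx) (fun x _ i j => orthClass_disjoint i j)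
    (fun i x _ _ y hy _ => hy)
  have hne : ∀ i, b i = false → (orthU ∩ orthClass i).ncard = 0 := fun i hi => by
    rw [Set.ncard_eq_zero (finite_orthU.subset Set.inter_subset_left)]
    refine Set.eq_empty_of_forall_notMem fun x hx => ?_
    have := (hb i).2 ⟨x, hx.1, hx.2⟩
    rw [hi] at this
    exact Bool.noConfusion this
  have e : ∀ i, (if b i then (orthU ∩ orthClass i).ncard else 0) =
      (orthU ∩ orthClass i).ncard := fun i => by
    cases h : b i
    · simp [hne i h]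
    · simp
  simp only [e, Fin.sum_univ_five, ncard_orthU, ncard_class0, ncard_class2, ncard_class3,
    ncard_class4] at hsum
  omega

end Cfsg.Agent.Leech
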