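import Cfsg.Agent.Lib.Leech.MatEl
import Cfsg.Agent.Lib.Leech.StabM22
import Cfsg.Agent.Lib.StabCert.Chain
import Cfsg.Agent.Lib.StabCert.Quad

/-!
# A stabiliser in `Co0` is isomorphic to a unitary group: certificates

* `PSUData` : matrices of paired generators, points, tables and a chain
* `PSUData.OK` : the checks
* `PSUData.nonempty_mulEquiv` : the isomorphism
-/

set_option autoImplicit false

open scoped Matrix

namespace Cfsg.Agent.Leech

open StabCert Cfsg.Agent.Unitary

/-- The data of a certificate over the model `Quad p a b` in dimension `n`. -/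
structure PSUData (p a b n : ℕ) where
  mats : List (List (List ℤ))
  matsT : List (List (List ℤ))
  cols : List (List ℤ)
  colsT : List (List ℤ)
  imgs : List (List (List ℤ))
  imgsT : List (List (List ℤ))
  us : List (List (List ℕ))
  lefts : List (List (List ℤ))
  rights : List (List (List ℕ))
  dL : ℕ
  dR : ℕ
  w : ℕ
  tab : List ℕ
  fx : List ℕ
  Bl : List ℕ
  combos : List (List ℤ)
  den : ℤ
  Br : List ℕ
  winv : List (List ℕ)
  chain : List Lev
  nbs : List (List (List ℕ)) := []
  masks : List (List ℕ) := []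

namespace PSUData

variable {p a b n : ℕ} (D : PSUData p a b n)

/-- The number of generators. -/
def m : ℕ := D.mats.length

/-- Integral matrix of a generator, times eight. -/
def mat (k : ℕ) : List (List ℤ) := D.mats.getD k []

/-- Its transpose. -/
def matT (k : ℕ) : List (List ℤ) := D.matsT.getD k []

/-- Unitary matrix of a generator. -/
def umat (k : ℕ) : Matrix (Fin n) (Fin n) (Quad p a b) := qmat p a b n (D.us.getD k [])

/-- The vector of a left point. -/
def left (i : ℕ) : List ℤ := (D.lefts.getD (i / 32) []).getD (i % 32) []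

/-- The codes of a right point. -/
def rightL (j : ℕ) : List ℕ := (D.rights.getD (j / 32) []).getD (j % 32) []

/-- The vector of a right point. -/
def right (j : ℕ) : Fin n → Quad p a b := qvec p a b n (D.rightL j)

/-- The base lines. -/
def wmat : Matrix (Fin n) (Fin n) (Quad p a b) :=
  Matrix.of fun i j => D.right (D.Br.getD j.val 0 - D.dL) i

/-- The inverse of the matrix of base lines. -/
def wmatInv : Matrix (Fin n) (Fin n) (Quad p a b) := qmat p a b n D.winv

/-- Increasing lists. -/
def incrFrom : ℤ → List ℤ → Bool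
  | _, [] => true
  | c, x :: l => decide (c < x) && incrFrom x l

/-- The code of a vector over the model. -/
def rcode (u : Fin n → Quad p a b) : ℤ :=
  ((List.finRange n).map fun k =>
    (((u k).re.val + p * (u k).im.val) * (p * p) ^ (k : ℕ) : ℕ)).sum

/-- A matrix of the list is an element of both groups. -/
def genOKk (k : ℕ) : Bool :=
  matOKB (D.mat k) (D.matT k) (D.cols.getD k []) (D.colsT.getD k []) (D.imgs.getD k [])
    (D.imgsT.getD k []) && suOK (D.umat k)

/-- The left points are distinct lattice vectors. -/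
def leftsOK : Bool :=
  ((List.range D.dL).all fun i => (D.left i).length == 24 &&
    ((D.left i).all fun x => Nat.ble x.natAbs 8) && inLatL (D.left i)) &&
  incrFrom (-2 ^ 480) ((List.range D.dL).map fun i => pack (D.left i))

/-- The right points are distinct isotropic lines. -/
def rightsOK : Bool :=
  ((List.range D.dR).all fun j => lineOK (D.right j)) &&
    incrFrom (-1) ((List.range D.dR).map fun j => rcode (D.right j))

/-- The left half of a table, the packed columns given. -/
def leftTabAux (T : ℕ) (P : List ℤ) : Bool :=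
  (List.range D.dL).all fun i =>
    Nat.blt (look D.w T i) D.dL && dotL P (D.left i) == 8 * pack (D.left (look D.w T i))

/-- The left half of the table of a generator. -/
def leftTabOK (k : ℕ) : Bool :=
  D.leftTabAux (D.tab.getD k 0) (D.cols.getD k [])

/-- The right half of the table of a generator. -/
def rightTabOK (k : ℕ) : Bool :=
  (List.range D.dR).all fun j =>
    Nat.ble D.dL (look D.w (D.tab.getD k 0) (D.dL + j)) &&
      Nat.blt (look D.w (D.tab.getD k 0) (D.dL + j)) (D.dL + D.dR) &&
      propOK p a b n (D.us.getD k []) (D.rightL j)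
        (D.rightL (look D.w (D.tab.getD k 0) (D.dL + j) - D.dL))

/-- The fixed points, the spanning points and the base lines. -/
def baseOK : Bool :=
  ((List.range D.m).all fun k => D.fx.all fun i => look D.w (D.tab.getD k 0) i == i) &&
    (D.fx.all fun i => Nat.blt i D.dL) && (D.Bl.all fun i => Nat.blt i D.dL) &&
    decide (D.den ≠ 0) && decide (D.Br.length = n + 1) &&
    ((List.range 24).all fun k => (List.range 24).all fun c =>
      dotL (D.combos.getD k []) (D.Bl.map fun i => (D.left i).getD c 0) ==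
        if c = k then 8 * D.den else 0) &&
    (D.Br.all fun i => Nat.ble D.dL i && Nat.blt i (D.dL + D.dR)) &&
    genPosOK D.wmat D.wmatInv (D.right (D.Br.getD n 0 - D.dL)) &&
    ((List.range D.m).all fun k => (nextGens D.chain).contains k) &&
    (D.chain.all fun L => Nat.ble D.dL L.b) &&
    ((List.range D.m).any fun k => (List.range D.dL).any fun i =>
      !(look D.w (D.tab.getD k 0) i == i))

/-- The right neighbours of a left point, as indices of points. -/
def nb (i : ℕ) : List ℕ := (D.nbs.getD (i / 32) []).getD (i % 32) []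

/-- The mask of the neighbours. -/
def mk' (i : ℕ) : ℕ := (D.masks.getD (i / 32) []).getD (i % 32) 0

/-- The relation between left and right points is invariant and separates the spanning points. -/
def relationBase : Bool := relBase D.dL (D.dL + D.dR) D.nb D.mk' D.Bl

/-- The relation is preserved by the generator. -/
def relationTab (k : ℕ) : Bool := relTab D.w D.dL (D.tab.getD k 0) D.nb D.mk'

/-- The points on which words are compared. -/
def cmp : List ℕ := if D.nbs.isEmpty then D.Bl ++ D.Br else D.Br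

/-- All the checks. -/
structure OK : Prop where
  gens : ∀ k < D.m, D.genOKk k = true
  lefts : D.leftsOK = true
  rights : D.rightsOK = true
  ltab : ∀ k < D.m, D.leftTabOK k = true
  rtab : ∀ k < D.m, D.rightTabOK k = true
  base : D.baseOK = true
  chain : chainOK D.w (D.dL + D.dR) D.m D.tab D.cmp D.chain = true
  rel : D.nbs.isEmpty = true ∨ (D.relationBase = true ∧ ∀ k < D.m, D.relationTab k = true)

theorem incrFrom_spec : ∀ (c : ℤ) (l : List ℤ), incrFrom c l = true →
    l.Pairwise (· < ·) ∧ ∀ x ∈ l, c < x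
  | _, [], _ => ⟨List.Pairwise.nil, fun _ h => absurd h List.not_mem_nil⟩
  | c, x :: l, h => by
    simp only [incrFrom, Bool.and_eq_true, decide_eq_true_eq] at h
    obtain ⟨h1, h2⟩ := incrFrom_spec x l h.2
    refine ⟨List.pairwise_cons.2 ⟨h2, h1⟩, fun y hy => ?_⟩
    rcases List.mem_cons.1 hy with rfl | hy
    · exact h.1
    · exact h.1.trans (h2 y hy)

theorem base_lt {w d m : ℕ} {tab B : List ℕ} : ∀ {ch : List Lev}, chainOK w d m tab B ch = true →
    ∀ L ∈ ch, L.b < d
  | [], _, _, hL => absurd hL List.not_mem_nil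
  | M :: r, h, L, hL => by
    simp only [chainOK, Bool.and_eq_true] at h
    rcases List.mem_cons.1 hL with rfl | hL
    · have := h.1
      simp only [levOK, Bool.and_eq_true, Nat.blt_eq] at this
      exact this.1.1.1.1.1.1
    · exact base_lt h.2 L hL

theorem eq_of_incr {c : ℤ} {d : ℕ} {f : ℕ → ℤ} (h : incrFrom c ((List.range d).map f) = true)
    {i j : ℕ} (hi : i < d) (hj : j < d) (e : f i = f j) : i = j := by
  have hp := List.pairwise_iff_getElem.1 (incrFrom_spec _ _ h).1
  have key : ∀ i j, i < d → j < d → i < j → f i < f j := fun i j hi hj hij => by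
    have h' := hp i j (by simpa) (by simpa) hij
    rwa [List.getElem_map, List.getElem_map, List.getElem_range, List.getElem_range] at h' 
  rcases lt_trichotomy i j with h' | h' | h'
  · exact absurd e (key i j hi hj h').ne
  · exact h'
  · exact absurd e (key j i hj hi h').ne'

theorem vOf_inj {x y : List ℤ} (hx : x.length = 24) (hy : y.length = 24) (h : vOf x = vOf y) :
    x = y := by
  refine List.ext_getElem (hx.trans hy.symm) fun k h1 h2 => ?_
  have e := congrFun h (Golay.pt k)
  simp only [vOf, Golay.idx_pt (show k < 24 by omega)] at e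
  rwa [List.getD_eq_getElem _ _ h1, List.getD_eq_getElem _ _ h2] at e

/-- The lattice vector of a left point. -/
def leftV (i : ℕ) : leechLattice :=
  if h : inLatL (D.left i) = true then ⟨vOf (D.left i), mem_of_inLatL h⟩ else 0

section

variable (F : Type) [Field F] [Fintype F] (hF : Fintype.card F = p ^ 2) (φ : Quad p a b →+* F)
  (hφ : ∀ z, φ (star z) = φ z ^ p)

/-- The points. -/
noncomputable def pt (i : ℕ) : leechLattice ⊕ IsoLine n F p :=
  if i < D.dL then .inl (D.leftV i)
  else if h : lineOK (D.right (i - D.dL)) = true then .inr (lineOf φ hφ _ h) else .inl 0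

/-- The paired generators. -/
noncomputable def gen (k : ℕ) : Co0 × Equiv.Perm (IsoLine n F p) :=
  haveI := Classical.dec (MatOK (toMat (D.mat k)) ∧ suOK (D.umat k) = true)
  if h : MatOK (toMat (D.mat k)) ∧ suOK (D.umat k) = true then
    (matEl _ h.1, permHom n F p (suOf φ hφ hF _ h.2)) else 1

/-- The action on the points. -/
def rho : Co0 × Equiv.Perm (IsoLine n F p) →* Equiv.Perm (leechLattice ⊕ IsoLine n F p) :=
  (Equiv.Perm.sumCongrHom _ _).comp
    ((MulAction.toPermHom Co0 leechLattice).prodMap (MonoidHom.id _))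

variable {F} {D} (hok : D.OK)
include hok

theorem leftV_val {i : ℕ} (hi : i < D.dL) :
    (D.leftV i : GolayPt → ℤ) = vOf (D.left i) ∧ (D.left i).length = 24 ∧
      ∀ x ∈ D.left i, x.natAbs ≤ 8 := by
  have h := hok.lefts
  simp only [leftsOK, Bool.and_eq_true, List.all_eq_true, List.mem_range, beq_iff_eq,
    Nat.ble_eq] at h
  obtain ⟨⟨h1, h2⟩, h3⟩ := h.1 i hi
  exact ⟨by rw [leftV, dif_pos h3], h1, h2⟩

theorem lineOK_right {j : ℕ} (hj : j < D.dR) : lineOK (D.right j) = true := by
  have h := hok.rights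
  simp only [rightsOK, Bool.and_eq_true, List.all_eq_true, List.mem_range] at h
  exact h.1 j hj

omit hok in
theorem pt_left {i : ℕ} (hi : i < D.dL) : D.pt F φ hφ i = .inl (D.leftV i) := by
  rw [pt, if_pos hi]

theorem pt_right {i : ℕ} (hi : D.dL ≤ i) (hi' : i < D.dL + D.dR) :
    D.pt F φ hφ i = .inr (lineOf φ hφ _ (lineOK_right hok (show i - D.dL < D.dR by omega))) := by
  rw [pt, if_neg (by omega), dif_pos (lineOK_right hok (show i - D.dL < D.dR by omega))]

theorem gen_eq {k : ℕ} (hk : k < D.m) : ∃ (h1 : MatOK (toMat (D.mat k)))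
    (h2 : suOK (D.umat k) = true),
      D.gen F hF φ hφ k = (matEl _ h1, permHom n F p (suOf φ hφ hF _ h2)) := by
  have h := hok.gens k hk
  simp only [genOKk, Bool.and_eq_true] at h
  exact ⟨(matOK_of_lists h.1).1, h.2, by rw [gen, dif_pos ⟨(matOK_of_lists h.1).1, h.2⟩]⟩

theorem tablesSound :
    TablesSound (rho F) (D.gen F hF φ hφ) (D.pt F φ hφ) D.w (D.dL + D.dR) D.m D.tab := by
  intro k hk i hi
  obtain ⟨h1, h2, he⟩ := gen_eq hF φ hφ hok hk
  by_cases hiL : i < D.dL
  · have h := hok.ltab k hk
    simp only [leftTabOK, leftTabAux, Bool.and_eq_true, List.all_eq_true, List.mem_range,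
      beq_iff_eq, Nat.blt_eq] at h
    obtain ⟨hlt, heq⟩ := h i hiL
    have hg := hok.gens k hk
    simp only [genOKk, Bool.and_eq_true] at hg
    obtain ⟨-, hP, hlen, hsm⟩ := matOK_of_lists hg.1
    rw [hP] at heq
    obtain ⟨a1, a2, a3⟩ := leftV_val hok hiL
    obtain ⟨b1, b2, b3⟩ := leftV_val hok hlt
    refine ⟨by omega, ?_⟩
    rw [pt_left φ hφ hiL, pt_left φ hφ hlt, he]
    show Sum.inl (matEl _ h1 • D.leftV i) = _
    rw [matEl_smul_of_pack h1 (fun r hr => smallL_spec (List.all_eq_true.1 hsm r hr))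
      hlen ⟨a2, a3⟩ ⟨b2, b3⟩ heq a1 b1]
  · have h := hok.rtab k hk
    simp only [rightTabOK, Bool.and_eq_true, List.all_eq_true, List.mem_range, Nat.blt_eq,
      Nat.ble_eq] at h
    obtain ⟨⟨l1, l2⟩, l3⟩ := h (i - D.dL) (by omega)
    rw [show D.dL + (i - D.dL) = i by omega] at l1 l2 l3
    refine ⟨l2, ?_⟩
    rw [pt_right φ hφ hok (by omega) hi, pt_right φ hφ hok l1 l2, he]
    show Sum.inr (suOf φ hφ hF _ h2 • lineOf φ hφ _ _) = _
    have : NeZero p := ⟨by rintro rfl; simp at hF⟩
    exact congrArg Sum.inr (smul_lineOf φ hφ hF h2 _ _ (propOK_spec l3))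

theorem injOn_pt (hinj : Function.Injective φ) :
    Set.InjOn (D.pt F φ hφ) {i | i < D.dL + D.dR} := by
  intro i (hi : i < _) j (hj : j < _) e
  have hl := hok.lefts
  simp only [leftsOK, Bool.and_eq_true] at hl
  have hr := hok.rights
  simp only [rightsOK, Bool.and_eq_true] at hr
  by_cases hiL : i < D.dL <;> by_cases hjL : j < D.dL
  · rw [pt_left φ hφ hiL, pt_left φ hφ hjL] at e
    refine eq_of_incr hl.2 hiL hjL ?_
    obtain ⟨a1, a2, -⟩ := leftV_val hok hiL
    obtain ⟨b1, b2, -⟩ := leftV_val hok hjL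
    rw [vOf_inj a2 b2 (by rw [← a1, ← b1, Sum.inl_injective e])]
  · rw [pt_left φ hφ hiL, pt_right φ hφ hok (by omega) hj] at e
    exact absurd e Sum.inl_ne_inr
  · rw [pt_left φ hφ hjL, pt_right φ hφ hok (by omega) hi] at e
    exact absurd e Sum.inr_ne_inl
  · rw [pt_right φ hφ hok (by omega) hi, pt_right φ hφ hok (by omega) hj] at e
    have e' := lineOf_inj φ hφ hinj _ _ (Sum.inr_injective e)
    have := eq_of_incr hr.2 (show i - D.dL < D.dR by omega) (show j - D.dL < D.dR by omega)
      (by rw [e'])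
    omega

include hF in
theorem eq_one_of_fix_base (hn : 2 ≤ n) {g : Co0 × Equiv.Perm (IsoLine n F p)}
    (hg : g.2 ∈ (permHom n F p).range)
    (hfix : ∀ β ∈ D.Br, rho F g (D.pt F φ hφ β) = D.pt F φ hφ β)
    (hfixL : g.2 = 1 → ∀ β ∈ D.Bl, rho F g (D.pt F φ hφ β) = D.pt F φ hφ β) : g = 1 := by
  have hb := hok.base
  simp only [baseOK, Bool.and_eq_true, List.all_eq_true, List.mem_range, beq_iff_eq,
    decide_eq_true_eq, Nat.blt_eq, Nat.ble_eq] at hb
  obtain ⟨⟨⟨⟨⟨⟨⟨⟨⟨⟨-, -⟩, hBl⟩, hden⟩, hlen⟩, hcomb⟩, hBr⟩, hgp⟩, -⟩, -⟩, -⟩ := hb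
  have hg2 : g.2 = 1 := by
    obtain ⟨s, hs⟩ := hg
    have hb : ∀ j, j ≤ n → D.dL ≤ D.Br.getD j 0 ∧ D.Br.getD j 0 < D.dL + D.dR ∧
        D.Br.getD j 0 ∈ D.Br := fun j hj => by
      have hm : D.Br.getD j 0 ∈ D.Br := by
        rw [List.getD_eq_getElem _ _ (show j < D.Br.length by omega)]; exact List.getElem_mem _
      exact ⟨(hBr _ hm).1, (hBr _ hm).2, hm⟩
    have hline : ∀ j, j ≤ n → ∀ (u : Fin n → Quad p a b) (hu : lineOK u = true),
        D.right (D.Br.getD j 0 - D.dL) = u → s • lineOf φ hφ u hu = lineOf φ hφ u hu := by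
      intro j hj u hu e
      subst e
      obtain ⟨b1, b2, b3⟩ := hb j hj
      have := hfix _ b3
      rw [pt_right φ hφ hok b1 b2] at this
      have h2 : g.2 (lineOf φ hφ _ hu) = lineOf φ hφ _ hu := Sum.inr_injective this
      rw [← hs] at h2
      exact h2
    have hW : ∀ i, lineOK (D.wmatᵀ i) = true := fun i => by
      obtain ⟨b1, b2, -⟩ := hb i.val (le_of_lt i.isLt)
      exact lineOK_right hok (show D.Br.getD i.val 0 - D.dL < D.dR by omega)
    obtain ⟨b1, b2, -⟩ := hb n le_rfl
    have hc := mem_center_of_fix φ hφ hF hn hgp hW (lineOK_right hok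
      (show D.Br.getD n 0 - D.dL < D.dR by omega)) s
      (fun i => hline i.val (le_of_lt i.isLt) _ (hW i) rfl) (hline n le_rfl _ _ rfl)
    rw [← ker_permHom hF hn] at hc
    exact hs ▸ hc
  refine Prod.ext (ext_frame fun q => ?_) ?_
  · rw [Prod.fst_one, one_smul]
    have hl : ∀ j, g.1 • D.leftV (D.Bl.getD j 0) = D.leftV (D.Bl.getD j 0) ∨ D.Bl.length ≤ j := by
      intro j
      by_cases hj : j < D.Bl.length
      · left
        have hm : D.Bl.getD j 0 ∈ D.Bl := by
          rw [List.getD_eq_getElem _ _ hj]; exact List.getElem_mem _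
        have := hfixL hg2 _ hm
        rw [pt_left φ hφ (hBl _ hm)] at this
        exact Sum.inl_injective this
      · exact Or.inr (by omega)
    obtain ⟨v, hv⟩ : ∃ v : leechLattice, v = ∑ j ∈ Finset.range D.Bl.length,
        (D.combos.getD (Golay.idx q) []).getD j 0 • D.leftV (D.Bl.getD j 0) := ⟨_, rfl⟩
    have hgv : g.1 • v = v := by
      rw [hv, ← addHom_apply, map_sum]
      refine Finset.sum_congr rfl fun j hj => ?_
      rw [map_zsmul, addHom_apply]
      rcases hl j with h | h
      · rw [h]
      · exact absurd (Finset.mem_range.1 hj) (by omega)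
    have hev : D.den • eightVec q = v := Subtype.ext (funext fun i => by
      rw [hv, AddSubgroup.val_finsetSum, Finset.sum_apply]
      have h := hcomb _ (Golay.idx_lt q) _ (Golay.idx_lt i)
      rw [dotL_eq_sum, List.length_map] at h
      have hs : ∀ j ∈ Finset.range D.Bl.length,
          (((D.combos.getD (Golay.idx q) []).getD j 0 • D.leftV (D.Bl.getD j 0) : leechLattice)
            : GolayPt → ℤ) i = (D.combos.getD (Golay.idx q) []).getD j 0 *
            (D.Bl.map fun i' => (D.left i').getD (Golay.idx i) 0).getD j 0 := fun j hj => by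
        have hj' := Finset.mem_range.1 hj
        have hm : D.Bl.getD j 0 ∈ D.Bl := by
          rw [List.getD_eq_getElem _ _ hj']; exact List.getElem_mem _
        rw [AddSubgroupClass.coe_zsmul, Pi.smul_apply, (leftV_val hok (hBl _ hm)).1, smul_eq_mul,
          List.getD_eq_getElem (l := D.Bl.map _) _ (by simpa using hj'), List.getElem_map,
          List.getD_eq_getElem D.Bl _ hj']
        rfl
      rw [Finset.sum_congr rfl hs, h, AddSubgroupClass.coe_zsmul, Pi.smul_apply, coe_eightVec,
        smul_eq_mul, Pi.single_apply]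
      by_cases hiq : i = q
      · subst hiq; simp; ring
      · rw [if_neg hiq, if_neg (fun e => hiq (Golay.idx_injective e)), mul_zero])
    have := congrArg (fun x : leechLattice => g.1 • x) hev
    simp only [smul_zsmul, hgv] at this
    exact Subtype.ext (smul_right_injective (GolayPt → ℤ) hden
      (congrArg Subtype.val (this.trans hev.symm)))
  · exact hg2

include hF hφ in
/-- The isomorphism. -/
theorem nonempty_mulEquiv (hn : 4 ≤ n ∨ (n = 3 ∧ 3 ≤ p)) (hinj : Function.Injective φ)
    (S : Subgroup Co0)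
    (hS : ∀ g : Co0, (∀ i ∈ D.fx, g • D.leftV i = D.leftV i) → g ∈ S)
    (hSc : Nat.card S = (D.chain.map fun L => L.words.length).prod)
    (hPc : Nat.card (Cfsg.PSU n F p) = (D.chain.map fun L => L.words.length).prod) :
    Nonempty (S ≃* Cfsg.PSU n F p) := by
  have hn2 : 2 ≤ n := by omega
  have : Finite (IsoLine n F p) :=
    Finite.of_injective (fun P => ((P.1 : Submodule F (Fin n → F)) : Set (Fin n → F)))
      fun P Q e => Subtype.ext (SetLike.ext' e)
  have hts := tablesSound hF φ hφ hok
  have hrange : ∀ g ∈ sub (D.gen F hF φ hφ) (List.range D.m), g.2 ∈ (permHom n F p).range := by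
    intro g hg
    have hle : sub (D.gen F hF φ hφ) (List.range D.m) ≤
        (permHom n F p).range.comap (MonoidHom.snd Co0 (Equiv.Perm (IsoLine n F p))) := by
      rw [sub, Subgroup.closure_le]
      rintro _ ⟨k, hk, rfl⟩
      obtain ⟨h1, h2, he⟩ := gen_eq hF φ hφ hok (List.mem_range.1 hk)
      rw [SetLike.mem_coe, Subgroup.mem_comap, he]
      exact ⟨_, rfl⟩
    exact hle hg
  have hBd : ∀ β ∈ D.cmp, β < D.dL + D.dR := by
    have hb := hok.base
    simp only [baseOK, Bool.and_eq_true, List.all_eq_true, List.mem_range, beq_iff_eq,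
      decide_eq_true_eq, Nat.blt_eq, Nat.ble_eq] at hb
    obtain ⟨⟨⟨⟨⟨⟨⟨⟨⟨⟨-, -⟩, hBl⟩, -⟩, -⟩, -⟩, hBr⟩, -⟩, -⟩, -⟩, -⟩ := hb
    intro β hβ
    rw [cmp] at hβ
    split_ifs at hβ
    · rcases List.mem_append.1 hβ with h | h
      · have := hBl β h; omega
      · exact (hBr β h).2
    · exact (hBr β hβ).2
  obtain ⟨hnm, hcard, htriv⟩ := chain_spec hts (injOn_pt φ hφ hok hinj) hBd
    (fun g hg h => eq_one_of_fix_base hF φ hφ hok hn2 (hrange g hg)
      (fun β hβ => h β (by rw [cmp]; split_ifs <;> simp [hβ]))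
      fun h2 β hβ => by
        rcases hok.rel with he | ⟨hr, hrt⟩
        · exact h β (by rw [cmp, if_pos he]; exact List.mem_append_left _ hβ)
        · refine fix_of_rel hts (injOn_pt φ hφ hok hinj) (Nat.le_add_right _ _) hr hrt hg
            (fun b b1 b2 => ?_) β hβ ?_
          · rw [pt_right φ hφ hok b1 b2]
            show Sum.inr (g.2 _) = _
            rw [h2]
            rfl
          · have hb := hok.base
            simp only [baseOK, Bool.and_eq_true, List.all_eq_true, Nat.blt_eq] at hb
            exact hb.1.1.1.1.1.1.1.1.2 β hβ) D.chain hok.chain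
  have hb := hok.base
  simp only [baseOK, Bool.and_eq_true, List.all_eq_true, List.any_eq_true, List.mem_range,
    beq_iff_eq, decide_eq_true_eq, Nat.blt_eq, Nat.ble_eq, List.contains_iff_mem,
    Bool.not_eq_true', beq_eq_false_iff_ne] at hb
  obtain ⟨⟨⟨⟨⟨⟨⟨⟨⟨⟨hfx, hfxd⟩, -⟩, -⟩, -⟩, -⟩, -⟩, -⟩, htop⟩, hbr⟩, k0, hk0, i0, hi0, hne⟩ := hb
  set H := sub (D.gen F hF φ hφ) (nextGens D.chain) with hH
  have hHall : sub (D.gen F hF φ hφ) (List.range D.m) = H :=
    le_antisymm (Subgroup.closure_mono (Set.image_mono fun k hk => htop k (List.mem_range.1 hk)))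
      (Subgroup.closure_mono (Set.image_mono fun k hk => List.mem_range.2 (hnm k hk)))
  let f2 : H →* (permHom n F p).range :=
    ((MonoidHom.snd Co0 (Equiv.Perm (IsoLine n F p))).comp H.subtype).codRestrict _
      fun g => hrange g.1 (by rw [hHall]; exact g.2)
  have hf2 : Function.Injective f2 := by
    refine (injective_iff_map_eq_one f2).2 fun g hg => Subtype.ext (htriv g.1 g.2 fun L hL => ?_)
    have hg' : g.1.2 = 1 := congrArg Subtype.val hg
    have hLd : L.b < D.dL + D.dR := base_lt hok.chain L hL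
    rw [pt_right φ hφ hok (hbr L hL) hLd]
    show Sum.inr (g.1.2 _) = _
    rw [hg']
    rfl
  obtain ⟨eR⟩ := nonempty_range_permHom (n := n) (p := p) hF hn2
  have hbij : Function.Bijective f2 := by
    refine (Nat.bijective_iff_injective_and_card f2).2 ⟨hf2, ?_⟩
    rw [hcard, Nat.card_congr eR.toEquiv, hPc]
  let eH : H ≃* Cfsg.PSU n F p := (MulEquiv.ofBijective f2 hbij).trans eR
  have : IsSimpleGroup H :=
    have := isSimpleGroup_PSU (n := n) hF hn
    eH.symm.isSimpleGroup_congr.1 this
  have hfix1 : ∀ g ∈ H, ∀ i ∈ D.fx, g.1 • D.leftV i = D.leftV i := by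
    intro g hg i hi
    have hle : H ≤ (MulAction.stabilizer Co0 (D.leftV i)).comap
        (MonoidHom.fst Co0 (Equiv.Perm (IsoLine n F p))) := by
      rw [hH, sub, Subgroup.closure_le]
      rintro _ ⟨k, hk, rfl⟩
      have hkm := hnm k hk
      have e := (hts k hkm i (by have := hfxd i hi; omega)).2
      rw [hfx k hkm i hi, pt_left φ hφ (hfxd i hi)] at e
      rw [SetLike.mem_coe, Subgroup.mem_comap]
      exact Sum.inl_injective e
    exact hle hg
  let f1 : H →* S :=
    ((MonoidHom.fst Co0 (Equiv.Perm (IsoLine n F p))).comp H.subtype).codRestrict S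
      fun g => hS _ (hfix1 g.1 g.2)
  have hf1 : Function.Injective f1 := by
    rw [← MonoidHom.ker_eq_bot_iff]
    refine (this.eq_bot_or_eq_top_of_normal _ inferInstance).resolve_right fun h => ?_
    have hk : D.gen F hF φ hφ k0 ∈ H :=
      gen_mem_sub _ (htop k0 hk0)
    have h1 : (D.gen F hF φ hφ k0).1 = 1 := by
      have := MonoidHom.mem_ker.1 (show (⟨_, hk⟩ : H) ∈ f1.ker by rw [h]; trivial)
      exact congrArg Subtype.val this
    obtain ⟨hlt, e⟩ := hts k0 hk0 i0 (by omega)
    rw [pt_left φ hφ hi0] at e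
    have e' : Sum.inl ((D.gen F hF φ hφ k0).1 • D.leftV i0) = D.pt F φ hφ _ := e
    rw [h1, one_smul, ← pt_left φ hφ hi0] at e'
    exact hne ((injOn_pt φ hφ hok hinj (show i0 < D.dL + D.dR by omega) hlt e').symm)
  have hb1 : Function.Bijective f1 := by
    refine (Nat.bijective_iff_injective_and_card f1).2 ⟨hf1, ?_⟩
    rw [hcard, hSc]
  exact ⟨(MulEquiv.ofBijective f1 hb1).symm.trans eH⟩

end

end PSUData

end Cfsg.Agent.Leech
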