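import Cfsg.Agent.Lib.Leech.Generation
import Cfsg.Agent.Lib.Leech.Frames

/-!
# Recognition of the lattice from a frame and the number of minimal vectors

* `GolayUnique` : uniqueness of the code up to a permutation of the points (hypothesis form)
* `LeechLike L` : `L` contains the frame vectors, is even integral of minimum 32, with 196560
  minimal vectors
* `recognition` : such `L` is a signed coordinate permutation of `leechLattice`
-/

set_option autoImplicit false

namespace Cfsg.Agent.Leech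

/-- Uniqueness of the code up to a permutation of the points. -/
def GolayUnique : Prop :=
  ∀ C : Submodule (ZMod 2) (GolayPt → ZMod 2), Module.finrank (ZMod 2) C = 12 →
    (∀ v ∈ C, ∀ w ∈ C, ∑ i, v i * w i = 0) → (∀ w ∈ C, 4 ∣ (support₂ w).card) →
    (∀ w ∈ C, (support₂ w).card ≠ 4) →
    ∃ e : Equiv.Perm GolayPt, ∀ w ∈ C, w ∘ e ∈ golayCode

/-- The hypotheses of the recognition theorem. -/
structure LeechLike (L : AddSubgroup (GolayPt → ℤ)) : Prop where
  four_mem : ∀ (i j : GolayPt) (s t : ℤ), (2 : ℤ) ∣ s + t →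
    (Pi.single i (4 * s) + Pi.single j (4 * t) : GolayPt → ℤ) ∈ L
  dvd_dot : ∀ x ∈ L, ∀ y ∈ L, (8 : ℤ) ∣ dotInt x y
  dvd_norm : ∀ x ∈ L, (16 : ℤ) ∣ sqNorm x
  min32 : ∀ x ∈ L, x ≠ 0 → 32 ≤ sqNorm x
  count : {x | x ∈ L ∧ sqNorm x = 32}.ncard = 196560

/-- Permute the coordinates and change signs. -/
def twist (σ : Equiv.Perm GolayPt) (d : GolayPt → ℤ) : (GolayPt → ℤ) →+ (GolayPt → ℤ) where
  toFun x := fun i => d i * x (σ i)
  map_zero' := by funext i; simp
  map_add' x y := by funext i; simp [mul_add]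

theorem twist_apply (σ : Equiv.Perm GolayPt) (d : GolayPt → ℤ) (x : GolayPt → ℤ) (i : GolayPt) :
    twist σ d x i = d i * x (σ i) := rfl

theorem dotInt_twist (σ : Equiv.Perm GolayPt) {d : GolayPt → ℤ} (hd : ∀ i, d i * d i = 1)
    (x y : GolayPt → ℤ) : dotInt (twist σ d x) (twist σ d y) = dotInt x y := by
  rw [dotInt, dotInt, ← Equiv.sum_comp σ fun i => x i * y i]
  refine Finset.sum_congr rfl fun i _ => ?_
  simp only [twist_apply]
  linear_combination (x (σ i) * y (σ i)) * hd i

theorem sqNorm_twist (σ : Equiv.Perm GolayPt) {d : GolayPt → ℤ} (hd : ∀ i, d i * d i = 1)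
    (x : GolayPt → ℤ) : sqNorm (twist σ d x) = sqNorm x := by
  rw [sqNorm_eq_dotInt, sqNorm_eq_dotInt, dotInt_twist σ hd]

theorem twist_injective (σ : Equiv.Perm GolayPt) {d : GolayPt → ℤ} (hd : ∀ i, d i * d i = 1) :
    Function.Injective (twist σ d) := by
  intro x y h
  funext i
  have h2 := congrFun h (σ.symm i)
  simp only [twist_apply, Equiv.apply_symm_apply] at h2
  exact mul_left_cancel₀ (fun h0 => by simpa [h0] using hd (σ.symm i)) h2

theorem twist_surjective (σ : Equiv.Perm GolayPt) {d : GolayPt → ℤ} (hd : ∀ i, d i * d i = 1) :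
    Function.Surjective (twist σ d) := by
  intro y
  refine ⟨fun i => d (σ.symm i) * y (σ.symm i), funext fun i => ?_⟩
  simp only [twist_apply, Equiv.symm_apply_apply]
  rw [← mul_assoc, hd i, one_mul]

theorem twist_single (σ : Equiv.Perm GolayPt) (d : GolayPt → ℤ) (i : GolayPt) (s : ℤ) :
    twist σ d (Pi.single i s) = Pi.single (σ.symm i) (d (σ.symm i) * s) := by
  funext l
  rw [twist_apply]
  by_cases h : l = σ.symm i
  · subst h; simp
  · have h' : σ l ≠ i := fun e => h (by rw [← e, Equiv.symm_apply_apply])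
    simp [h, h']

theorem twist_twist (σ τ : Equiv.Perm GolayPt) (d e : GolayPt → ℤ) (x : GolayPt → ℤ) :
    twist τ e (twist σ d x) = twist (σ * τ) (fun i => e i * d (τ i)) x := by
  funext i
  simp only [twist_apply, Equiv.Perm.mul_apply, mul_assoc]

theorem LeechLike.map {L : AddSubgroup (GolayPt → ℤ)} (hL : LeechLike L) (σ : Equiv.Perm GolayPt)
    {d : GolayPt → ℤ} (hd : ∀ i, d i * d i = 1) : LeechLike (L.map (twist σ d)) where
  four_mem := by
    intro i j s t hst
    refine ⟨Pi.single (σ i) (4 * (d i * s)) + Pi.single (σ j) (4 * (d j * t)),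
      hL.four_mem _ _ _ _ ?_, ?_⟩
    · rcases mul_self_eq_one_iff.1 (hd i) with h | h <;>
        rcases mul_self_eq_one_iff.1 (hd j) with h' | h' <;> rw [h, h'] <;> omega
    · rw [map_add, twist_single, twist_single, Equiv.symm_apply_apply, Equiv.symm_apply_apply]
      congr 2
      · linear_combination (4 * s) * hd i
      · linear_combination (4 * t) * hd j
  dvd_dot := by
    rintro _ ⟨x, hx, rfl⟩ _ ⟨y, hy, rfl⟩
    rw [dotInt_twist σ hd]; exact hL.dvd_dot x hx y hy
  dvd_norm := by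
    rintro _ ⟨x, hx, rfl⟩
    rw [sqNorm_twist σ hd]; exact hL.dvd_norm x hx
  min32 := by
    rintro _ ⟨x, hx, rfl⟩ h0
    rw [sqNorm_twist σ hd]
    exact hL.min32 x hx fun h => h0 (by rw [h, map_zero])
  count := by
    rw [← hL.count]
    conv_rhs => rw [← Set.ncard_image_of_injective _ (twist_injective σ hd)]
    congr 1
    ext y
    constructor
    · rintro ⟨⟨x, hx, rfl⟩, hy⟩
      exact ⟨x, ⟨hx, by rwa [sqNorm_twist σ hd] at hy⟩, rfl⟩
    · rintro ⟨x, ⟨hx, hn⟩, rfl⟩
      exact ⟨⟨x, hx, rfl⟩, by rwa [sqNorm_twist σ hd]⟩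

variable {L : AddSubgroup (GolayPt → ℤ)}

theorem LeechLike.four_sum (hL : LeechLike L) (b : GolayPt → ℤ) (hb : (2 : ℤ) ∣ ∑ i, b i) :
    (4 : ℤ) • b ∈ L := by
  obtain ⟨k, hk⟩ := hb
  have he : (4 : ℤ) • b = ∑ i, (Pi.single i (4 * b i) + Pi.single none (4 * -b i) : GolayPt → ℤ)
      + k • (Pi.single none (4 * 1) + Pi.single none (4 * 1) : GolayPt → ℤ) := by
    funext l
    simp only [Pi.smul_apply, Pi.add_apply, Finset.sum_apply, smul_eq_mul, Pi.single_apply,
      Finset.sum_add_distrib, Finset.sum_ite_eq, Finset.mem_univ, if_true]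
    by_cases hl : l = none
    · subst hl
      simp only [if_true, ← Finset.mul_sum, Finset.sum_neg_distrib, hk]; ring
    · simp [hl]
  rw [he]
  exact L.add_mem (L.sum_mem fun i _ => hL.four_mem _ _ _ _ (by omega))
    (L.zsmul_mem (hL.four_mem _ _ _ _ (by norm_num)) _)

theorem LeechLike.same_parity (hL : LeechLike L) {x : GolayPt → ℤ} (hx : x ∈ L) (i j : GolayPt) :
    (2 : ℤ) ∣ x i + x j := by
  have h := hL.dvd_dot x hx _ (hL.four_mem i j 1 1 (by norm_num))
  rw [dotInt_add_right, dotInt_single, dotInt_single] at h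
  omega

/-- The code read off from the even vectors. -/
def codeOf (L : AddSubgroup (GolayPt → ℤ)) : Submodule (ZMod 2) (GolayPt → ZMod 2) where
  carrier := {w | ∃ a : GolayPt → ℤ, (2 : ℤ) • a ∈ L ∧ mod2 a = w}
  zero_mem' := ⟨0, by rw [smul_zero]; exact L.zero_mem, mod2_zero⟩
  add_mem' := by
    rintro _ _ ⟨a, ha, rfl⟩ ⟨b, hb, rfl⟩
    exact ⟨a + b, by rw [smul_add]; exact L.add_mem ha hb, mod2_add a b⟩
  smul_mem' := by
    rintro c _ ⟨a, ha, rfl⟩
    rcases zmod2_cases c with rfl | rfl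
    · exact ⟨0, by rw [smul_zero]; exact L.zero_mem, by rw [mod2_zero, zero_smul]⟩
    · exact ⟨a, ha, by rw [one_smul]⟩

theorem mod2_mem_codeOf {a : GolayPt → ℤ} (h : (2 : ℤ) • a ∈ L) : mod2 a ∈ codeOf L :=
  ⟨a, h, rfl⟩

theorem LeechLike.sum_half (hL : LeechLike L) {b : GolayPt → ℤ} (h : (4 : ℤ) • b ∈ L) :
    (2 : ℤ) ∣ ∑ i, b i := by
  by_contra hodd
  have h2 := L.sub_mem h (hL.four_sum (b - Pi.single none 1) (by
    simp only [Pi.sub_apply, Finset.sum_sub_distrib, Finset.sum_pi_single', Finset.mem_univ, if_true]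
    omega))
  rw [← smul_sub, sub_sub_cancel] at h2
  have h3 := hL.min32 _ h2 (fun e => by simpa using congrFun e none)
  rw [sqNorm_zsmul, sqNorm_single] at h3
  norm_num at h3

theorem LeechLike.code_dot (hL : LeechLike L) :
    ∀ v ∈ codeOf L, ∀ w ∈ codeOf L, ∑ i, v i * w i = 0 := by
  rintro _ ⟨a, ha, rfl⟩ _ ⟨b, hb, rfl⟩
  have h := hL.dvd_dot _ ha _ hb
  rw [dotInt_smul_left, dotInt_smul_right] at h
  simp only [mod2_apply, ← Int.cast_mul, ← Int.cast_sum]
  rw [ZMod.intCast_zmod_eq_zero_iff_dvd]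
  unfold dotInt at h
  push_cast
  omega

theorem LeechLike.code_dvd (hL : LeechLike L) : ∀ w ∈ codeOf L, 4 ∣ (support₂ w).card := by
  rintro _ ⟨a, ha, rfl⟩
  have h := hL.dvd_norm _ ha
  rw [sqNorm_zsmul, sqNorm] at h
  have h2 := sum_sq_mod_four a
  simp only [Int.ModEq] at h2
  omega

theorem LeechLike.code_no_four (hL : LeechLike L) : ∀ w ∈ codeOf L, (support₂ w).card ≠ 4 := by
  rintro _ ⟨a, ha, rfl⟩ hc
  obtain ⟨p, hp⟩ := Finset.card_pos.1 (by omega : 0 < (support₂ (mod2 a)).card)
  set A := support₂ (mod2 a) with hA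
  set u : GolayPt → ℤ := fun i => if i ∈ A then 1 else 0 with hu
  have hd : ∀ i, (2 : ℤ) ∣ a i - u i := by
    intro i
    simp only [hu, hA, support₂_mod2, Finset.mem_filter, Finset.mem_univ, true_and]
    by_cases h : (2 : ℤ) ∣ a i
    · simp [h]
    · rw [if_pos h]; omega
  choose b hb using hd
  obtain ⟨e, he, hev⟩ : ∃ e : ℤ, (e = 0 ∨ e = 1) ∧ (2 : ℤ) ∣ ∑ i, b i + e :=
    ⟨(∑ i, b i) % 2, by omega, by omega⟩
  have h2 := L.sub_mem ha (hL.four_sum (b + Pi.single p e) (by
    simpa [Finset.sum_add_distrib, Finset.sum_pi_single'] using hev))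
  set y := (2 : ℤ) • a - (4 : ℤ) • (b + Pi.single p e)
  have hy : ∀ i, y i = 2 * u i - 4 * (Pi.single p e : GolayPt → ℤ) i := by
    intro i
    have := hb i
    simp only [y, Pi.sub_apply, Pi.smul_apply, Pi.add_apply, smul_eq_mul]
    omega
  have hsq : ∀ i, y i ^ 2 = if i ∈ A then 4 else 0 := by
    intro i
    rw [hy i]
    by_cases hi : i = p
    · subst hi; simp only [hu, hp, if_true, Pi.single_eq_same]
      rcases he with rfl | rfl <;> norm_num
    · simp only [hu, Pi.single_eq_of_ne hi]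
      split_ifs <;> norm_num
  have hn : sqNorm y = 16 := by
    rw [sqNorm, Finset.sum_congr rfl fun i _ => hsq i, Finset.sum_ite, Finset.sum_const_zero,
      Finset.filter_univ_mem, Finset.sum_const, hc]
    norm_num
  have h0 : y ≠ 0 := fun e0 => by rw [e0, sqNorm_zero] at hn; norm_num at hn
  have := hL.min32 y h2 h0
  omega

theorem LeechLike.weight_ge (hL : LeechLike L) {w : GolayPt → ZMod 2} (hw : w ∈ codeOf L)
    (h0 : (support₂ w).card ≠ 0) : 8 ≤ (support₂ w).card := by
  have h1 := hL.code_dvd w hw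
  have h2 := hL.code_no_four w hw
  omega

theorem finrank_le_twelve (C : Submodule (ZMod 2) (GolayPt → ZMod 2))
    (h : ∀ v ∈ C, ∀ w ∈ C, ∑ i, v i * w i = 0) : Module.finrank (ZMod 2) C ≤ 12 := by
  have hle : C.map (dotProductEquiv (ZMod 2) GolayPt).toLinearMap ≤ C.dualAnnihilator := by
    rintro _ ⟨v, hv, rfl⟩
    rw [Submodule.mem_dualAnnihilator]
    intro w hw
    exact h v hv w hw
  have h1 := Subspace.finrank_add_finrank_dualAnnihilator_eq C
  have h2 := Submodule.finrank_mono hle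
  rw [LinearEquiv.finrank_map_eq] at h2
  rw [Module.finrank_fintype_fun_eq_card, card_pt] at h1
  omega

theorem support₂_add_card (u v : GolayPt → ZMod 2) :
    (support₂ (u + v)).card + 2 * (support₂ u ∩ support₂ v).card
      = (support₂ u).card + (support₂ v).card := by
  rw [← Golay.card_symmDiff_add]
  congr 2
  ext i
  simp only [support₂, Finset.mem_symmDiff, Finset.mem_filter, Finset.mem_univ, true_and,
    Pi.add_apply]
  generalize u i = p
  generalize v i = q
  revert p q
  decide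


/-- The minimal vectors of `L`, as a finset. -/
noncomputable def LeechLike.minVecs (hL : LeechLike L) : Finset (GolayPt → ℤ) :=
  (Set.finite_of_ncard_ne_zero (s := {x | x ∈ L ∧ sqNorm x = 32})
    (by rw [hL.count]; norm_num)).toFinset

theorem LeechLike.mem_minVecs (hL : LeechLike L) {x : GolayPt → ℤ} :
    x ∈ hL.minVecs ↔ x ∈ L ∧ sqNorm x = 32 := Set.Finite.mem_toFinset _

theorem LeechLike.card_minVecs (hL : LeechLike L) : hL.minVecs.card = 196560 := by
  rw [LeechLike.minVecs]
  exact (Set.ncard_eq_toFinset_card _ _).symm.trans hL.count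

open Classical in
/-- The words of weight 8 in the code. -/
noncomputable def LeechLike.eights (_hL : LeechLike L) : Finset (GolayPt → ZMod 2) :=
  Finset.univ.filter fun w => w ∈ codeOf L ∧ (support₂ w).card = 8

theorem LeechLike.mem_eights (hL : LeechLike L) {w : GolayPt → ZMod 2} :
    w ∈ hL.eights ↔ w ∈ codeOf L ∧ (support₂ w).card = 8 := by
  classical
  simp [LeechLike.eights]

theorem LeechLike.card_eights_le (hL : LeechLike L) : hL.eights.card ≤ 759 := by
  classical
  have hd : ∀ v ∈ hL.eights, ∀ w ∈ hL.eights, v ≠ w →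
      Disjoint ((support₂ v).powersetCard 5) ((support₂ w).powersetCard 5) := by
    intro v hv w hw hne
    rw [hL.mem_eights] at hv hw
    refine Finset.disjoint_left.2 fun S hS hS' => ?_
    rw [Finset.mem_powersetCard] at hS hS'
    have h5 : 5 ≤ (support₂ v ∩ support₂ w).card :=
      hS.2 ▸ Finset.card_le_card (Finset.subset_inter hS.1 hS'.1)
    have h0 : (support₂ (v + w)).card ≠ 0 := by
      intro h
      apply hne
      funext i
      have hi : i ∉ support₂ (v + w) := by rw [Finset.card_eq_zero.1 h]; exact Finset.notMem_empty i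
      simp only [support₂, Finset.mem_filter, Finset.mem_univ, true_and, not_not, Pi.add_apply] at hi
      exact zmod2_add_eq_zero _ _ hi
    have := hL.weight_ge ((codeOf L).add_mem hv.1 hw.1) h0
    have := support₂_add_card v w
    omega
  have h1 : (hL.eights.biUnion fun w => (support₂ w).powersetCard 5).card
      = hL.eights.card * 56 := by
    rw [Finset.card_biUnion hd, Finset.sum_congr rfl (g := fun _ => 56) fun w hw => by
      rw [Finset.card_powersetCard, (hL.mem_eights.1 hw).2]; rfl]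
    rw [Finset.sum_const, smul_eq_mul]
  have h2 : (hL.eights.biUnion fun w => (support₂ w).powersetCard 5).card ≤ 42504 := by
    refine (Finset.card_le_card (t := (Finset.univ : Finset GolayPt).powersetCard 5) ?_).trans ?_
    · intro S hS
      obtain ⟨w, -, hS⟩ := Finset.mem_biUnion.1 hS
      exact Finset.mem_powersetCard.2 ⟨Finset.subset_univ _, (Finset.mem_powersetCard.1 hS).2⟩
    · rw [Finset.card_powersetCard, Finset.card_univ, card_pt]
      decide +kernel
  omega
where
  zmod2_add_eq_zero : ∀ p q : ZMod 2, p + q = 0 → p = q := by decide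

/-- Half of an even vector. -/
def halve (x : GolayPt → ℤ) : GolayPt → ℤ := fun i => x i / 2

theorem LeechLike.two_smul_halve (hL : LeechLike L) {x : GolayPt → ℤ} (hx : x ∈ L)
    (he : (2 : ℤ) ∣ x none) : (2 : ℤ) • halve x = x := by
  funext i
  have := hL.same_parity hx i none
  simp only [Pi.smul_apply, smul_eq_mul, halve]
  omega

theorem sqNorm_eight_or_zero {a : GolayPt → ℤ} (hn : sqNorm a = 8)
    (h : (support₂ (mod2 a)).card = 8) (i : GolayPt) :
    (i ∈ support₂ (mod2 a) → a i = 1 ∨ a i = -1) ∧ (i ∉ support₂ (mod2 a) → a i = 0) := by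
  set A := support₂ (mod2 a) with hA
  have hne : ∀ l ∈ A, 1 ≤ a l ^ 2 := by
    intro l hl
    rw [hA, support₂_mod2, Finset.mem_filter] at hl
    have := sq_pos_of_ne_zero (show a l ≠ 0 from fun e => hl.2 (e ▸ dvd_zero _))
    omega
  have hs : ∑ l ∈ A, a l ^ 2 + ∑ l ∈ Aᶜ, a l ^ 2 = 8 := by
    rw [Finset.sum_add_sum_compl]; exact hn
  have h8 : (8 : ℤ) ≤ ∑ l ∈ A, a l ^ 2 := by
    refine le_trans (le_of_eq ?_) (Finset.sum_le_sum hne)
    rw [Finset.sum_const, h]; rfl
  have h0 : (0 : ℤ) ≤ ∑ l ∈ Aᶜ, a l ^ 2 := Finset.sum_nonneg fun l _ => sq_nonneg _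
  constructor
  · intro hi
    have he := (Finset.sum_eq_sum_iff_of_le hne).1 (by
      rw [Finset.sum_const, h, nsmul_eq_mul]; push_cast; omega)
    exact sq_eq_one_iff.1 (he i hi).symm
  · intro hi
    have he := (Finset.sum_eq_zero_iff_of_nonneg fun l _ => sq_nonneg (a l)).1
      (show ∑ l ∈ Aᶜ, a l ^ 2 = 0 by omega)
    exact sq_eq_zero_iff.1 (he i (Finset.mem_compl.2 hi))

theorem LeechLike.card_zero_word_le (hL : LeechLike L) :
    (hL.minVecs.filter fun x => (2 : ℤ) ∣ x none ∧ support₂ (mod2 (halve x)) = ∅).card ≤ 1104 := by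
  classical
  refine le_trans (Finset.card_le_card (t := (finite_shellSet (by norm_num : 8 ∣ (32 : ℕ))
    (by norm_num) (by norm_num) [0, 4, -4]).toFinset) ?_) ?_
  · intro x hx
    rw [Finset.mem_filter, hL.mem_minVecs] at hx
    obtain ⟨⟨hxL, hn⟩, he, hA⟩ := hx
    have hb : ∀ i, (2 : ℤ) ∣ halve x i := by
      intro i
      have hi : i ∉ support₂ (mod2 (halve x)) := by rw [hA]; exact Finset.notMem_empty i
      simpa [support₂_mod2] using hi
    choose b hb using hb
    have hx4 : x = (4 : ℤ) • b := by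
      conv_lhs => rw [← hL.two_smul_halve hxL he]
      funext i
      simp only [Pi.smul_apply, smul_eq_mul, hb i]; ring
    subst hx4
    have hbs := hL.sum_half hxL
    rw [sqNorm_zsmul] at hn
    rw [Set.Finite.mem_toFinset]
    refine ⟨?_, by rw [sqNorm_zsmul]; exact_mod_cast hn, fun i => ?_⟩
    · have := mem_mk_even ((2 : ℤ) • b) (by
        simp only [Pi.smul_apply, smul_eq_mul, ← Finset.mul_sum]; omega) (by
        have h0 : mod2 ((2 : ℤ) • b) = 0 := by
          funext j; simp [mod2, show (2 : ZMod 2) = 0 from rfl]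
        rw [h0]; exact golayCode.zero_mem)
      rwa [smul_smul] at this
    · have h1 := sq_le_sqNorm b i
      have h2 : b i ^ 2 < 2 ^ 2 := by omega
      have := abs_lt.1 (abs_lt_of_sq_lt_sq h2 (by norm_num))
      simp only [Pi.smul_apply, smul_eq_mul, List.mem_cons, List.not_mem_nil, or_false]
      omega
  · rw [← Set.ncard_eq_toFinset_card _ (finite_shellSet (by norm_num : 8 ∣ (32 : ℕ)) (by norm_num)
      (by norm_num) [0, 4, -4]), ncard_shellSet (by norm_num) (by norm_num) (by norm_num)]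
    decide +kernel

theorem LeechLike.card_word_fibre_le (hL : LeechLike L) {w : GolayPt → ZMod 2}
    (hw : (support₂ w).card = 8) :
    (hL.minVecs.filter fun x => (2 : ℤ) ∣ x none ∧ mod2 (halve x) = w).card ≤ 128 := by
  classical
  obtain ⟨p, hp⟩ := Finset.card_pos.1 (by omega : 0 < (support₂ w).card)
  set F := hL.minVecs.filter fun x => (2 : ℤ) ∣ x none ∧ mod2 (halve x) = w
  have hF : ∀ x ∈ F, x ∈ L ∧ (2 : ℤ) • halve x = x ∧ sqNorm (halve x) = 8 ∧ mod2 (halve x) = w := by
    intro x hx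
    obtain ⟨h1, he, hm⟩ := Finset.mem_filter.1 hx
    obtain ⟨h1, hn⟩ := hL.mem_minVecs.1 h1
    refine ⟨h1, hL.two_smul_halve h1 he, ?_, hm⟩
    rw [← hL.two_smul_halve h1 he, sqNorm_zsmul] at hn
    omega
  let f : (GolayPt → ℤ) → Finset GolayPt :=
    fun x => ((support₂ w).erase p).filter fun i => halve x i < 0
  have h128 : ((support₂ w).erase p).powerset.card = 128 := by
    rw [Finset.card_powerset, Finset.card_erase_of_mem hp, hw]; rfl
  rw [← h128]
  refine Finset.card_le_card_of_injOn f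
    (fun x _ => Finset.mem_powerset.2 (Finset.filter_subset _ _)) ?_
  intro x hx y hy hxy
  obtain ⟨hxL, hx2, hxn, hxw⟩ := hF x hx
  obtain ⟨hyL, hy2, hyn, hyw⟩ := hF y hy
  have hsx := sqNorm_eight_or_zero hxn (by rw [hxw, hw])
  have hsy := sqNorm_eight_or_zero hyn (by rw [hyw, hw])
  rw [hxw] at hsx
  rw [hyw] at hsy
  have hoff : ∀ i, i ≠ p → halve x i = halve y i := by
    intro i hip
    by_cases hi : i ∈ support₂ w
    · have hiff := Finset.ext_iff.1 hxy i
      simp only [f, Finset.mem_filter, Finset.mem_erase, ne_eq, hip, not_false_eq_true, hi,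
        true_and] at hiff
      rcases (hsx i).1 hi with e | e <;> rcases (hsy i).1 hi with e' | e' <;>
        rw [e, e'] at hiff <;> omega
    · rw [(hsx i).2 hi, (hsy i).2 hi]
  have hev : (2 : ℤ) ∣ halve x p - halve y p := by
    rcases (hsx p).1 hp with e | e <;> rcases (hsy p).1 hp with e' | e' <;> rw [e, e'] <;> norm_num
  obtain ⟨c, hc⟩ := hev
  have hxy4 : (4 : ℤ) • (Pi.single p c : GolayPt → ℤ) = x - y := by
    rw [← hx2, ← hy2]
    funext i
    simp only [Pi.smul_apply, Pi.sub_apply, smul_eq_mul]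
    by_cases hi : i = p
    · subst hi; rw [Pi.single_eq_same]; omega
    · rw [Pi.single_eq_of_ne hi, hoff i hi]; ring
  have hc2 := hL.sum_half (b := Pi.single p c) (by rw [hxy4]; exact L.sub_mem hxL hyL)
  rw [Finset.sum_pi_single', if_pos (Finset.mem_univ _)] at hc2
  have hc0 : c = 0 := by
    rcases (hsx p).1 hp with e | e <;> rcases (hsy p).1 hp with e' | e' <;> rw [e, e'] at hc <;> omega
  rw [hc0, Pi.single_zero, smul_zero] at hxy4
  exact sub_eq_zero.1 hxy4.symm

theorem LeechLike.card_even_le (hL : LeechLike L) :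
    (hL.minVecs.filter fun x => (2 : ℤ) ∣ x none).card ≤ 98256 := by
  classical
  set S := hL.minVecs.filter fun x => (2 : ℤ) ∣ x none
  set Z := hL.minVecs.filter fun x => (2 : ℤ) ∣ x none ∧ support₂ (mod2 (halve x)) = ∅
  set W := hL.eights.biUnion fun w =>
    hL.minVecs.filter fun x => (2 : ℤ) ∣ x none ∧ mod2 (halve x) = w
  have hsub : S ⊆ Z ∪ W := by
    intro x hx
    obtain ⟨hxm, he⟩ := Finset.mem_filter.1 hx
    obtain ⟨hxL, hn⟩ := hL.mem_minVecs.1 hxm
    have hw : mod2 (halve x) ∈ codeOf L :=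
      mod2_mem_codeOf (by rw [hL.two_smul_halve hxL he]; exact hxL)
    by_cases h0 : (support₂ (mod2 (halve x))).card = 0
    · exact Finset.mem_union_left _ (Finset.mem_filter.2 ⟨hxm, he, Finset.card_eq_zero.1 h0⟩)
    · refine Finset.mem_union_right _ (Finset.mem_biUnion.2
        ⟨_, hL.mem_eights.2 ⟨hw, ?_⟩, Finset.mem_filter.2 ⟨hxm, he, rfl⟩⟩)
      have h8 := hL.weight_ge hw h0
      rw [← hL.two_smul_halve hxL he, sqNorm_zsmul, sqNorm] at hn
      have hle : ((support₂ (mod2 (halve x))).card : ℤ) ≤ ∑ i, halve x i ^ 2 := by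
        rw [Finset.card_eq_sum_ones, Nat.cast_sum]
        refine (Finset.sum_le_sum fun i hi => ?_).trans
          (Finset.sum_le_sum_of_subset_of_nonneg (Finset.subset_univ _) fun i _ _ => sq_nonneg _)
        rw [support₂_mod2, Finset.mem_filter] at hi
        have := sq_pos_of_ne_zero (show halve x i ≠ 0 from fun h => hi.2 (h ▸ dvd_zero _))
        push_cast; omega
      omega
  have h1 := Finset.card_le_card hsub
  have h2 := Finset.card_union_le Z W
  have h3 : W.card ≤ hL.eights.card * 128 :=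
    Finset.card_biUnion_le_card_mul _ _ _ fun w hw => hL.card_word_fibre_le (hL.mem_eights.1 hw).2
  have h4 : Z.card ≤ 1104 := hL.card_zero_word_le
  have h5 := hL.card_eights_le
  omega

theorem odd_min_shape {x : GolayPt → ℤ} (hodd : ∀ i, ¬ (2 : ℤ) ∣ x i) (hn : sqNorm x = 32) :
    ∃ k, (x k = 3 ∨ x k = -3) ∧ ∀ i, i ≠ k → x i = 1 ∨ x i = -1 := by
  have hs : ∀ i, (8 : ℤ) ∣ x i ^ 2 - 1 ∧ 0 ≤ x i ^ 2 - 1 := by
    intro i
    obtain ⟨t, ht⟩ : ∃ t, x i = 2 * t + 1 := ⟨x i / 2, by have := hodd i; omega⟩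
    obtain ⟨u, hu⟩ := (Int.even_mul_succ_self t).two_dvd
    have := sq_pos_of_ne_zero (show x i ≠ 0 from fun e => hodd i (e ▸ dvd_zero _))
    exact ⟨⟨u, by rw [ht]; linear_combination 4 * hu⟩, by omega⟩
  choose h hh using fun i => (hs i).1
  have hsum : ∑ i, h i = 1 := by
    have : sqNorm x = 24 + 8 * ∑ i, h i := by
      rw [sqNorm, show (24 : ℤ) = ∑ _i : GolayPt, 1 by simp, Finset.mul_sum,
        ← Finset.sum_add_distrib]
      exact Finset.sum_congr rfl fun i _ => by rw [← hh i]; ring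
    omega
  have hpos : ∀ i, 0 ≤ h i := fun i => by have := (hs i).2; have := hh i; omega
  obtain ⟨k, hk⟩ : ∃ k, h k ≠ 0 := by
    by_contra hne
    push Not at hne
    simp [hne] at hsum
  have hrest := Finset.add_sum_erase Finset.univ h (Finset.mem_univ k)
  have hnn : 0 ≤ ∑ i ∈ Finset.univ.erase k, h i := Finset.sum_nonneg fun i _ => hpos i
  have := hpos k
  have hz := (Finset.sum_eq_zero_iff_of_nonneg fun i _ => hpos i).1
    (show ∑ i ∈ Finset.univ.erase k, h i = 0 by omega)
  refine ⟨k, ?_, fun i hi => sq_eq_one_iff.1 ?_⟩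
  · refine sq_eq_sq_iff_eq_or_eq_neg.1 ?_
    have := hh k; rw [show h k = 1 by omega] at this; omega
  · have := hh i; rw [hz i (Finset.mem_erase.2 ⟨hi, Finset.mem_univ i⟩)] at this; omega

/-- The residue word of an odd vector. -/
def oddWord (x : GolayPt → ℤ) : GolayPt → ZMod 2 := mod2 fun i => (x i - 1) / 2

theorem LeechLike.card_odd_le (hL : LeechLike L) :
    (hL.minVecs.filter fun x => ¬ (2 : ℤ) ∣ x none).card ≤ 24 * Nat.card (codeOf L) := by
  classical
  set O := hL.minVecs.filter fun x => ¬ (2 : ℤ) ∣ x none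
  rcases O.eq_empty_or_nonempty with h | ⟨x0, hx0⟩
  · simp [h]
  have hO : ∀ x ∈ O, x ∈ L ∧ sqNorm x = 32 ∧ ∀ i, ¬ (2 : ℤ) ∣ x i := by
    intro x hx
    obtain ⟨h1, h2⟩ := Finset.mem_filter.1 hx
    obtain ⟨h1, hn⟩ := hL.mem_minVecs.1 h1
    exact ⟨h1, hn, fun i hi => h2 (by have := hL.same_parity h1 i none; omega)⟩
  let pos : (GolayPt → ℤ) → GolayPt := fun x =>
    if h : (∀ i, ¬ (2 : ℤ) ∣ x i) ∧ sqNorm x = 32 then (odd_min_shape h.1 h.2).choose else none
  set T := (Finset.univ : Finset GolayPt) ×ˢ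
    ((Finset.univ.filter fun w => w ∈ codeOf L).image fun w => w + oddWord x0)
  have hT : T.card ≤ 24 * Nat.card (codeOf L) := by
    rw [Finset.card_product, Finset.card_univ, card_pt, Nat.card_eq_fintype_card,
      Fintype.card_subtype]
    exact Nat.mul_le_mul_left _ Finset.card_image_le
  refine le_trans (Finset.card_le_card_of_injOn (fun x => (pos x, oddWord x))
    (fun x hx => ?_) ?_) hT
  · refine Finset.mem_coe.2 (Finset.mem_product.2 ⟨Finset.mem_univ _,
      Finset.mem_image.2 ⟨oddWord x - oddWord x0, ?_, sub_add_cancel _ _⟩⟩)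
    refine Finset.mem_filter.2 ⟨Finset.mem_univ _, ?_⟩
    have hx' := hO x hx
    have hx0' := hO x0 hx0
    refine ⟨fun i => (x i - 1) / 2 - (x0 i - 1) / 2, ?_, ?_⟩
    · convert L.sub_mem hx'.1 hx0'.1 using 1
      funext i
      have := hx'.2.2 i
      have := hx0'.2.2 i
      simp only [Pi.smul_apply, Pi.sub_apply, smul_eq_mul]
      omega
    · funext i; simp [oddWord, mod2]
  · intro x hx y hy hxy
    obtain ⟨hxL, hxn, hxo⟩ := hO x hx
    obtain ⟨hyL, hyn, hyo⟩ := hO y hy
    simp only [Prod.mk.injEq, pos, dif_pos (And.intro hxo hxn), dif_pos (And.intro hyo hyn)] at hxy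
    obtain ⟨hk, hw⟩ := hxy
    obtain ⟨hx1, hx2⟩ := (odd_min_shape hxo hxn).choose_spec
    obtain ⟨hy1, hy2⟩ := (odd_min_shape hyo hyn).choose_spec
    rw [← hk] at hy1 hy2
    funext i
    have hwi := congrFun hw i
    simp only [oddWord, mod2] at hwi
    rw [ZMod.intCast_eq_intCast_iff_dvd_sub] at hwi
    have := hxo i
    have := hyo i
    push_cast at hwi
    by_cases hi : i = (odd_min_shape hxo hxn).choose
    · rw [← hi] at hx1 hy1; omega
    · have := hx2 i hi; have := hy2 i hi; omega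

theorem LeechLike.finrank_code (hL : LeechLike L) : Module.finrank (ZMod 2) (codeOf L) = 12 := by
  classical
  have h := Finset.card_filter_add_card_filter_not (s := hL.minVecs)
    (fun x : GolayPt → ℤ => (2 : ℤ) ∣ x none)
  rw [hL.card_minVecs] at h
  have h1 := hL.card_even_le
  have h2 := hL.card_odd_le
  have h3 : 4096 ≤ Nat.card (codeOf L) := by omega
  rw [Module.natCard_eq_pow_finrank (K := ZMod 2), Nat.card_zmod] at h3
  have h4 := finrank_le_twelve (codeOf L) hL.code_dot
  have h5 : 2 ^ 12 ≤ 2 ^ Module.finrank (ZMod 2) (codeOf L) := by norm_num; exact h3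
  have := (Nat.pow_le_pow_iff_right (by norm_num : 1 < 2)).1 h5
  omega

theorem LeechLike.exists_odd (hL : LeechLike L) : ∃ x ∈ L, sqNorm x = 32 ∧ ∀ i, ¬ (2 : ℤ) ∣ x i := by
  classical
  by_contra hne
  push Not at hne
  have h : hL.minVecs.filter (fun x => (2 : ℤ) ∣ x none) = hL.minVecs := by
    refine Finset.filter_true_of_mem fun x hx => ?_
    obtain ⟨hxL, hn⟩ := hL.mem_minVecs.1 hx
    obtain ⟨i, hi⟩ := hne x hxL hn
    have := hL.same_parity hxL i none
    omega
  have h1 := hL.card_even_le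
  rw [h, hL.card_minVecs] at h1
  omega

theorem LeechLike.eq_leech (hL : LeechLike L) (hC : ∀ w ∈ codeOf L, w ∈ golayCode)
    {x0 : GolayPt → ℤ} (hx0 : x0 ∈ L) (hn0 : sqNorm x0 = 32) (h1 : ∀ i, x0 i % 4 = 1) :
    L = leechLattice := by
  set a0 : GolayPt → ℤ := fun i => (x0 i - 1) / 2 with ha0
  have hrep : ∀ i, x0 i = 1 + 2 * a0 i := fun i => by have := h1 i; simp only [ha0]; omega
  have hev : ∀ i, (2 : ℤ) ∣ a0 i := fun i => by have := h1 i; simp only [ha0]; omega
  have hsum : ∑ i, a0 i ≡ 2 * 1 [ZMOD 4] := by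
    have hn := sqNorm_rep hrep
    rw [hn0] at hn
    have h4 : (4 : ℤ) ∣ ∑ i, a0 i ^ 2 := Finset.dvd_sum fun i _ => by
      obtain ⟨t, ht⟩ := hev i; exact ⟨t ^ 2, by rw [ht]; ring⟩
    simp only [Int.ModEq]
    omega
  have hm0 : mod2 a0 = 0 := funext fun i => by
    rw [mod2_apply, Pi.zero_apply, ZMod.intCast_zmod_eq_zero_iff_dvd]; exact_mod_cast hev i
  have hx0L : x0 ∈ leechLattice :=
    mem_iff.2 ⟨1, a0, hrep, hsum, by rw [hm0]; exact golayCode.zero_mem⟩
  have heven : ∀ a : GolayPt → ℤ, (2 : ℤ) • a ∈ L → (2 : ℤ) • a ∈ leechLattice := by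
    intro a ha
    refine mem_mk_even a ?_ (hC _ (mod2_mem_codeOf ha))
    have hd := hL.dvd_dot _ ha x0 hx0
    rw [dotInt_rep (x := (2 : ℤ) • a) (m := 0) (a := a) (fun i => by simp) hrep] at hd
    have h4 : (2 : ℤ) ∣ ∑ i, a i * a0 i := Finset.dvd_sum fun i _ => (hev i).mul_left _
    omega
  have hle : L ≤ leechLattice := by
    intro x hx
    by_cases he : (2 : ℤ) ∣ x none
    · have h := heven _ ((hL.two_smul_halve hx he).symm ▸ hx)
      rwa [hL.two_smul_halve hx he] at h
    · have hd : (2 : ℤ) ∣ (x - x0) none := by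
        have := h1 none; simp only [Pi.sub_apply]; omega
      have h := L.sub_mem hx hx0
      rw [← hL.two_smul_halve h hd] at h
      have h' := heven _ h
      rw [hL.two_smul_halve (L.sub_mem hx hx0) hd] at h'
      simpa using leechLattice.add_mem h' hx0L
  refine le_antisymm hle ?_
  have heq : {x | x ∈ L ∧ sqNorm x = 32} = {x | x ∈ leechLattice ∧ sqNorm x = 32} := by
    have hfin : {x | x ∈ leechLattice ∧ sqNorm x = 32}.Finite := by
      have := finite_shellSet (by norm_num : 8 ∣ (32 : ℕ)) (by norm_num) (by norm_num) allVals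
      rw [shellSet_full (by norm_num)] at this
      exact_mod_cast this
    refine Set.eq_of_subset_of_ncard_le (fun x hx => ⟨hle hx.1, hx.2⟩) (le_of_eq ?_) hfin
    have h := ncard_shellSet (by norm_num : 8 ∣ (32 : ℕ)) (by norm_num) (by norm_num) allVals
    rw [shellSet_full (by norm_num), count32] at h
    rw [hL.count]
    exact_mod_cast h
  rw [← minGen_eq, minGen, AddSubgroup.closure_le, ← heq]
  exact fun x hx => hx.1

/-- Recognition of the lattice from a frame. -/
theorem recognition (H : GolayUnique) (hL : LeechLike L) :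
    ∃ (σ : Equiv.Perm GolayPt) (d : GolayPt → ℤ), (∀ i, d i * d i = 1) ∧
      L.map (twist σ d) = leechLattice := by
  obtain ⟨e, he⟩ := H (codeOf L) hL.finrank_code hL.code_dot hL.code_dvd hL.code_no_four
  obtain ⟨x0, hx0, hn0, hodd⟩ := hL.exists_odd
  set d : GolayPt → ℤ := fun i => if x0 (e i) % 4 = 1 then 1 else -1 with hdd
  have hd : ∀ i, d i * d i = 1 := fun i => by simp only [hdd]; split_ifs <;> norm_num
  refine ⟨e, d, hd, (hL.map e hd).eq_leech ?_ ⟨x0, hx0, rfl⟩ (by rw [sqNorm_twist e hd, hn0]) ?_⟩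
  · rintro _ ⟨a, ⟨x, hx, hxa⟩, rfl⟩
    have hev : (2 : ℤ) ∣ x none := by
      have h := congrFun hxa (e.symm none)
      simp only [twist_apply, Equiv.apply_symm_apply, Pi.smul_apply, smul_eq_mul] at h
      rcases mul_self_eq_one_iff.1 (hd (e.symm none)) with h' | h' <;> rw [h'] at h <;> omega
    have h2 := he _ (mod2_mem_codeOf (by rw [hL.two_smul_halve hx hev]; exact hx))
    convert h2 using 1
    funext i
    have h := congrFun hxa i
    rw [twist_apply, ← congrFun (hL.two_smul_halve hx hev) (e i)] at h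
    simp only [Pi.smul_apply, smul_eq_mul] at h
    simp only [Function.comp_apply, mod2_apply, ZMod.intCast_eq_intCast_iff_dvd_sub]
    rcases mul_self_eq_one_iff.1 (hd i) with h' | h' <;> rw [h'] at h <;> push_cast <;> omega
  · intro i
    rw [twist_apply]
    have := hodd (e i)
    simp only [hdd]
    split_ifs <;> omega

end Cfsg.Agent.Leech
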