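import Cfsg.Agent.Lib.Leech.CrossTrans
import Cfsg.Agent.Lib.Leech.Monomial

/-!
# Transitivity of `Co0` (modulo uniqueness of the code)

* `exists_normalise_pair`, `exists_normalise_triple` : orthogonal congruent norm 64 vectors to `8 eᵢ`
* `exists_to_pairVec` (norm 32 to `4(e∞ + e0)`), `exists_to_fiveVec` (norm 48 to `(5, 1²³)`)
* `transitive32`, `transitive48`, `transitive64`, `transitive_orth` ; `natCard_co0`
-/

set_option autoImplicit false

namespace Cfsg.Agent.Leech

open scoped Pointwise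

theorem eightVec_injective : Function.Injective eightVec := by
  intro i j h
  have h2 := congrFun (congrArg Subtype.val h) i
  by_contra hne
  simp [coe_eightVec, hne] at h2

theorem exists_normalise_triple (H : GolayUnique) {y₁ y₂ y₃ : leechLattice}
    (h1 : sqNorm (y₁ : GolayPt → ℤ) = 64) (h2 : sqNorm (y₂ : GolayPt → ℤ) = 64)
    (h3 : sqNorm (y₃ : GolayPt → ℤ) = 64)
    (c12 : Congr (y₂ : GolayPt → ℤ) (y₁ : GolayPt → ℤ))
    (c13 : Congr (y₃ : GolayPt → ℤ) (y₁ : GolayPt → ℤ))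
    (o12 : dotInt (y₁ : GolayPt → ℤ) (y₂ : GolayPt → ℤ) = 0)
    (o13 : dotInt (y₁ : GolayPt → ℤ) (y₃ : GolayPt → ℤ) = 0)
    (o23 : dotInt (y₂ : GolayPt → ℤ) (y₃ : GolayPt → ℤ) = 0)
    {a b c : GolayPt} (habc : a ≠ b ∧ b ≠ c ∧ a ≠ c) :
    ∃ g : Co0, g • y₁ = eightVec a ∧ g • y₂ = eightVec b ∧ g • y₃ = eightVec c := by
  obtain ⟨g, hg⟩ := exists_to_stdCross H y₁ h1
  have hmem : ∀ y : leechLattice, sqNorm (y : GolayPt → ℤ) = 64 →
      Congr (y : GolayPt → ℤ) (y₁ : GolayPt → ℤ) →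
      ∃ i s, (s = 8 ∨ s = -8) ∧ ((g • y : leechLattice) : GolayPt → ℤ) = Pi.single i s := by
    intro y hy hc
    exact (mem_stdCross_iff_congr none).2 ⟨by rw [sqNorm_smul, hy],
      congr_trans (congr_smul g hc) ((mem_stdCross_iff_congr none).1 hg).2⟩
  obtain ⟨i, s, hs, e1⟩ := hmem y₁ h1 (congr_refl _)
  obtain ⟨j, t, ht, e2⟩ := hmem y₂ h2 c12
  obtain ⟨k, u, hu, e3⟩ := hmem y₃ h3 c13
  have hne : ∀ {y z : leechLattice} {i j : GolayPt} {s t : ℤ}, (s = 8 ∨ s = -8) → (t = 8 ∨ t = -8) →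
      ((g • y : leechLattice) : GolayPt → ℤ) = Pi.single i s →
      ((g • z : leechLattice) : GolayPt → ℤ) = Pi.single j t →
      dotInt (y : GolayPt → ℤ) (z : GolayPt → ℤ) = 0 → i ≠ j := by
    intro y z i j s t hs ht ey ez h hij
    rw [← dotInt_smul g, ey, ez, dotInt_single, hij, Pi.single_eq_same] at h
    rcases hs with rfl | rfl <;> rcases ht with rfl | rfl <;> norm_num at h
  obtain ⟨σ, hσ, ha, hb, hc⟩ :=
    exists_map_three ⟨hne hs ht e1 e2 o12, hne ht hu e2 e3 o23, hne hs hu e1 e3 o13⟩ habc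
  obtain ⟨d, hd, hda, hdb, hdc⟩ := exists_sign_three habc (s = -8) (t = -8) (u = -8)
  have key : ∀ {y : leechLattice} {i p : GolayPt} {s : ℤ}, (s = 8 ∨ s = -8) → σ i = p →
      (p ∈ d ↔ s = -8) → ((g • y : leechLattice) : GolayPt → ℤ) = Pi.single i s →
      (mono σ hσ d hd * g) • y = eightVec p := by
    intro y i p s hs hip hp ey
    refine Subtype.ext ?_
    rw [mul_smul, vec_mono, ey, signedPerm_single, hip, coe_eightVec]
    congr 1
    rcases hs with rfl | rfl
    · rw [if_neg (fun h => by simpa using hp.1 h)]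
    · rw [if_pos (hp.2 rfl)]; rfl
  exact ⟨mono σ hσ d hd * g, key hs ha hda e1, key ht hb hdb e2, key hu hc hdc e3⟩

theorem exists_normalise_pair (H : GolayUnique) {y₁ y₂ : leechLattice}
    (h1 : sqNorm (y₁ : GolayPt → ℤ) = 64) (h2 : sqNorm (y₂ : GolayPt → ℤ) = 64)
    (c12 : Congr (y₂ : GolayPt → ℤ) (y₁ : GolayPt → ℤ))
    (o12 : dotInt (y₁ : GolayPt → ℤ) (y₂ : GolayPt → ℤ) = 0)
    {a b : GolayPt} (hab : a ≠ b) : ∃ g : Co0, g • y₁ = eightVec a ∧ g • y₂ = eightVec b := by
  obtain ⟨g, hg⟩ := exists_to_stdCross H y₁ h1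
  obtain ⟨i, s, hs, e1⟩ := hg
  obtain ⟨j, t, ht, e2⟩ : ∃ j t, (t = 8 ∨ t = -8) ∧
      ((g • y₂ : leechLattice) : GolayPt → ℤ) = Pi.single j t :=
    (mem_stdCross_iff_congr none).2 ⟨by rw [sqNorm_smul, h2], congr_trans (congr_smul g c12)
      ((mem_stdCross_iff_congr none).1 (⟨i, s, hs, e1⟩ : _ ∈ stdCross)).2⟩
  have hij : i ≠ j := by
    intro h
    rw [← dotInt_smul g, e1, e2, dotInt_single, h, Pi.single_eq_same] at o12
    rcases hs with rfl | rfl <;> rcases ht with rfl | rfl <;> norm_num at o12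
  have hthird : ∀ x y : GolayPt, ∃ z, y ≠ z ∧ x ≠ z := by
    intro x y
    obtain ⟨z, hz⟩ : (({x, y} : Finset GolayPt)ᶜ).Nonempty := Finset.card_pos.1 (by
      have := Finset.card_le_two (a := x) (b := y)
      rw [Finset.card_compl, card_pt]; omega)
    simp only [Finset.mem_compl, Finset.mem_insert, Finset.mem_singleton, not_or] at hz
    exact ⟨z, Ne.symm hz.2, Ne.symm hz.1⟩
  obtain ⟨k, hjk, hik⟩ := hthird i j
  obtain ⟨c, hbc, hac⟩ := hthird a b
  obtain ⟨σ, hσ, ha, hb, -⟩ := exists_map_three ⟨hij, hjk, hik⟩ ⟨hab, hbc, hac⟩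
  obtain ⟨d, hd, hda, hdb, -⟩ := exists_sign_three ⟨hab, hbc, hac⟩ (s = -8) (t = -8) False
  refine ⟨mono σ hσ d hd * g, Subtype.ext ?_, Subtype.ext ?_⟩
  · rw [mul_smul, vec_mono, e1, signedPerm_single, ha, coe_eightVec]
    congr 1
    rcases hs with rfl | rfl
    · rw [if_neg (fun h => by simpa using hda.1 h)]
    · rw [if_pos (hda.2 rfl)]; rfl
  · rw [mul_smul, vec_mono, e2, signedPerm_single, hb, coe_eightVec]
    congr 1
    rcases ht with rfl | rfl
    · rw [if_neg (fun h => by simpa using hdb.1 h)]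
    · rw [if_pos (hdb.2 rfl)]; rfl

/-- `4 (s eᵢ + t eⱼ)` as a lattice vector. -/
def pairVec (i j : GolayPt) (s t : ℤ) (h : (2 : ℤ) ∣ s + t) : leechLattice :=
  ⟨_, four_single_add_mem i j s t h⟩

theorem coe_pairVec (i j : GolayPt) (s t : ℤ) (h : (2 : ℤ) ∣ s + t) :
    (pairVec i j s t h : GolayPt → ℤ) = Pi.single i (4 * s) + Pi.single j (4 * t) := rfl

theorem sqNorm_pairVec {i j : GolayPt} (hij : i ≠ j) {s t : ℤ} (h : (2 : ℤ) ∣ s + t)
    (hs : s = 1 ∨ s = -1) (ht : t = 1 ∨ t = -1) :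
    sqNorm (pairVec i j s t h : GolayPt → ℤ) = 32 :=
  (four_pair_minimal hij s t hs ht).2

theorem dotInt_pairVec (x : GolayPt → ℤ) (i j : GolayPt) (s t : ℤ) (h : (2 : ℤ) ∣ s + t) :
    dotInt x (pairVec i j s t h : GolayPt → ℤ) = 4 * (x i * s + x j * t) := by
  rw [coe_pairVec, dotInt_add_right, dotInt_single, dotInt_single]; ring

/-- The standard minimal vector `4(e∞ + e₀)`. -/
def baseU : leechLattice := pairVec none (some 0) 1 1 (by norm_num)

/-- The standard minimal vector `4(e∞ - e₀)`. -/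
def baseU' : leechLattice := pairVec none (some 0) 1 (-1) (by norm_num)

theorem congr_add_sub (v u : leechLattice) :
    Congr ((v - u : leechLattice) : GolayPt → ℤ) ((v + u : leechLattice) : GolayPt → ℤ) :=
  ⟨_, (-u).2, by rw [two_nsmul, AddSubgroup.coe_sub, AddSubgroup.coe_add, AddSubgroup.coe_neg]; abel⟩

theorem eq_of_two_smul {v w : leechLattice} (h : (2 : ℤ) • v = (2 : ℤ) • w) : v = w := by
  refine Subtype.ext (funext fun l => ?_)
  have := congrFun (congrArg Subtype.val h) l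
  simpa using this

/-- Two orthogonal minimal vectors are moved to `4(e∞ ± e₀)`. -/
theorem exists_to_orth_pair (H : GolayUnique) {v u : leechLattice}
    (hv : sqNorm (v : GolayPt → ℤ) = 32) (hu : sqNorm (u : GolayPt → ℤ) = 32)
    (h0 : dotInt (v : GolayPt → ℤ) (u : GolayPt → ℤ) = 0) :
    ∃ g : Co0, g • v = baseU ∧ g • u = baseU' := by
  have n1 : sqNorm ((v + u : leechLattice) : GolayPt → ℤ) = 64 := by
    rw [AddSubgroup.coe_add, sqNorm_add, hv, hu, h0]; norm_num
  have n2 : sqNorm ((v - u : leechLattice) : GolayPt → ℤ) = 64 := by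
    rw [AddSubgroup.coe_sub, sqNorm_sub, hv, hu, h0]; norm_num
  have o : dotInt ((v + u : leechLattice) : GolayPt → ℤ) ((v - u : leechLattice) : GolayPt → ℤ) = 0 := by
    rw [AddSubgroup.coe_add, AddSubgroup.coe_sub, dotInt_add_left, dotInt_sub_right, dotInt_sub_right,
      ← sqNorm_eq_dotInt, ← sqNorm_eq_dotInt, hv, hu, h0, dotInt_comm (u : GolayPt → ℤ), h0]
    norm_num
  obtain ⟨g, ga, gb⟩ := exists_normalise_pair H n1 n2 (congr_add_sub v u) o
    (a := none) (b := some 0) (by simp)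
  refine ⟨g, eq_of_two_smul ?_, eq_of_two_smul ?_⟩
  · rw [← smul_zsmul, show (2 : ℤ) • v = (v + u) + (v - u) by abel, smul_vadd, ga, gb]
    refine Subtype.ext (funext fun l => ?_)
    simp only [baseU, AddSubgroup.coe_add, AddSubgroup.coe_zsmul, coe_pairVec, coe_eightVec,
      Pi.add_apply, Pi.smul_apply, Pi.single_apply, smul_eq_mul]
    split_ifs <;> norm_num
  · rw [← smul_zsmul, show (2 : ℤ) • u = (v + u) - (v - u) by abel, smul_vsub, ga, gb]
    refine Subtype.ext (funext fun l => ?_)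
    simp only [baseU', AddSubgroup.coe_sub, AddSubgroup.coe_zsmul, coe_pairVec, coe_eightVec,
      Pi.add_apply, Pi.sub_apply, Pi.smul_apply, Pi.single_apply, smul_eq_mul]
    split_ifs <;> norm_num

theorem exists_abs_eq {x : GolayPt → ℤ} (h : ∀ i, -7 ≤ x i ∧ x i ≤ 7) :
    ∃ i j, i ≠ j ∧ (x i = x j ∨ x i = -x j) := by
  obtain ⟨i, -, j, -, hne, he⟩ := Finset.exists_ne_map_eq_of_card_lt_of_maps_to
    (s := (Finset.univ : Finset GolayPt)) (t := Finset.range 8) (f := fun i => (x i).natAbs)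
    (by rw [Finset.card_univ, card_pt, Finset.card_range]; norm_num)
    (fun i _ => Finset.mem_coe.2 (Finset.mem_range.2 (by have := h i; beta_reduce; omega)))
  exact ⟨i, j, hne, Int.natAbs_eq_natAbs_iff.1 he⟩

theorem exists_orth_min {v : leechLattice} (hv : sqNorm (v : GolayPt → ℤ) = 32) :
    ∃ u : leechLattice, sqNorm (u : GolayPt → ℤ) = 32 ∧
      dotInt (v : GolayPt → ℤ) (u : GolayPt → ℤ) = 0 := by
  have hb : ∀ i, -7 ≤ (v : GolayPt → ℤ) i ∧ (v : GolayPt → ℤ) i ≤ 7 := by
    intro i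
    have h := sq_le_sqNorm (v : GolayPt → ℤ) i
    rw [hv] at h
    have := abs_lt.1 (abs_lt_of_sq_lt_sq (show (v : GolayPt → ℤ) i ^ 2 < 6 ^ 2 by omega) (by norm_num))
    omega
  obtain ⟨i, j, hne, he | he⟩ := exists_abs_eq hb
  · exact ⟨pairVec i j 1 (-1) (by norm_num), sqNorm_pairVec hne _ (Or.inl rfl) (Or.inr rfl),
      by rw [dotInt_pairVec, he]; ring⟩
  · exact ⟨pairVec i j 1 1 (by norm_num), sqNorm_pairVec hne _ (Or.inl rfl) (Or.inl rfl),
      by rw [dotInt_pairVec, he]; ring⟩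

theorem exists_to_baseU (H : GolayUnique) {v : leechLattice}
    (hv : sqNorm (v : GolayPt → ℤ) = 32) : ∃ g : Co0, g • v = baseU := by
  obtain ⟨u, hu, h0⟩ := exists_orth_min hv
  obtain ⟨g, hg, -⟩ := exists_to_orth_pair H hv hu h0
  exact ⟨g, hg⟩

theorem transitive32 (H : GolayUnique) {v w : leechLattice} (hv : sqNorm (v : GolayPt → ℤ) = 32)
    (hw : sqNorm (w : GolayPt → ℤ) = 32) : ∃ g : Co0, g • v = w := by
  obtain ⟨g, hg⟩ := exists_to_baseU H hv
  obtain ⟨k, hk⟩ := exists_to_baseU H hw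
  exact ⟨k⁻¹ * g, by rw [mul_smul, hg, ← hk, inv_smul_smul]⟩

theorem transitive_orth (H : GolayUnique) {v w w' : leechLattice}
    (hv : sqNorm (v : GolayPt → ℤ) = 32) (hw : sqNorm (w : GolayPt → ℤ) = 32)
    (hw' : sqNorm (w' : GolayPt → ℤ) = 32) (hd : dotInt (v : GolayPt → ℤ) (w : GolayPt → ℤ) = 0)
    (hd' : dotInt (v : GolayPt → ℤ) (w' : GolayPt → ℤ) = 0) :
    ∃ g : Co0, g • v = v ∧ g • w = w' := by
  obtain ⟨g, hg1, hg2⟩ := exists_to_orth_pair H hv hw hd
  obtain ⟨k, hk1, hk2⟩ := exists_to_orth_pair H hv hw' hd'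
  exact ⟨k⁻¹ * g, by rw [mul_smul, hg1, ← hk1, inv_smul_smul],
    by rw [mul_smul, hg2, ← hk2, inv_smul_smul]⟩

theorem transitive64 (H : GolayUnique) {v w : leechLattice} (hv : sqNorm (v : GolayPt → ℤ) = 64)
    (hw : sqNorm (w : GolayPt → ℤ) = 64) :
    ∃ g : Co0, Congr ((g • v : leechLattice) : GolayPt → ℤ) (w : GolayPt → ℤ) := by
  obtain ⟨g, hg⟩ := exists_to_stdCross H v hv
  obtain ⟨k, hk⟩ := exists_to_stdCross H w hw
  refine ⟨k⁻¹ * g, ?_⟩
  have := congr_smul k⁻¹ (congr_of_mem_stdCross hg hk)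
  rwa [inv_smul_smul, ← mul_smul] at this

/-- The norm 48 vector `(5, 1²³)`. -/
def fiveFun : GolayPt → ℤ := fun i => if i = none then 5 else 1

theorem fiveFun_mem : fiveFun ∈ leechLattice :=
  mem_leechLattice.2 (Spor.mem_leechSet_of_const_mod_four fiveFun 1 1 (by decide) (by decide)
    (by decide +kernel))

/-- The norm 48 vector `(5, 1²³)` as a lattice vector. -/
def baseF : leechLattice := ⟨fiveFun, fiveFun_mem⟩

theorem sqNorm_baseF : sqNorm (baseF : GolayPt → ℤ) = 48 := by decide +kernel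

theorem exists_min_dot_eight {v : leechLattice} (hv : sqNorm (v : GolayPt → ℤ) = 48) :
    ∃ u : leechLattice, sqNorm (u : GolayPt → ℤ) = 32 ∧
      dotInt (v : GolayPt → ℤ) (u : GolayPt → ℤ) = 8 := by
  obtain ⟨m, a, hm, h1, h2, h3⟩ := exists_rep v.2
  rcases hm with rfl | rfl
  · have hn : sqNorm (v : GolayPt → ℤ) = 4 * ∑ i, a i ^ 2 := by rw [sqNorm_rep h1]; ring
    rw [hv] at hn
    have hs : ∑ i, a i ^ 2 = 12 := by omega
    have hA : (support₂ (mod2 a)).Nonempty := by
      rw [Finset.nonempty_iff_ne_empty]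
      intro he
      have hev : ∀ i, (2 : ℤ) ∣ a i := fun i => by
        have : i ∉ support₂ (mod2 a) := by rw [he]; simp
        simpa [support₂_mod2] using this
      choose b hb using hev
      have e1 : ∑ i, a i = 2 * ∑ i, b i := by
        rw [Finset.mul_sum]; exact Finset.sum_congr rfl fun i _ => hb i
      have e2 : ∑ i, a i ^ 2 = 4 * ∑ i, b i ^ 2 := by
        rw [Finset.mul_sum]; exact Finset.sum_congr rfl fun i _ => by rw [hb i]; ring
      have e3 : (2 : ℤ) ∣ ∑ i, b i ^ 2 - ∑ i, b i := by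
        rw [← Finset.sum_sub_distrib]
        refine Finset.dvd_sum fun i _ => ?_
        rw [sq, show b i * b i - b i = b i * (b i - 1) by ring]
        exact (Int.even_mul_pred_self _).two_dvd
      simp only [Int.ModEq] at h2
      omega
    have h8 : 8 ≤ (support₂ (mod2 a)).card := by
      have := hA.card_pos
      rcases code_weight h3 with h | h | h | h | h <;> omega
    obtain ⟨i, hi, hi1⟩ : ∃ i ∈ support₂ (mod2 a), a i ^ 2 = 1 := by
      by_contra hne
      push Not at hne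
      have h9 : ∀ i ∈ support₂ (mod2 a), (9 : ℤ) ≤ a i ^ 2 := by
        intro i hi
        have h0 := hne i hi
        rw [support₂_mod2, Finset.mem_filter] at hi
        rcases le_or_gt 3 (a i) with h | h
        · nlinarith
        rcases le_or_gt (a i) (-3) with h' | h'
        · nlinarith
        rcases (show a i = 1 ∨ a i = -1 by omega) with e | e <;> rw [e] at h0 <;> norm_num at h0
      have hle := (Finset.sum_le_sum h9).trans
        (Finset.sum_le_sum_of_subset_of_nonneg (Finset.subset_univ _) fun i _ _ => sq_nonneg (a i))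
      rw [Finset.sum_const, nsmul_eq_mul, hs] at hle
      omega
    obtain ⟨j, hj⟩ : ∃ j, a j = 0 := by
      by_contra hne
      push Not at hne
      have h24 : (24 : ℤ) ≤ ∑ i, a i ^ 2 := by
        rw [show (24 : ℤ) = ∑ _i : GolayPt, 1 by simp]
        exact Finset.sum_le_sum fun i _ => by have := sq_pos_of_ne_zero (hne i); omega
      omega
    have hij : i ≠ j := fun e => by subst e; rw [hj] at hi1; norm_num at hi1
    rcases sq_eq_one_iff.1 hi1 with e | e
    · exact ⟨pairVec i j 1 1 (by norm_num), sqNorm_pairVec hij _ (Or.inl rfl) (Or.inl rfl),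
        by rw [dotInt_pairVec, h1 i, h1 j, hj, e]; norm_num⟩
    · exact ⟨pairVec i j (-1) 1 (by norm_num), sqNorm_pairVec hij _ (Or.inr rfl) (Or.inl rfl),
        by rw [dotInt_pairVec, h1 i, h1 j, hj, e]; norm_num⟩
  · have hodd : ∀ i, ¬ (2 : ℤ) ∣ (v : GolayPt → ℤ) i := fun i => by rw [h1 i]; omega
    set T := Finset.univ.filter fun i => (v : GolayPt → ℤ) i ^ 2 ≠ 1
    have hT : (9 : ℤ) * T.card + ((24 : ℤ) - T.card) ≤ 48 := by
      rw [← hv, sqNorm, ← Finset.sum_add_sum_compl T]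
      have e : ((24 : ℤ) - T.card) = ∑ _i ∈ Tᶜ, (1 : ℤ) := by
        have := T.card_le_univ
        rw [card_pt] at this
        rw [Finset.sum_const, Finset.card_compl, card_pt, nsmul_eq_mul, mul_one]
        omega
      rw [e, mul_comm, ← nsmul_eq_mul, ← Finset.sum_const]
      refine add_le_add (Finset.sum_le_sum fun i hi => ?_)
        (Finset.sum_le_sum fun i _ => by
          have := sq_pos_of_ne_zero (show (v : GolayPt → ℤ) i ≠ 0 from fun h => hodd i (by simp [h]))
          omega)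
      have h := (Finset.mem_filter.1 hi).2
      have := hodd i
      rcases le_or_gt 3 ((v : GolayPt → ℤ) i) with h' | h'
      · nlinarith
      rcases le_or_gt ((v : GolayPt → ℤ) i) (-3) with h'' | h''
      · nlinarith
      rcases (show (v : GolayPt → ℤ) i = 1 ∨ (v : GolayPt → ℤ) i = -1 by omega) with e | e <;>
        rw [e] at h <;> norm_num at h
    obtain ⟨i, hi, j, hj, hij⟩ := Finset.one_lt_card.1 (show 1 < Tᶜ.card by
      rw [Finset.card_compl, card_pt]; omega)
    simp only [T, Finset.mem_compl, Finset.mem_filter, Finset.mem_univ, true_and, not_not] at hi hj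
    rcases sq_eq_one_iff.1 hi with e | e <;> rcases sq_eq_one_iff.1 hj with e' | e'
    · exact ⟨pairVec i j 1 1 (by norm_num), sqNorm_pairVec hij _ (Or.inl rfl) (Or.inl rfl),
        by rw [dotInt_pairVec, e, e']; norm_num⟩
    · exact ⟨pairVec i j 1 (-1) (by norm_num), sqNorm_pairVec hij _ (Or.inl rfl) (Or.inr rfl),
        by rw [dotInt_pairVec, e, e']; norm_num⟩
    · exact ⟨pairVec i j (-1) 1 (by norm_num), sqNorm_pairVec hij _ (Or.inr rfl) (Or.inl rfl),
        by rw [dotInt_pairVec, e, e']; norm_num⟩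
    · exact ⟨pairVec i j (-1) (-1) (by norm_num), sqNorm_pairVec hij _ (Or.inr rfl) (Or.inr rfl),
        by rw [dotInt_pairVec, e, e']; norm_num⟩

/-- A norm 48 vector with first coordinate 5 is a sign change of `(5, 1²³)`. -/
theorem exists_sign_to_baseF {w : leechLattice} (hn : sqNorm (w : GolayPt → ℤ) = 48)
    (h5 : (w : GolayPt → ℤ) none = 5) : ∃ g : Co0, g • w = baseF := by
  obtain ⟨m, hpar, -, hk⟩ := mem_leechLattice.1 w.2
  have hodd : ∀ i, ¬ (2 : ℤ) ∣ (w : GolayPt → ℤ) i := by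
    intro i
    have a := hpar i
    have b := hpar none
    rw [h5] at b
    simp only [Int.ModEq] at a b
    omega
  have hpos : ∀ i, 1 ≤ (w : GolayPt → ℤ) i ^ 2 := fun i => by
    have := sq_pos_of_ne_zero (show (w : GolayPt → ℤ) i ≠ 0 from fun h => hodd i (by simp [h]))
    omega
  have hrest : ∀ i, i ≠ none → (w : GolayPt → ℤ) i ^ 2 = 1 := by
    have hs := Finset.add_sum_erase Finset.univ (fun i => (w : GolayPt → ℤ) i ^ 2)
      (Finset.mem_univ none)
    have he := (Finset.sum_eq_sum_iff_of_le fun i (_ : i ∈ Finset.univ.erase none) => hpos i).1 (by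
      rw [Finset.sum_const, Finset.card_erase_of_mem (Finset.mem_univ _), Finset.card_univ, card_pt,
        nsmul_eq_mul]
      have hn' : ∑ i, (w : GolayPt → ℤ) i ^ 2 = 48 := hn
      rw [hn', h5] at hs
      generalize ∑ i ∈ Finset.univ.erase (none : GolayPt), (w : GolayPt → ℤ) i ^ 2 = S at hs ⊢
      norm_num at hs ⊢
      omega)
    exact fun i hi => (he i (Finset.mem_erase.2 ⟨hi, Finset.mem_univ i⟩)).symm
  refine ⟨signEl _ (hk 3), Subtype.ext ?_⟩
  funext i
  rw [vec_signEl]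
  simp only [Finset.mem_filter, Finset.mem_univ, true_and]
  show _ = fiveFun i
  simp only [fiveFun]
  by_cases hi : i = none
  · subst hi; rw [h5, if_pos rfl, if_neg]; decide
  · rw [if_neg hi]
    rcases sq_eq_one_iff.1 (hrest i hi) with e | e <;> simp [e, Int.ModEq]

theorem exists_to_baseF (H : GolayUnique) {v : leechLattice} (hv : sqNorm (v : GolayPt → ℤ) = 48) :
    ∃ g : Co0, g • v = baseF := by
  obtain ⟨u, hu, h8⟩ := exists_min_dot_eight hv
  have hn : sqNorm ((v - u : leechLattice) : GolayPt → ℤ) = 64 := by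
    rw [AddSubgroup.coe_sub, sqNorm_sub, hv, hu, h8]; norm_num
  obtain ⟨g, hg⟩ := exists_to_stdCross H _ hn
  obtain ⟨i, s, hs, he⟩ := hg
  obtain ⟨σ, hσ, hi, -, -⟩ : ∃ σ ∈ M24, σ i = none ∧ True ∧ True := by
    obtain ⟨p, hp⟩ : (({i} : Finset GolayPt)ᶜ).Nonempty := Finset.card_pos.1 (by
      rw [Finset.card_compl, Finset.card_singleton, card_pt]; omega)
    obtain ⟨q, hq⟩ : (({i, p} : Finset GolayPt)ᶜ).Nonempty := Finset.card_pos.1 (by
      have := Finset.card_le_two (a := i) (b := p)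
      rw [Finset.card_compl, card_pt]; omega)
    simp only [Finset.mem_compl, Finset.mem_insert, Finset.mem_singleton, not_or] at hp hq
    obtain ⟨σ, hσ, h, -, -⟩ := exists_map_three (a' := none) (b' := some 0) (c' := some 1)
      ⟨Ne.symm hp, Ne.symm hq.2, Ne.symm hq.1⟩ (by decide)
    exact ⟨σ, hσ, h, trivial, trivial⟩
  obtain ⟨d, hd, hd', -, -⟩ := exists_sign_three (a := (none : GolayPt)) (b := some 0) (c := some 1)
    (by decide) (s = -8) False False
  set k := mono σ hσ d hd * g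
  have hk8 : k • (v - u) = eightVec none := Subtype.ext (by
    rw [mul_smul, vec_mono, he, signedPerm_single, hi, coe_eightVec]
    congr 1
    rcases hs with rfl | rfl
    · rw [if_neg (fun h => by simpa using hd'.1 h)]
    · rw [if_pos (hd'.2 rfl)]; rfl)
  have h5 : ((k • v : leechLattice) : GolayPt → ℤ) none = 5 := by
    have h := dotInt_smul k v (v - u)
    rw [hk8, coe_eightVec, dotInt_single, AddSubgroup.coe_sub, dotInt_sub_right, ← sqNorm_eq_dotInt,
      hv, h8] at h
    omega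
  obtain ⟨f, hf⟩ := exists_sign_to_baseF (by rw [sqNorm_smul, hv]) h5
  exact ⟨f * k, by rw [mul_smul, hf]⟩

theorem transitive48 (H : GolayUnique) {v w : leechLattice} (hv : sqNorm (v : GolayPt → ℤ) = 48)
    (hw : sqNorm (w : GolayPt → ℤ) = 48) : ∃ g : Co0, g • v = w := by
  obtain ⟨g, hg⟩ := exists_to_baseF H hv
  obtain ⟨k, hk⟩ := exists_to_baseF H hw
  exact ⟨k⁻¹ * g, by rw [mul_smul, hg, ← hk, inv_smul_smul]⟩

theorem natCard_co0 (H : GolayUnique) : Nat.card Co0 = 8315553613086720000 := by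
  classical
  let f : Co0 ⧸ stdStab → crosses := Quotient.lift
    (fun g : Co0 => (⟨cross ((g • eightVec none : leechLattice) : GolayPt → ℤ),
      Set.mem_image_of_mem cross
        ⟨(g • eightVec none).2, by rw [sqNorm_smul, sqNorm_eightVec]⟩⟩ : crosses))
    (fun g k hgk => by
      have h : g⁻¹ * k ∈ stdStab := QuotientGroup.leftRel_apply.1 hgk
      obtain ⟨-, hc⟩ := (mem_stdCross_iff_congr none).1 h
      refine Subtype.ext (cross_eq_of_congr ?_ (by rw [sqNorm_smul, sqNorm_smul]))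
      have := congr_smul g hc
      rw [← mul_smul, mul_inv_cancel_left] at this
      exact congr_symm this)
  have hf : Function.Bijective f := by
    constructor
    · rintro ⟨g⟩ ⟨k⟩ h
      refine QuotientGroup.eq.2 ((mem_stdCross_iff_congr none).2 ⟨?_, ?_⟩)
      · rw [sqNorm_smul, sqNorm_eightVec]
      · have hm := mem_cross_self (g • eightVec none).2
        rw [show cross ((g • eightVec none : leechLattice) : GolayPt → ℤ)
          = cross ((k • eightVec none : leechLattice) : GolayPt → ℤ) from congrArg Subtype.val h] at hm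
        have := congr_smul g⁻¹ hm.2.2
        rwa [inv_smul_smul, ← mul_smul] at this
    · rintro ⟨_, x, ⟨hx, hxn⟩, rfl⟩
      obtain ⟨g, hg⟩ := exists_to_stdCross H ⟨x, hx⟩ hxn
      refine ⟨QuotientGroup.mk g⁻¹, Subtype.ext (cross_eq_of_congr ?_
        (by rw [sqNorm_smul, sqNorm_eightVec, hxn]))⟩
      have := congr_smul g⁻¹ (congr_of_mem_stdCross (eightVec_mem_stdCross none) hg)
      rwa [inv_smul_smul] at this
  have h1 := Subgroup.card_mul_index stdStab
  rw [Subgroup.index_eq_card, Nat.card_congr (Equiv.ofBijective f hf), Nat.card_coe_set_eq,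
    ncard_crosses, natCard_stdStab] at h1
  rw [← h1]

end Cfsg.Agent.Leech
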