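import Cfsg.Agent.Lib.Leech.Transitive
import Cfsg.Agent.Lib.Golay.Unique

/-!
# Discharging the uniqueness hypothesis

* `golayUnique : GolayUnique`
-/

set_option autoImplicit false

namespace Cfsg.Agent.Leech

theorem golayUnique : GolayUnique := by
  intro C hdim horth h4 hno4
  obtain ⟨τ, hτ⟩ := Golay.golayCode_unique C hdim horth (fun w hw => h4 w hw) (fun w hw => hno4 w hw)
  exact ⟨τ, fun w hw => (hτ w).1 hw⟩

end Cfsg.Agent.Leech
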